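import Cfsg.Agent.Linear.Perfect
import Mathlib.GroupTheory.SpecificGroups.Alternating
import Mathlib.Tactic

/-!
# `SL₄(2) ≅ A₈`

`SL₄(2)` acts by `W ↦ g W gᵀ` on alternating `4 × 4` matrices over `ZMod 2`; the 28 non-degenerate
ones are the sums `v i + v j` for eight matrices `v i`, and this gives an action on eight points.
-/

set_option autoImplicit false

namespace CfsgLib.GLFourTwo

open Matrix

/-- Eight alternating matrices whose pairwise sums are the non-degenerate ones. -/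
def v : Fin 8 → Matrix (Fin 4) (Fin 4) (ZMod 2) :=
  ![0,
    !![0,0,0,1; 0,0,1,0; 0,1,0,0; 1,0,0,0],
    !![0,0,1,1; 0,0,0,1; 1,0,0,0; 1,1,0,0],
    !![0,1,1,0; 1,0,1,1; 1,1,0,0; 0,1,0,0],
    !![0,1,1,1; 1,0,0,0; 1,0,0,1; 1,0,1,0],
    !![0,1,0,0; 1,0,1,0; 0,1,0,1; 0,0,1,0],
    !![0,1,0,1; 1,0,0,1; 0,0,0,1; 1,1,1,0],
    !![0,0,1,0; 0,0,1,1; 1,1,0,1; 0,1,1,0]]

/-- `π` is the permutation of the eight points induced by `g`. -/
def Induces (g : Matrix.SpecialLinearGroup (Fin 4) (ZMod 2)) (π : Equiv.Perm (Fin 8)) : Prop :=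
  ∀ i j, g.1 * (v i + v j) * g.1ᵀ = v (π i) + v (π j)

set_option maxRecDepth 100000 in
theorem pair_unique : ∀ i i' : Fin 8, (∀ j, v i + v j = v i' + v j) → i = i' := by
  decide +kernel

set_option maxRecDepth 100000 in
theorem pair_eq : ∀ i j k l : Fin 8, i ≠ j → v i + v j = v k + v l →
    (i = k ∧ j = l) ∨ (i = l ∧ j = k) := by
  decide +kernel

theorem induces_unique {g : Matrix.SpecialLinearGroup (Fin 4) (ZMod 2)} {π π' : Equiv.Perm (Fin 8)}
    (h : Induces g π) (h' : Induces g π') : π = π' := by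
  refine Equiv.ext fun i => ?_
  by_contra hne
  have key : ∀ j, j ≠ i → π' j = π i := by
    intro j hj
    have he := (h i j).symm.trans (h' i j)
    rcases pair_eq _ _ _ _ (fun he' => hj (π.injective he').symm) he with ⟨h1, _⟩ | ⟨h1, _⟩
    · exact absurd h1 hne
    · exact h1.symm
  obtain ⟨a, b, hai, hbi, hab⟩ : ∃ a b : Fin 8, a ≠ i ∧ b ≠ i ∧ a ≠ b := by
    exact (by decide : ∀ i : Fin 8, ∃ a b : Fin 8, a ≠ i ∧ b ≠ i ∧ a ≠ b) i
  exact hab (π'.injective ((key a hai).trans (key b hbi).symm))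

theorem induces_one : Induces 1 1 := fun i j => by simp

theorem induces_mul {g h : Matrix.SpecialLinearGroup (Fin 4) (ZMod 2)} {π ρ : Equiv.Perm (Fin 8)}
    (hg : Induces g π) (hh : Induces h ρ) : Induces (g * h) (π * ρ) := by
  intro i j
  rw [Matrix.SpecialLinearGroup.coe_mul, Matrix.transpose_mul, Equiv.Perm.mul_apply,
    Equiv.Perm.mul_apply, ← hg, ← hh]
  simp only [Matrix.mul_assoc]

/-- The permutations of the twelve elementary transvections. -/
def tPerm : Fin 4 → Fin 4 → Equiv.Perm (Fin 8)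
  | 0, 1 => Equiv.swap 0 4 * Equiv.swap 1 5 * Equiv.swap 2 6 * Equiv.swap 3 7
  | 0, 2 => Equiv.swap 0 2 * Equiv.swap 1 3 * Equiv.swap 4 6 * Equiv.swap 5 7
  | 0, 3 => Equiv.swap 0 1 * Equiv.swap 2 3 * Equiv.swap 4 5 * Equiv.swap 6 7
  | 1, 0 => Equiv.swap 0 5 * Equiv.swap 1 6 * Equiv.swap 2 4 * Equiv.swap 3 7
  | 1, 2 => Equiv.swap 0 1 * Equiv.swap 2 3 * Equiv.swap 4 7 * Equiv.swap 5 6
  | 1, 3 => Equiv.swap 0 3 * Equiv.swap 1 2 * Equiv.swap 4 6 * Equiv.swap 5 7
  | 2, 0 => Equiv.swap 0 7 * Equiv.swap 1 2 * Equiv.swap 3 5 * Equiv.swap 4 6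
  | 2, 1 => Equiv.swap 0 1 * Equiv.swap 2 7 * Equiv.swap 3 6 * Equiv.swap 4 5
  | 2, 3 => Equiv.swap 0 5 * Equiv.swap 1 4 * Equiv.swap 2 6 * Equiv.swap 3 7
  | 3, 0 => Equiv.swap 0 1 * Equiv.swap 2 7 * Equiv.swap 3 4 * Equiv.swap 5 6
  | 3, 1 => Equiv.swap 0 2 * Equiv.swap 1 7 * Equiv.swap 3 5 * Equiv.swap 4 6
  | 3, 2 => Equiv.swap 0 6 * Equiv.swap 1 5 * Equiv.swap 2 4 * Equiv.swap 3 7
  | _, _ => 1

set_option maxRecDepth 100000 in
theorem sign_tPerm : ∀ i j, Equiv.Perm.sign (tPerm i j) = 1 := by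
  decide +kernel

set_option maxRecDepth 100000 in
theorem tPerm_spec : ∀ a b : Fin 4, a ≠ b → ∀ i j : Fin 8,
    (1 + Matrix.single a b (1 : ZMod 2)) * (v i + v j) * (1 + Matrix.single a b (1 : ZMod 2))ᵀ =
      v (tPerm a b i) + v (tPerm a b j) := by
  decide +kernel

theorem induces_transvection {a b : Fin 4} (h : a ≠ b) :
    Induces (Matrix.SpecialLinearGroup.transvection h (1 : ZMod 2)) (tPerm a b) := fun i j => by
  rw [Matrix.SpecialLinearGroup.transvection_coe]
  exact tPerm_spec a b h i j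

theorem exists_induces (g : Matrix.SpecialLinearGroup (Fin 4) (ZMod 2)) :
    ∃ π : alternatingGroup (Fin 8), Induces g π := by
  induction g using CfsgLib.Linear.sl_induction with
  | hone => exact ⟨1, induces_one⟩
  | htransvec i j h c =>
    rcases (show c = 0 ∨ c = 1 by revert c; decide) with rfl | rfl
    · refine ⟨1, ?_⟩
      have : Matrix.SpecialLinearGroup.transvection h (0 : ZMod 2) = 1 := by
        ext : 1; simp [Matrix.SpecialLinearGroup.transvection_coe]
      rw [this]; exact induces_one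
    · exact ⟨⟨tPerm i j, Equiv.Perm.mem_alternatingGroup.2 (sign_tPerm i j)⟩, induces_transvection h⟩
  | hmul A B hA hB =>
    obtain ⟨π, hπ⟩ := hA
    obtain ⟨ρ, hρ⟩ := hB
    exact ⟨π * ρ, induces_mul hπ hρ⟩

/-- The action of `SL₄(2)` on eight points. -/
noncomputable def toAlt :
    Matrix.SpecialLinearGroup (Fin 4) (ZMod 2) →* alternatingGroup (Fin 8) :=
  MonoidHom.mk' (fun g => (exists_induces g).choose) fun g h => Subtype.ext
    (induces_unique (exists_induces (g * h)).choose_spec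
      (induces_mul (exists_induces g).choose_spec (exists_induces h).choose_spec))

theorem toAlt_spec (g : Matrix.SpecialLinearGroup (Fin 4) (ZMod 2)) : Induces g (toAlt g) :=
  (exists_induces g).choose_spec

theorem toAlt_injective : Function.Injective toAlt := by
  have hc : Subgroup.center (Matrix.SpecialLinearGroup (Fin 4) (ZMod 2)) = ⊥ := by
    rw [← Subgroup.card_eq_one, CfsgLib.Linear.card_center_SL]
    simp
  haveI : Fact (Nat.Prime 2) := ⟨Nat.prime_two⟩
  haveI := CfsgLib.Linear.isSimpleGroup_PSL (ι := Fin 4) (F := ZMod 2) (by simp)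
  haveI hs : IsSimpleGroup (Matrix.SpecialLinearGroup (Fin 4) (ZMod 2)) :=
    ((QuotientGroup.quotientMulEquivOfEq hc).trans QuotientGroup.quotientBot).symm.isSimpleGroup
  rw [← MonoidHom.ker_eq_bot_iff]
  refine (hs.eq_bot_or_eq_top_of_normal _ inferInstance).resolve_right fun htop => ?_
  have h01 : (0 : Fin 4) ≠ 1 := by decide
  have h1 : toAlt (Matrix.SpecialLinearGroup.transvection h01 (1 : ZMod 2)) = 1 := by
    rw [← MonoidHom.mem_ker, htop]; exact Subgroup.mem_top _
  have h2 := induces_unique (toAlt_spec (Matrix.SpecialLinearGroup.transvection h01 (1 : ZMod 2)))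
    (induces_transvection h01)
  rw [h1] at h2
  exact absurd (congrArg (fun e : Equiv.Perm (Fin 8) => e 0) h2) (by decide)

theorem card_SL_four_two : Nat.card (Matrix.SpecialLinearGroup (Fin 4) (ZMod 2)) = 20160 := by
  haveI : Fact (Nat.Prime 2) := ⟨Nat.prime_two⟩
  have h := CfsgLib.Linear.card_SL_mul (n := Fin 4) (F := ZMod 2)
  rw [CfsgLib.Linear.card_GL, ZMod.card, Fintype.card_fin] at h
  rw [Fin.prod_univ_four] at h
  revert h
  generalize Nat.card (Matrix.SpecialLinearGroup (Fin 4) (ZMod 2)) = N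
  intro h
  norm_num at h
  exact h

theorem card_alternating_eight : Nat.card (alternatingGroup (Fin 8)) = 20160 := by
  rw [nat_card_alternatingGroup, Nat.card_eq_fintype_card, Fintype.card_fin]
  decide

theorem toAlt_bijective : Function.Bijective toAlt := by
  rw [Nat.bijective_iff_injective_and_card]
  exact ⟨toAlt_injective, by rw [card_SL_four_two, card_alternating_eight]⟩

/-- `SL₄(2) ≅ A₈`. -/
noncomputable def equivAlt :
    Matrix.SpecialLinearGroup (Fin 4) (ZMod 2) ≃* alternatingGroup (Fin 8) :=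
  MulEquiv.ofBijective toAlt toAlt_bijective

end CfsgLib.GLFourTwo
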