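import Cfsg.Agent.GLFourTwo.Iso168
import Cfsg.Agent.Characters.Burnside
import Cfsg.Agent.Classification.SimpleSixty
import Cfsg.Agent.S5944
import Cfsg.Agent.S0985
import Cfsg.Agent.PLocal.Cores
import Mathlib

/-!
# Non-solvable subgroups of symmetric groups of degree at most seven
-/

set_option autoImplicit false

namespace CfsgLib.GLFourTwo

open Equiv Cfsg

/-- A group with order dividing `p^a q^b` is solvable. -/
theorem solvable_paqb {G : Type*} [Group G] [Finite G] (p q a b : ℕ) (hp : p.Prime) (hq : q.Prime)
    (h : Nat.card G ∣ p ^ a * q ^ b) : Group.IsSolvable G :=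
  CfsgLib.Characters.isSolvable_of_card_eq_primePow_mul p q a b hp hq h

/-- A group of squarefree order is solvable. -/
theorem solvable_squarefree {G : Type*} [Group G] [Finite G] (h : Squarefree (Nat.card G)) :
    Group.IsSolvable G := by
  haveI : IsZGroup G := IsZGroup.of_squarefree h
  infer_instance

theorem solvable_extension {G : Type*} [Group G] (N : Subgroup G) [N.Normal]
    (hN : Group.IsSolvable N) (hQ : Group.IsSolvable (G ⧸ N)) : Group.IsSolvable G :=
  Group.isSolvable_of_ker_le_range N.subtype (QuotientGroup.mk' N)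
    (by rw [QuotientGroup.ker_mk', Subgroup.range_subtype])

theorem solvable_twelve {G : Type*} [Group G] [Finite G] (h : Nat.card G ∣ 24) :
    Group.IsSolvable G :=
  solvable_paqb 2 3 3 1 Nat.prime_two Nat.prime_three (h.trans (by norm_num))

theorem solvable_eighty_four {G : Type*} [Group G] [Finite G] (h : Nat.card G = 84) :
    Group.IsSolvable G := by
  haveI : Fact (Nat.Prime 7) := ⟨by norm_num⟩
  obtain ⟨P⟩ : Nonempty (Sylow 7 G) := inferInstance
  have h1 : Nat.card (Sylow 7 G) = 1 := by
    have ha := Sylow.card_dvd_index P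
    have hm := card_sylow_modEq_one 7 G
    have hP : Nat.card (P : Subgroup G) = 7 := by
      rw [P.card_eq_multiplicity, h, show (84 : ℕ) = 7 ^ 1 * 12 from rfl,
        Nat.factorization_mul (by norm_num) (by norm_num), Finsupp.add_apply,
        Nat.factorization_pow_self (by norm_num : Nat.Prime 7),
        Nat.factorization_eq_zero_of_not_dvd (by norm_num : ¬ 7 ∣ 12)]
      norm_num
    have hi := (P : Subgroup G).card_mul_index
    rw [hP, h] at hi
    have hi' : (P : Subgroup G).index = 12 := by omega
    rw [hi'] at ha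
    have := Nat.le_of_dvd (by norm_num) ha
    unfold Nat.ModEq at hm
    interval_cases hk : Nat.card (Sylow 7 G) <;> omega
  haveI : Subsingleton (Sylow 7 G) := (Nat.card_eq_one_iff_unique.1 h1).1
  haveI : (P : Subgroup G).Normal := P.normal_of_subsingleton
  refine solvable_extension (P : Subgroup G) ?_ (solvable_twelve ?_)
  · refine solvable_paqb 7 7 2 0 (by norm_num) (by norm_num) ?_
    rw [P.card_eq_multiplicity, h]
    refine dvd_trans (pow_dvd_pow 7 (?_ : _ ≤ 2)) (by norm_num)
    by_contra hc
    have := (Nat.Prime.pow_dvd_iff_le_factorization (by norm_num : Nat.Prime 7)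
      (show (84 : ℕ) ≠ 0 by norm_num)).2 (le_of_lt (not_le.1 hc))
    norm_num at this
  · rw [← Subgroup.index_eq_card]
    have hi := (P : Subgroup G).card_mul_index
    have hP : Nat.card (P : Subgroup G) = 7 := by
      rw [P.card_eq_multiplicity, h, show (84 : ℕ) = 7 ^ 1 * 12 from rfl,
        Nat.factorization_mul (by norm_num) (by norm_num), Finsupp.add_apply,
        Nat.factorization_pow_self (by norm_num : Nat.Prime 7),
        Nat.factorization_eq_zero_of_not_dvd (by norm_num : ¬ 7 ∣ 12)]
      norm_num
    rw [hP, h] at hi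
    exact ⟨2, by omega⟩

theorem solvable_dvd_168 {G : Type*} [Group G] [Finite G] (h : Nat.card G ∣ 168)
    (hne : Nat.card G ≠ 168) : Group.IsSolvable G := by
  have hmem : Nat.card G ∈ Nat.divisors 168 := Nat.mem_divisors.2 ⟨h, by norm_num⟩
  have key : ∀ d ∈ Nat.divisors 168, d ≠ 168 → d = 84 ∨ d ∣ 24 ∨ d ∣ 56 ∨ d ∣ 21 ∨ d ∣ 42 := by
    decide +kernel
  rcases key _ hmem hne with h' | h' | h' | h' | h'
  · exact solvable_eighty_four h'
  · exact solvable_twelve h'
  · exact solvable_paqb 2 7 3 1 Nat.prime_two (by norm_num) (h'.trans (by norm_num))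
  · exact solvable_paqb 3 7 1 1 Nat.prime_three (by norm_num) (h'.trans (by norm_num))
  · exact solvable_squarefree (Squarefree.squarefree_of_dvd h' (by decide +kernel))

theorem solvable_dvd_60 {G : Type*} [Group G] [Finite G] (h : Nat.card G ∣ 60)
    (hne : Nat.card G ≠ 60) : Group.IsSolvable G := by
  have hmem : Nat.card G ∈ Nat.divisors 60 := Nat.mem_divisors.2 ⟨h, by norm_num⟩
  have key : ∀ d ∈ Nat.divisors 60, d ≠ 60 → d ∣ 12 ∨ d ∣ 20 ∨ d ∣ 30 := by
    decide +kernel
  rcases key _ hmem hne with h' | h' | h'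
  · exact solvable_twelve (h'.trans (by norm_num))
  · exact solvable_paqb 2 5 2 1 Nat.prime_two (by norm_num) (h'.trans (by norm_num))
  · exact solvable_squarefree (Squarefree.squarefree_of_dvd h' (by decide +kernel))

theorem simple_of_small {G : Type*} [Group G] [Finite G] (hns : ¬ Group.IsSolvable G)
    (hc : Nat.card G = 168 ∨ Nat.card G = 60) : IsSimpleGroup G := by
  haveI : Nontrivial G := Finite.one_lt_card_iff_nontrivial.1 (by rcases hc with h | h <;> omega)
  refine ⟨fun N hN => ?_⟩
  by_contra hcon
  push Not at hcon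
  obtain ⟨hN1, hN2⟩ := hcon
  have hmul := N.card_mul_index
  have h1 : Nat.card N ≠ 1 := fun h => hN1 (Subgroup.card_eq_one.1 h)
  have h2 : N.index ≠ 1 := fun h => hN2 (Subgroup.index_eq_one.1 h)
  have hd1 : Nat.card N ∣ Nat.card G := Subgroup.card_subgroup_dvd_card N
  have hd2 : Nat.card (G ⧸ N) ∣ Nat.card G := by
    rw [← Subgroup.index_eq_card]; exact Subgroup.index_dvd_card N
  have hne1 : Nat.card N ≠ Nat.card G := by
    intro h
    rw [h] at hmul
    exact h2 (Nat.eq_of_mul_eq_mul_left Nat.card_pos (hmul.trans (mul_one _).symm))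
  have hne2 : Nat.card (G ⧸ N) ≠ Nat.card G := by
    intro h
    rw [Subgroup.index_eq_card, h] at hmul
    exact h1 (Nat.eq_of_mul_eq_mul_right Nat.card_pos (hmul.trans (one_mul _).symm))
  rcases hc with hc | hc <;> rw [hc] at hd1 hd2 hne1 hne2
  · exact hns (solvable_extension N (solvable_dvd_168 hd1 hne1) (solvable_dvd_168 hd2 hne2))
  · exact hns (solvable_extension N (solvable_dvd_60 hd1 hne1) (solvable_dvd_60 hd2 hne2))

theorem equiv_alt_five_of_card {G : Type*} [Group G] [Finite G] (hns : ¬ Group.IsSolvable G)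
    (hc : Nat.card G = 60) : Nonempty (G ≃* alternatingGroup (Fin 5)) := by
  haveI := simple_of_small hns (Or.inr hc)
  exact CfsgLib.Classification.nonempty_equiv_alternating_five hc

theorem equiv_GL32_of_card {G : Type*} [Group G] [Finite G] (hns : ¬ Group.IsSolvable G)
    (hc : Nat.card G = 168) : Nonempty (G ≃* GL32) := by
  haveI := simple_of_small hns (Or.inl hc)
  exact nonempty_equiv_GL32 hc

theorem card_alt (n : ℕ) (hn : 2 ≤ n) : 2 * Nat.card (alternatingGroup (Fin n)) = n.factorial := by
  haveI : Nontrivial (Fin n) := Fin.nontrivial_iff_two_le.2 hn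
  rw [two_mul_nat_card_alternatingGroup, Nat.card_perm, Nat.card_fin]

/-- Non-solvable subgroups of `S₅`. -/
theorem subgroups_five (H : Subgroup (Perm (Fin 5))) (hns : ¬ Group.IsSolvable H) :
    H = ⊤ ∨ H = alternatingGroup (Fin 5) := by
  by_contra hcon
  push Not at hcon
  have hi := Cfsg.Agent.S5944.result 5 (by norm_num) H hcon.1 hcon.2
  have hm := H.card_mul_index
  rw [Nat.card_perm, Nat.card_fin, show (5 : ℕ).factorial = 120 from rfl] at hm
  have hle : Nat.card H ≤ 24 := by nlinarith
  have hd : Nat.card H ∈ Nat.divisors 120 := Nat.mem_divisors.2 ⟨⟨_, hm.symm⟩, by norm_num⟩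
  have key : ∀ d ∈ Nat.divisors 120, d ≤ 24 → d ∣ 24 ∨ d ∣ 20 ∨ d = 15 := by decide +kernel
  refine hns ?_
  rcases key _ hd hle with h | h | h
  · exact solvable_twelve h
  · exact solvable_paqb 2 5 2 1 Nat.prime_two (by norm_num) (h.trans (by norm_num))
  · exact solvable_paqb 3 5 1 1 Nat.prime_three (by norm_num) (by rw [h]; norm_num)

/-- A subgroup of index six in `S₆` is a copy of `S₅`. -/
theorem index_six_equiv (H : Subgroup (Perm (Fin 6))) (hi : H.index = 6) :
    Nonempty (H ≃* Perm (Fin 5)) := by
  classical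
  set S := Perm (Fin 6)
  haveI : Fintype (S ⧸ H) := Fintype.ofFinite _
  have hm := H.card_mul_index
  rw [hi, Nat.card_perm, Nat.card_fin, show (6 : ℕ).factorial = 720 from rfl] at hm
  let φ : S →* Perm (S ⧸ H) := MulAction.toPermHom S (S ⧸ H)
  have hcore : H.normalCore = ⊥ := by
    set K := H.normalCore
    haveI : IsSimpleGroup (alternatingGroup (Fin 6)) := alternatingGroup.isSimpleGroup (by simp)
    have hKH : K ≤ H := H.normalCore_le
    have hKd := Subgroup.card_dvd_of_le hKH
    rw [show Nat.card H = 120 by omega] at hKd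
    rcases ((inferInstance : K.Normal).subgroupOf (alternatingGroup (Fin 6))).eq_bot_or_eq_top with h | h
    · -- meets the alternating group trivially
      rw [Subgroup.subgroupOf_eq_bot, disjoint_iff] at h
      rw [eq_bot_iff]
      intro k hk
      rw [Subgroup.mem_bot]
      have hcen : k ∈ Subgroup.center S := by
        rw [Subgroup.mem_center_iff]
        intro g
        have h1 : g * k * g⁻¹ * k⁻¹ ∈ K ⊓ alternatingGroup (Fin 6) := by
          refine Subgroup.mem_inf.2 ⟨K.mul_mem ((inferInstance : K.Normal).conj_mem k hk g) (inv_mem hk), ?_⟩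
          rw [Equiv.Perm.mem_alternatingGroup, map_mul, map_mul, map_mul, map_inv, map_inv,
            mul_comm (Perm.sign g), mul_inv_cancel_right, mul_inv_cancel]
        rw [h, Subgroup.mem_bot, mul_inv_eq_one, mul_inv_eq_iff_eq_mul] at h1
        exact h1
      refine Equiv.ext fun a => ?_
      by_contra hka
      obtain ⟨c, hc⟩ := Finset.exists_mem_notMem_of_card_lt_card
        (s := ({a, k a} : Finset (Fin 6))) (t := Finset.univ)
        (lt_of_le_of_lt Finset.card_le_two (by simp))
      simp only [Finset.mem_insert, Finset.mem_singleton, not_or] at hc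
      have h1 := DFunLike.congr_fun (Subgroup.mem_center_iff.1 hcen (Equiv.swap a c)) a
      rw [Perm.mul_apply, Perm.mul_apply, Equiv.swap_apply_left,
        Equiv.swap_apply_of_ne_of_ne (show k a ≠ a from hka) (Ne.symm hc.2.2)] at h1
      exact hc.2.1 (k.injective h1.symm)
    · exfalso
      rw [Subgroup.subgroupOf_eq_top] at h
      have h360 := Subgroup.card_dvd_of_le h
      have := card_alt 6 (by norm_num)
      rw [show (6 : ℕ).factorial = 720 from rfl] at this
      have hle := Nat.le_of_dvd (by norm_num) ((h360.trans (dvd_refl _)).trans hKd)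
      omega
  have hφ : Function.Injective φ := by
    rw [← MonoidHom.ker_eq_bot_iff, ← H.normalCore_eq_ker, hcore]
  let pt : S ⧸ H := ((1 : S) : S ⧸ H)
  have hfix : ∀ h : H, ∀ y, φ (h : S) y ≠ pt ↔ y ≠ pt := by
    intro h y
    have hp : φ (h : S) pt = pt := by
      show ((h : S) • pt : S ⧸ H) = pt
      rw [MulAction.Quotient.smul_coe, smul_eq_mul, mul_one, QuotientGroup.eq]
      simp only [mul_one]
      exact inv_mem h.2
    rw [not_iff_not]
    exact ⟨fun e => (φ (h : S)).injective (e.trans hp.symm), fun e => e ▸ hp⟩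
  let ψ : H →* Perm {y // y ≠ pt} :=
    MonoidHom.mk' (fun h => (φ (h : S)).subtypePerm (hfix h)) fun a b => by
      refine Equiv.ext fun y => Subtype.ext ?_
      simp only [Subgroup.coe_mul, map_mul]
      rfl
  have hψ : Function.Injective ψ := by
    intro a b hab
    refine Subtype.ext (hφ (Equiv.ext fun y => ?_))
    by_cases hy : y = pt
    · have ha := (hfix a y).not.2 (by simpa using hy)
      have hb := (hfix b y).not.2 (by simpa using hy)
      rw [not_not] at ha hb
      rw [ha, hb]
    · exact congrArg Subtype.val (DFunLike.congr_fun hab ⟨y, hy⟩)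
  have hc5 : Fintype.card {y // y ≠ pt} = 5 := by
    rw [Fintype.card_subtype_compl, Fintype.card_subtype_eq, ← Nat.card_eq_fintype_card,
      ← Subgroup.index_eq_card, hi]
  have hbij : Function.Bijective ψ := by
    refine (Nat.bijective_iff_injective_and_card ψ).2 ⟨hψ, ?_⟩
    rw [Nat.card_perm, Nat.card_eq_fintype_card (α := {y // y ≠ pt}), hc5,
      show (5 : ℕ).factorial = 120 from rfl]
    omega
  exact ⟨(MulEquiv.ofBijective ψ hbij).trans (Fintype.equivFinOfCardEq hc5).permCongrHom⟩

/-- `A₅, A₆, S₅, S₆`. -/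
def SmallList (G : Type*) [Group G] : Prop :=
  Nonempty (G ≃* alternatingGroup (Fin 5)) ∨ Nonempty (G ≃* alternatingGroup (Fin 6)) ∨
    Nonempty (G ≃* Perm (Fin 5)) ∨ Nonempty (G ≃* Perm (Fin 6))

theorem SmallList.congr {G G' : Type*} [Group G] [Group G'] (e : G ≃* G') (h : SmallList G') :
    SmallList G := by
  rcases h with h | h | h | h
  exacts [Or.inl (h.map e.trans), Or.inr (Or.inl (h.map e.trans)),
    Or.inr (Or.inr (Or.inl (h.map e.trans))), Or.inr (Or.inr (Or.inr (h.map e.trans)))]

/-- Non-solvable subgroups of `S₆`. -/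
theorem subgroups_six (H : Subgroup (Perm (Fin 6))) (hns : ¬ Group.IsSolvable H) :
    SmallList H := by
  by_cases htop : H = ⊤
  · subst htop; exact Or.inr (Or.inr (Or.inr ⟨Subgroup.topEquiv⟩))
  by_cases halt : H = alternatingGroup (Fin 6)
  · subst halt; exact Or.inr (Or.inl ⟨MulEquiv.refl _⟩)
  have hi := Cfsg.Agent.S5944.result 6 (by norm_num) H htop halt
  have hm := H.card_mul_index
  rw [Nat.card_perm, Nat.card_fin, show (6 : ℕ).factorial = 720 from rfl] at hm
  have hle : Nat.card H ≤ 120 := by nlinarith
  have hd : Nat.card H ∈ Nat.divisors 720 := Nat.mem_divisors.2 ⟨⟨_, hm.symm⟩, by norm_num⟩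
  have key : ∀ d ∈ Nat.divisors 720, d ≤ 120 →
      d ∣ 144 ∨ d ∣ 80 ∨ d ∣ 45 ∨ d = 30 ∨ d = 60 ∨ d = 90 ∨ d = 120 := by decide +kernel
  rcases key _ hd hle with h | h | h | h | h | h | h
  · exact absurd (solvable_paqb 2 3 4 2 Nat.prime_two Nat.prime_three (h.trans (by norm_num))) hns
  · exact absurd (solvable_paqb 2 5 4 1 Nat.prime_two (by norm_num) (h.trans (by norm_num))) hns
  · exact absurd (solvable_paqb 3 5 2 1 Nat.prime_three (by norm_num) (h.trans (by norm_num))) hns
  · exact absurd (solvable_squarefree (G := H) (by rw [h]; decide +kernel)) hns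
  · exact Or.inl (equiv_alt_five_of_card hns h)
  · exfalso
    have hA : ¬ H ≤ alternatingGroup (Fin 6) := by
      intro hle'
      haveI : IsSimpleGroup (alternatingGroup (Fin 6)) := alternatingGroup.isSimpleGroup (by simp)
      have hcA := card_alt 6 (by norm_num)
      rw [show (6 : ℕ).factorial = 720 from rfl] at hcA
      set K := H.subgroupOf (alternatingGroup (Fin 6))
      have hK : Nat.card K = 90 := by
        rw [Nat.card_congr (Subgroup.subgroupOfEquivOfLe hle').toEquiv, h]
      have hKm := K.card_mul_index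
      rw [hK] at hKm
      have hKne : K ≠ ⊤ := fun e => by rw [e, Subgroup.index_top] at hKm; omega
      haveI : Fintype (alternatingGroup (Fin 6)) := Fintype.ofFinite _
      have hd := CfsgLib.Small.card_dvd_factorial_index K hKne
      rw [show K.index = 4 by omega, show (4 : ℕ).factorial = 24 from rfl] at hd
      have := Nat.le_of_dvd (by norm_num) hd
      omega
    have h45 : Nat.card ↥(H ⊓ alternatingGroup (Fin 6)) ∣ 90 :=
      h ▸ Subgroup.card_dvd_of_le inf_le_left
    have hsgn := Subgroup.card_mul_index ((Perm.sign (α := Fin 6)).domRestrict H).ker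
    rw [Subgroup.index_ker, h] at hsgn
    refine hns (solvable_extension ((Perm.sign (α := Fin 6)).domRestrict H).ker ?_ ?_)
    · refine solvable_paqb 3 5 2 1 Nat.prime_three (by norm_num) ?_
      have hne : Nat.card ((Perm.sign (α := Fin 6)).domRestrict H).range ≠ 1 := by
        intro h1
        refine hA fun x hx => ?_
        have := Subgroup.card_eq_one.1 h1
        rw [Equiv.Perm.mem_alternatingGroup]
        have hx' : Perm.sign x ∈ ((Perm.sign (α := Fin 6)).domRestrict H).range := ⟨⟨x, hx⟩, rfl⟩
        rw [this] at hx'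
        exact Subgroup.mem_bot.1 hx'
      have h2 : Nat.card ((Perm.sign (α := Fin 6)).domRestrict H).range ∣ 2 := by
        have := Subgroup.card_subgroup_dvd_card ((Perm.sign (α := Fin 6)).domRestrict H).range
        simpa [Nat.card_eq_fintype_card, Fintype.card_units_int] using this
      rcases (Nat.dvd_prime Nat.prime_two).1 h2 with h3 | h3
      · exact absurd h3 hne
      · rw [h3] at hsgn
        exact dvd_of_eq (by omega)
    · refine solvable_paqb 2 2 1 0 Nat.prime_two Nat.prime_two ?_
      rw [Nat.card_congr (QuotientGroup.quotientKerEquivRange _).toEquiv]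
      have := Subgroup.card_subgroup_dvd_card ((Perm.sign (α := Fin 6)).domRestrict H).range
      simpa [Nat.card_eq_fintype_card, Fintype.card_units_int] using this
  · exact Or.inr (Or.inr (Or.inl (index_six_equiv H (by rw [h] at hm; omega))))

/-- Non-solvable groups embedded in a symmetric group of degree five or six. -/
theorem smallList_of_embedding {G : Type*} [Group G] {α : Type*} [Fintype α] [DecidableEq α]
    (hα : Fintype.card α = 5 ∨ Fintype.card α = 6) (φ : G →* Perm α) (hφ : Function.Injective φ)
    (hns : ¬ Group.IsSolvable G) : SmallList G := by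
  rcases hα with hα | hα
  · let f := (Fintype.equivFinOfCardEq hα).permCongrHom.toMonoidHom.comp φ
    have hf : Function.Injective f := (Fintype.equivFinOfCardEq hα).permCongrHom.injective.comp hφ
    have hns' : ¬ Group.IsSolvable f.range := fun h =>
      hns (Group.isSolvable_of_isSolvable_injective (f := (MonoidHom.ofInjective hf).toMonoidHom) (MulEquiv.injective _))
    rcases subgroups_five _ hns' with h | h
    · exact Or.inr (Or.inr (Or.inl ⟨(MonoidHom.ofInjective hf).trans
        ((MulEquiv.subgroupCongr h).trans Subgroup.topEquiv)⟩))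
    · exact Or.inl ⟨(MonoidHom.ofInjective hf).trans (MulEquiv.subgroupCongr h)⟩
  · let f := (Fintype.equivFinOfCardEq hα).permCongrHom.toMonoidHom.comp φ
    have hf : Function.Injective f := (Fintype.equivFinOfCardEq hα).permCongrHom.injective.comp hφ
    have hns' : ¬ Group.IsSolvable f.range := fun h =>
      hns (Group.isSolvable_of_isSolvable_injective (f := (MonoidHom.ofInjective hf).toMonoidHom) (MulEquiv.injective _))
    exact (subgroups_six _ hns').congr (MonoidHom.ofInjective hf)

end CfsgLib.GLFourTwo
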