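import Cfsg.Agent.Small.Order168Klein
import Cfsg.Agent.Small.CosetRep
import Cfsg.Agent.Perm.PrimeDegree
import Mathlib

/-!
# A simple group of order 168 is isomorphic to `GL₃(2)`
-/

set_option autoImplicit false

namespace CfsgLib.GLFourTwo

open Equiv

abbrev GL32 := Matrix.GeneralLinearGroup (Fin 3) (ZMod 2)

/-- The translation on seven points. -/
def cyc7 : Perm (ZMod 7) where
  toFun i := i + 1
  invFun i := i - 1
  left_inv i := add_sub_cancel_right i 1
  right_inv i := sub_add_cancel i 1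

/-- The multiplier 2 on seven points. -/
def dbl7 : Perm (ZMod 7) where
  toFun i := 2 * i
  invFun i := 4 * i
  left_inv := by decide
  right_inv := by decide

theorem cyc7_pow : ∀ (k : ℕ) (i : ZMod 7), (cyc7 ^ k) i = i + (k : ZMod 7)
  | 0, i => by simp
  | k + 1, i => by
    rw [pow_succ', Perm.mul_apply, cyc7_pow k i]
    show i + (k : ZMod 7) + 1 = _
    push_cast
    rw [add_assoc]

/-- Two labellings of the nonzero vectors of `(ZMod 2)³`. -/
def lab : Bool → ZMod 7 → (Fin 3 → ZMod 2)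
  | false => ![![1,0,0], ![0,1,0], ![0,0,1], ![1,1,0], ![0,1,1], ![1,1,1], ![1,0,1]]
  | true => ![![1,0,0], ![1,0,1], ![1,1,1], ![0,1,1], ![1,1,0], ![0,0,1], ![0,1,0]]

/-- The candidate involutions inverting `dbl7`. -/
def cand (a b : ZMod 7) : ZMod 7 → ZMod 7 := ![0, a, 4 * a, b, 2 * a, 2 * b, 4 * b]

/-- The matrix attached to a permutation in a labelling. -/
def matOf (s : Bool) (f : ZMod 7 → ZMod 7) : Matrix (Fin 3) (Fin 3) (ZMod 2) :=
  fun r k => lab s (f (if s then ![0, 6, 5] k else ![0, 1, 2] k)) r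

set_option maxRecDepth 100000 in
theorem cand_cases : ∀ a b : ZMod 7, (∀ i, cand a b (cand a b i) = i) → (∃ i, cand a b i ≠ i) →
    (∃ s, ∀ i, (matOf s (cand a b)).mulVec (lab s i) = lab s (cand a b i)) ∨
    ∃ k : ZMod 7, ((∀ i, (fun j => cand a b (j + k))^[5] i = i) ∧ ∃ i, cand a b (i + k) ≠ i) ∨
      ((∀ i, (fun j => cand a b (j + k))^[6] i = i) ∧ (∃ i, (fun j => cand a b (j + k))^[2] i ≠ i) ∧
        ∃ i, (fun j => cand a b (j + k))^[3] i ≠ i) := by
  decide +kernel

theorem lab_cyc : ∀ (s : Bool) (i : ZMod 7), (matOf s cyc7).mulVec (lab s i) = lab s (cyc7 i) := by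
  decide +kernel

theorem lab_dbl : ∀ (s : Bool) (i : ZMod 7), (matOf s dbl7).mulVec (lab s i) = lab s (dbl7 i) := by
  decide +kernel

theorem lab_inj : ∀ (s : Bool) (i j : ZMod 7), lab s i = lab s j → i = j := by decide +kernel

theorem lab_basis : ∀ (s : Bool) (k : Fin 3),
    lab s (if s then ![0, 6, 5] k else ![0, 1, 2] k) = Pi.single k 1 := by decide +kernel

theorem card_GL32 : Nat.card GL32 = 168 := by
  rw [Matrix.card_GL_field, ZMod.card]
  simp [Fin.prod_univ_three]

theorem affine_order_three : ∀ (n b : ZMod 7), (∀ i, n * (n * (n * i + b) + b) + b = i) →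
    (∃ i, n * i + b ≠ i) → n = 2 ∨ n = 4 := by decide +kernel

theorem double_four : ∀ i : ZMod 7, i * 2 = i * 16 := by decide +kernel

theorem four_fix : ∀ v : ZMod 7, v = 4 * v → v = 0 := by decide +kernel

theorem four_four : ∀ v : ZMod 7, 4 * (4 * v) = 2 * v := by decide +kernel

/-- The permutations that are linear in a labelling. -/
def linSub (s : Bool) : Subgroup (Perm (ZMod 7)) where
  carrier := {π | ∃ A : GL32, ∀ i, (A : Matrix (Fin 3) (Fin 3) (ZMod 2)).mulVec (lab s i) = lab s (π i)}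
  one_mem' := ⟨1, fun i => by simp⟩
  mul_mem' := fun {π π'} ⟨A, hA⟩ ⟨B, hB⟩ => ⟨A * B, fun i => by
    rw [Units.val_mul, ← Matrix.mulVec_mulVec, hB, hA]; rfl⟩
  inv_mem' := fun {π} ⟨A, hA⟩ => ⟨A⁻¹, fun i => by
    have h := hA (π⁻¹ i)
    rw [show π (π⁻¹ i) = i from π.apply_symm_apply i] at h
    rw [← h, Matrix.mulVec_mulVec, ← Units.val_mul, inv_mul_cancel, Units.val_one,
      Matrix.one_mulVec]⟩

theorem mem_linSub {s : Bool} {π : Perm (ZMod 7)}
    (h : ∀ i, (matOf s π).mulVec (lab s i) = lab s (π i)) (n : ℕ) (hn : π ^ (n + 1) = 1) :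
    π ∈ linSub s := by
  have hpow : ∀ (m : ℕ) (i : ZMod 7), ((matOf s π) ^ m).mulVec (lab s i) = lab s ((π ^ m) i) := by
    intro m
    induction m with
    | zero => simp
    | succ m ih =>
      intro i
      rw [pow_succ', ← Matrix.mulVec_mulVec, ih, h, pow_succ', Perm.mul_apply]
  have h1 : (matOf s π) ^ (n + 1) = 1 := by
    refine Matrix.ext_of_mulVec_single fun k => ?_
    rw [Matrix.one_mulVec, ← lab_basis s k, hpow, hn]
    rfl
  exact ⟨⟨matOf s π, (matOf s π) ^ n, by rw [← pow_succ', h1], by rw [← pow_succ, h1]⟩, h⟩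

/-- The linear action determines an embedding in `GL₃(2)`. -/
theorem linSub_embedding (s : Bool) : ∃ f : linSub s →* GL32, Function.Injective f := by
  choose A hA using fun g : linSub s => g.2
  have huniq : ∀ (g : linSub s) (B : GL32),
      (∀ i, (B : Matrix (Fin 3) (Fin 3) (ZMod 2)).mulVec (lab s i) = lab s ((g : Perm (ZMod 7)) i)) →
        B = A g := by
    intro g B hB
    refine Units.ext (Matrix.ext_of_mulVec_single fun k => ?_)
    rw [← lab_basis s k, hB, hA]
  exact ⟨MonoidHom.mk' A fun g g' => (huniq _ _ fun i => by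
    rw [Units.val_mul, ← Matrix.mulVec_mulVec, hA, hA]; rfl).symm,
    fun g g' h => Subtype.ext (Equiv.ext fun i => lab_inj s _ _ (by
      rw [← hA g i, ← hA g' i, show A g = A g' from h]))⟩

/-- A simple subgroup of order 168 on seven points containing the translation is linear. -/
theorem exists_flag (G : Subgroup (Perm (ZMod 7))) [IsSimpleGroup G] (hG : Nat.card G = 168)
    (hcG : cyc7 ∈ G) : ∃ s, G = linSub s := by
  classical
  haveI : Fact (Nat.Prime 2) := ⟨Nat.prime_two⟩
  haveI : Fact (Nat.Prime 3) := ⟨Nat.prime_three⟩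
  haveI : Fact (Nat.Prime 7) := ⟨by norm_num⟩
  have hc7 : orderOf cyc7 = 7 := by
    refine orderOf_eq_prime ?_ (by decide)
    exact Equiv.ext fun i => by rw [cyc7_pow]; revert i; decide
  -- normaliser of the translation
  let P : Sylow 7 G := Sylow.ofCard (Subgroup.zpowers (⟨cyc7, hcG⟩ : G)) (by
    rw [Nat.card_zpowers, Subgroup.orderOf_mk, hc7, hG,
      show (168 : ℕ) = 7 ^ 1 * 24 from rfl, Nat.factorization_mul (by norm_num) (by norm_num),
      Finsupp.add_apply, Nat.factorization_pow_self (by norm_num : Nat.Prime 7),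
      Nat.factorization_eq_zero_of_not_dvd (by norm_num : ¬ 7 ∣ 24)]
    norm_num)
  have hN := Small.Order168.card_N7 hG P
  obtain ⟨y, hy⟩ := exists_prime_orderOf_dvd_card'
    (G := Subgroup.normalizer ((P : Subgroup G) : Set G)) 3 (by rw [hN]; norm_num)
  have hymem : ((y : G) : Perm (ZMod 7)) * cyc7 * ((y : G) : Perm (ZMod 7))⁻¹ ∈
      Subgroup.zpowers cyc7 := by
    have h1 := (Subgroup.mem_normalizer_iff.1 y.2 (⟨cyc7, hcG⟩ : G)).1 (Subgroup.mem_zpowers _)
    obtain ⟨n, hn⟩ := Subgroup.mem_zpowers_iff.1 h1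
    exact ⟨n, by simpa using congrArg Subtype.val hn⟩
  set π : Perm (ZMod 7) := ((y : G) : Perm (ZMod 7)) with hπ
  have hπ3 : orderOf π = 3 := by rw [hπ, Subgroup.orderOf_coe, Subgroup.orderOf_coe, hy]
  obtain ⟨m, hm⟩ : ∃ m : ℕ, π * cyc7 * π⁻¹ = cyc7 ^ m := by
    obtain ⟨n, hn⟩ := (Submonoid.mem_powers_iff _ _).1
      (mem_powers_iff_mem_zpowers.2 hymem)
    exact ⟨n, hn.symm⟩
  have haff : ∀ i, π (i + 1) = π i + (m : ZMod 7) := fun i => by
    have h1 := DFunLike.congr_fun hm (π i)
    rw [Perm.mul_apply, Perm.mul_apply, show π⁻¹ (π i) = i from π.symm_apply_apply i, cyc7_pow] at h1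
    exact h1
  have haff' : ∀ i, π i = (m : ZMod 7) * i + π 0 := by
    intro i
    have : ∀ n : ℕ, π (n : ZMod 7) = (m : ZMod 7) * n + π 0 := by
      intro n
      induction n with
      | zero => simp
      | succ n ih => rw [Nat.cast_succ, haff, ih]; ring
    simpa using this i.val
  have hdG : dbl7 ∈ G := by
    have hyG : π ∈ G := (y : G).2
    have h3 : ∀ i, π (π (π i)) = i := fun i => by
      have := DFunLike.congr_fun (hπ3 ▸ pow_orderOf_eq_one π : π ^ 3 = 1) i
      simpa [pow_succ] using this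
    have hne : ∃ i, π i ≠ i := by
      by_contra hh
      push Not at hh
      rw [show π = 1 from Equiv.ext hh, orderOf_one] at hπ3
      omega
    obtain hm2 | hm4 := affine_order_three (m : ZMod 7) (π 0) (fun i => by
      have := h3 i; rw [haff' (π (π i)), haff' (π i), haff' i] at this; exact this)
      (hne.imp fun i hi => by rwa [← haff'])
    · convert G.mul_mem (G.pow_mem hcG ((-π 0).val)) hyG using 1
      refine Equiv.ext fun i => ?_
      rw [Perm.mul_apply, cyc7_pow, haff', hm2, ZMod.natCast_zmod_val]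
      show 2 * i = _
      ring
    · have hyy := G.mul_mem hyG hyG
      convert G.mul_mem (G.pow_mem hcG ((-(4 * π 0 + π 0)).val)) hyy using 1
      refine Equiv.ext fun i => ?_
      rw [Perm.mul_apply, cyc7_pow, Perm.mul_apply, haff' (π i), haff' i, hm4, ZMod.natCast_zmod_val]
      show 2 * i = _
      ring_nf
      exact double_four i
  have hd3 : orderOf dbl7 = 3 := by
    refine orderOf_eq_prime ?_ (by decide)
    decide
  let P3 : Sylow 3 G := Sylow.ofCard (Subgroup.zpowers (⟨dbl7, hdG⟩ : G)) (by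
    rw [Nat.card_zpowers, Subgroup.orderOf_mk, hd3, hG,
      show (168 : ℕ) = 3 ^ 1 * 56 from rfl, Nat.factorization_mul (by norm_num) (by norm_num),
      Finsupp.add_apply, Nat.factorization_pow_self Nat.prime_three,
      Nat.factorization_eq_zero_of_not_dvd (by norm_num : ¬ 3 ∣ 56)]
    norm_num)
  obtain ⟨t, ht⟩ := exists_prime_orderOf_dvd_card'
    (G := Subgroup.normalizer ((P3 : Subgroup G) : Set G)) 2
    (by rw [Small.Order168.card_N3 hG P3]; norm_num)
  set τ : Perm (ZMod 7) := ((t : G) : Perm (ZMod 7)) with hτ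
  have hτ2 : orderOf τ = 2 := by rw [hτ, Subgroup.orderOf_coe, Subgroup.orderOf_coe, ht]
  have hinv : τ * dbl7 = dbl7⁻¹ * τ := by
    have h1 := (Subgroup.mem_normalizer_iff.1 t.2 (⟨dbl7, hdG⟩ : G)).1 (Subgroup.mem_zpowers _)
    obtain ⟨n, hn⟩ := (Submonoid.mem_powers_iff _ _).1 (mem_powers_iff_mem_zpowers.2 h1)
    have hn' : dbl7 ^ n = τ * dbl7 * τ⁻¹ := by simpa using congrArg Subtype.val hn
    rw [← pow_mod_orderOf, hd3] at hn'
    have hlt := Nat.mod_lt n (show 0 < 3 by norm_num)
    interval_cases hk : n % 3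
    · rw [pow_zero, eq_mul_inv_iff_mul_eq, one_mul, eq_comm, mul_eq_left] at hn'
      rw [hn', orderOf_one] at hd3
      omega
    · exfalso
      rw [pow_one, eq_mul_inv_iff_mul_eq] at hn'
      have hcen : (t : G) ∈ Subgroup.centralizer ((P3 : Subgroup G) : Set G) := by
        change (t : G) ∈ Subgroup.centralizer (Subgroup.zpowers (⟨dbl7, hdG⟩ : G) : Set G)
        rw [Subgroup.zpowers_eq_closure, Subgroup.centralizer_closure,
          Subgroup.mem_centralizer_singleton_iff]
        exact Subtype.ext hn'.symm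
      rw [Small.Order168.centralizer_P3 hG] at hcen
      have h2 := (P3 : Subgroup G).orderOf_dvd_natCard hcen
      rw [Subgroup.orderOf_coe, ht, Small.Order168.card_P3 hG] at h2
      omega
    · rw [eq_mul_inv_iff_mul_eq] at hn'
      rw [← hn']
      congr 1
      refine eq_inv_of_mul_eq_one_left ?_
      rw [← pow_succ]; exact orderOf_dvd_iff_pow_eq_one.1 (dvd_of_eq hd3)
  have hτd : ∀ i, τ (2 * i) = 4 * τ i := fun i => DFunLike.congr_fun hinv i
  have hcand : ∀ i, τ i = cand (τ 1) (τ 3) i := by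
    have e0 := hτd 0
    have e1 := hτd 1
    have e2 := hτd 2
    have e3 := hτd 3
    have e6 := hτd 6
    have fix0 := four_fix
    have m4 := four_four
    intro i
    fin_cases i
    · exact fix0 _ e0
    · rfl
    · exact e1
    · rfl
    · show τ 4 = 2 * τ 1
      rw [← m4, ← show τ 2 = 4 * τ 1 from e1]; exact e2
    · show τ 5 = 2 * τ 3
      rw [← m4, ← show τ 6 = 4 * τ 3 from e3]; exact e6
    · exact e3
  have hττ : ∀ i, τ (τ i) = i := fun i => by
    have := DFunLike.congr_fun (hτ2 ▸ pow_orderOf_eq_one τ : τ ^ 2 = 1) i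
    simpa [pow_succ] using this
  have hτne : ∃ i, τ i ≠ i := by
    by_contra hh
    push Not at hh
    rw [show τ = 1 from Equiv.ext hh, orderOf_one] at hτ2
    omega
  have hfun : (τ : ZMod 7 → ZMod 7) = cand (τ 1) (τ 3) := funext hcand
  -- the three elements generate
  have hgen : G = Subgroup.closure {cyc7, dbl7, τ} := by
    set K := Subgroup.closure ({cyc7, dbl7, τ} : Set (Perm (ZMod 7))) with hK
    have hKG : K ≤ G := (Subgroup.closure_le _).2 (by
      rintro u (rfl | rfl | rfl)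
      exacts [hcG, hdG, (t : G).2])
    refine le_antisymm ?_ hKG
    have hmem : ∀ u ∈ ({cyc7, dbl7, τ} : Set (Perm (ZMod 7))), u ∈ K := fun u hu =>
      Subgroup.subset_closure hu
    have h7 := K.orderOf_dvd_natCard (hmem cyc7 (by simp))
    have h3 := K.orderOf_dvd_natCard (hmem dbl7 (by simp))
    have h2 := K.orderOf_dvd_natCard (hmem τ (by simp))
    rw [hc7] at h7; rw [hd3] at h3; rw [hτ2] at h2
    by_contra hne
    have htop : K.subgroupOf G ≠ ⊤ := fun h => hne (Subgroup.subgroupOf_eq_top.1 h)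
    have h42 := Small.Order168.card_le_24 hG htop
    rw [Nat.card_congr (Subgroup.subgroupOfEquivOfLe hKG).toEquiv] at h42
    have := Nat.le_of_dvd Nat.card_pos
      (Nat.Coprime.mul_dvd_of_dvd_of_dvd (by norm_num) (Nat.Coprime.mul_dvd_of_dvd_of_dvd (by norm_num) h7 h3) h2 :
        7 * 3 * 2 ∣ Nat.card K)
    omega
  obtain hgood | ⟨k, hbad⟩ := cand_cases (τ 1) (τ 3)
    (fun i => by rw [← hcand, ← hcand]; exact hττ i) (hτne.imp fun i hi => by rwa [← hcand])
  · obtain ⟨s, hs⟩ := hgood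
    refine ⟨s, Subgroup.eq_of_le_of_card_ge ?_ ?_⟩
    swap
    · obtain ⟨f, hf⟩ := linSub_embedding s
      rw [hG, ← card_GL32]
      exact Nat.card_le_card_of_injective f hf
    rw [hgen, Subgroup.closure_le]
    rintro u (rfl | rfl | rfl)
    · exact mem_linSub (lab_cyc s) 6 (orderOf_dvd_iff_pow_eq_one.1 (dvd_of_eq hc7))
    · exact mem_linSub (lab_dbl s) 2 (orderOf_dvd_iff_pow_eq_one.1 (dvd_of_eq hd3))
    · refine mem_linSub (fun i => ?_) 1 (orderOf_dvd_iff_pow_eq_one.1 (dvd_of_eq hτ2))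
      rw [hfun]; exact hs i
  · exfalso
    set w : G := (t : G) * (⟨cyc7, hcG⟩ : G) ^ k.val with hw
    have hwfun : ∀ j, ((w : Perm (ZMod 7))) j = cand (τ 1) (τ 3) (j + k) := fun j => by
      rw [hw, Subgroup.coe_mul, SubgroupClass.coe_pow, Perm.mul_apply, cyc7_pow, ZMod.natCast_zmod_val]
      exact hcand _
    have hit : ∀ (n : ℕ) (i : ZMod 7), ((w ^ n : G) : Perm (ZMod 7)) i =
        (fun j => cand (τ 1) (τ 3) (j + k))^[n] i := fun n i => by
      rw [SubgroupClass.coe_pow, Perm.coe_pow, show ((w : Perm (ZMod 7)) : ZMod 7 → ZMod 7) = _ from funext hwfun]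
    rcases hbad with ⟨h5, i, hi⟩ | ⟨h6, ⟨i, hi⟩, ⟨j, hj⟩⟩
    · have h55 : w ^ 5 = 1 := Subtype.ext (Equiv.ext fun i => by rw [hit, h5]; rfl)
      have : orderOf w = 5 := by
        haveI : Fact (Nat.Prime 5) := ⟨by norm_num⟩
        refine orderOf_eq_prime h55 fun h1 => hi ?_
        rw [← hwfun, h1]; rfl
      rcases Small.Order168.orderOf_mem hG w with h | h | h | h | h <;> omega
    · have h66 : w ^ 6 = 1 := Subtype.ext (Equiv.ext fun i => by rw [hit, h6]; rfl)
      have hd := orderOf_dvd_of_pow_eq_one h66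
      have hn2 : ¬ orderOf w ∣ 2 := fun h => hi (by
        rw [← hit, orderOf_dvd_iff_pow_eq_one.1 h]; rfl)
      have hn3 : ¬ orderOf w ∣ 3 := fun h => hj (by
        rw [← hit, orderOf_dvd_iff_pow_eq_one.1 h]; rfl)
      rcases Small.Order168.orderOf_mem hG w with h | h | h | h | h <;> rw [h] at hd hn2 hn3
      all_goals omega

/-- A simple group of order 168 is isomorphic to `GL₃(2)`. -/
theorem nonempty_equiv_GL32 {G₀ : Type*} [Group G₀] [Finite G₀] [IsSimpleGroup G₀]
    (h₀ : Nat.card G₀ = 168) : Nonempty (G₀ ≃* GL32) := by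
  classical
  haveI : Fact (Nat.Prime 2) := ⟨Nat.prime_two⟩
  haveI : Fact (Nat.Prime 3) := ⟨Nat.prime_three⟩
  haveI : Fact (Nat.Prime 7) := ⟨by norm_num⟩
  -- a faithful action on seven points
  obtain ⟨f₀, hf₀⟩ : ∃ f : G₀ →* Perm (ZMod 7), Function.Injective f := by
    obtain ⟨T⟩ : Nonempty (Sylow 2 G₀) := inferInstance
    obtain ⟨A, B, -, -, -, hA, -, -, -⟩ := Small.Order168.exists_two_fours h₀ T
    set M := Subgroup.normalizer (A : Set G₀) with hM
    have hc : Nat.card M = 24 := Small.Order168.card_normalizer_four h₀ hA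
    have hi : M.index = 7 := by
      have := M.card_mul_index
      rw [hc, h₀] at this
      omega
    obtain ⟨f, hf⟩ := Small.exists_hom_alternatingGroup (Small.Order168.not_comm h₀) M
      (fun h => by rw [h, Subgroup.index_top] at hi; omega)
    let e : Fin M.index ≃ ZMod 7 := (finCongr hi).trans (Equiv.refl (Fin 7))
    exact ⟨e.permCongrHom.toMonoidHom.comp ((alternatingGroup _).subtype.comp f),
      e.permCongrHom.injective.comp ((Subgroup.subtype_injective _).comp hf)⟩
  -- conjugate so that the translation lies in the image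
  obtain ⟨x, hx⟩ := exists_prime_orderOf_dvd_card' (G := G₀) 7 (by rw [h₀]; norm_num)
  have hfx : orderOf (f₀ x) = 7 := by rw [orderOf_injective f₀ hf₀, hx]
  obtain ⟨e, he⟩ := CfsgLib.Perm.PrimeDegree.exists_coord (α := ZMod 7) (p := 7) (ZMod.card 7)
    (g := f₀ x) (fun h => by rw [h, orderOf_one] at hfx; omega)
    (orderOf_dvd_iff_pow_eq_one.1 (dvd_of_eq hfx))
  let f : G₀ →* Perm (ZMod 7) := (Equiv.permCongrHom (e.symm : ZMod 7 ≃ ZMod 7)).toMonoidHom.comp f₀
  have hf : Function.Injective f := (Equiv.permCongrHom _).injective.comp hf₀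
  set G := f.range with hGdef
  let eG : G₀ ≃* G := MonoidHom.ofInjective hf
  haveI : IsSimpleGroup G := eG.symm.isSimpleGroup
  have hG : Nat.card G = 168 := by rw [← Nat.card_congr eG.toEquiv, h₀]
  suffices h : Nonempty (G ≃* GL32) from h.map eG.trans
  have hcG : cyc7 ∈ G := ⟨x, Equiv.ext fun i => by
    show e.symm (f₀ x (e i)) = i + 1
    rw [he]
    exact e.symm_apply_apply _⟩
  obtain ⟨s, hs⟩ := exists_flag G hG hcG
  obtain ⟨f, hf⟩ := linSub_embedding s
  have e : G ≃* linSub s := MulEquiv.subgroupCongr hs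
  exact ⟨e.trans (MulEquiv.ofBijective f ((Nat.bijective_iff_injective_and_card f).2
    ⟨hf, by rw [← Nat.card_congr e.toEquiv, hG, card_GL32]⟩))⟩

end CfsgLib.GLFourTwo
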