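import Cfsg.Agent.GLFourTwo.Iso
import Mathlib.GroupTheory.PGroup
import Mathlib.Algebra.Module.ZMod
import Mathlib.LinearAlgebra.Dimension.Free

/-!
# Automorphism groups of elementary abelian 2-groups of order at most 16 embed in `A₈`
-/

set_option autoImplicit false

namespace CfsgLib.GLFourTwo

/-- Linear automorphisms of `(ZMod 2)^4` as elements of `SL₄(2)`. -/
noncomputable def toSL :
    ((Fin 4 → ZMod 2) ≃ₗ[ZMod 2] (Fin 4 → ZMod 2)) →*
      Matrix.SpecialLinearGroup (Fin 4) (ZMod 2) :=
  MonoidHom.mk' (fun f => ⟨LinearMap.toMatrix' f.toLinearMap, by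
    have h1 : LinearMap.toMatrix' f.toLinearMap * LinearMap.toMatrix' f.symm.toLinearMap = 1 := by
      rw [← LinearMap.toMatrix'_comp, LinearEquiv.comp_coe, LinearEquiv.symm_trans_self,
        LinearEquiv.refl_toLinearMap, LinearMap.toMatrix'_id]
    have h2 := congrArg Matrix.det h1
    rw [Matrix.det_mul, Matrix.det_one] at h2
    revert h2
    generalize (LinearMap.toMatrix' f.toLinearMap).det = a
    generalize (LinearMap.toMatrix' f.symm.toLinearMap).det = b
    revert a b
    decide⟩) fun f g => Subtype.ext (LinearMap.toMatrix'_comp f.toLinearMap g.toLinearMap)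

theorem toSL_injective : Function.Injective toSL := fun f g h =>
  LinearEquiv.toLinearMap_injective (LinearMap.toMatrix'.injective (congrArg Subtype.val h :))

/-- The automorphism group of an elementary abelian 2-group of order at most 16 embeds in `A₈`. -/
theorem exists_mulAut_to_alt {V : Type*} [Group V] [Finite V] (hc : ∀ a b : V, a * b = b * a)
    (he : ∀ a : V, a ^ 2 = 1) (h16 : Nat.card V ≤ 16) :
    ∃ f : MulAut V →* alternatingGroup (Fin 8), Function.Injective f := by
  classical
  haveI : Fact (Nat.Prime 2) := ⟨Nat.prime_two⟩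
  letI : CommGroup V := { (inferInstance : Group V) with mul_comm := hc }
  letI : Module (ZMod 2) (Additive V) := AddCommGroup.zmodModule fun x => by
    show Additive.ofMul (x.toMul ^ 2) = 0
    rw [he]; rfl
  set d := Module.finrank (ZMod 2) (Additive V) with hd
  have hcard : Nat.card V = 2 ^ d := by
    rw [Nat.card_congr (Additive.ofMul : V ≃ Additive V), Module.natCard_eq_pow_finrank (K := ZMod 2),
      Nat.card_zmod]
  have hd4 : d ≤ 4 := by
    rw [hcard] at h16
    exact (Nat.pow_le_pow_iff_right (by norm_num)).1 (show 2 ^ d ≤ 2 ^ 4 from h16)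
  have hfr : Module.finrank (ZMod 2) (Additive V × (Fin (4 - d) → ZMod 2)) =
      Module.finrank (ZMod 2) (Fin 4 → ZMod 2) := by
    rw [Module.finrank_prod, Module.finrank_fin_fun, Module.finrank_fin_fun, ← hd]; omega
  let e := LinearEquiv.ofFinrankEq (Additive V × (Fin (4 - d) → ZMod 2)) (Fin 4 → ZMod 2) hfr
  let lin : MulAut V →* ((Fin 4 → ZMod 2) ≃ₗ[ZMod 2] (Fin 4 → ZMod 2)) :=
    MonoidHom.mk' (fun g => e.symm.trans
        ((({ g.toAdditive with map_smul' := ZMod.map_smul g.toAdditive } :
          Additive V ≃ₗ[ZMod 2] Additive V)).prodCongr (LinearEquiv.refl _ _) |>.trans e))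
      (fun g h => by
        ext x : 1
        simp only [LinearEquiv.mul_apply, LinearEquiv.trans_apply, LinearEquiv.symm_apply_apply]
        rfl)
  refine ⟨toAlt.comp (toSL.comp lin), ?_⟩
  refine toAlt_injective.comp (toSL_injective.comp ?_)
  intro g h hgh
  refine MulEquiv.ext fun v => ?_
  have h1 := congrArg (fun f : (Fin 4 → ZMod 2) ≃ₗ[ZMod 2] (Fin 4 → ZMod 2) =>
    (e.symm (f (e (Additive.ofMul v, 0)))).1) hgh
  simp only [lin, MonoidHom.mk'_apply, LinearEquiv.trans_apply, LinearEquiv.symm_apply_apply] at h1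
  exact Additive.ofMul.injective h1

end CfsgLib.GLFourTwo
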