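import Cfsg.Agent.GLFourTwo.Order1344
import Mathlib

/-!
# Non-solvable subgroups of `A₈` with trivial 2-core
-/

set_option autoImplicit false

namespace CfsgLib.GLFourTwo

open Equiv MulAction Cfsg
open scoped Pointwise

/-- The possible non-solvable subgroups of `A₈` with trivial 2-core. -/
def BigList (G : Type*) [Group G] : Prop :=
  SmallList G ∨ Nonempty (G ≃* alternatingGroup (Fin 7)) ∨ Nonempty (G ≃* alternatingGroup (Fin 8)) ∨
    Nonempty (G ≃* GL32) ∨
    ∃ (N : Subgroup G) (_ : N.Normal), Nat.card N = 3 ∧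
      (Nonempty (G ⧸ N ≃* alternatingGroup (Fin 5)) ∨ Nonempty (G ⧸ N ≃* Perm (Fin 5)))

theorem BigList.congr {G G' : Type*} [Group G] [Group G'] (e : G ≃* G') (h : BigList G') :
    BigList G := by
  rcases h with h | h | h | h | ⟨N, hN, hc, h⟩
  · exact Or.inl (h.congr e)
  · exact Or.inr (Or.inl (h.map e.trans))
  · exact Or.inr (Or.inr (Or.inl (h.map e.trans)))
  · exact Or.inr (Or.inr (Or.inr (Or.inl (h.map e.trans))))
  · haveI := hN.comap e.toMonoidHom
    have he : (N.comap e.toMonoidHom).map e.toMonoidHom = N :=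
      Subgroup.map_comap_eq_self_of_surjective e.surjective N
    let q : G ⧸ N.comap e.toMonoidHom ≃* G' ⧸ N := QuotientGroup.congr _ _ e he
    refine Or.inr (Or.inr (Or.inr (Or.inr ⟨N.comap e.toMonoidHom, inferInstance, ?_, ?_⟩)))
    · rw [← Subgroup.card_map_of_injective (f := e.toMonoidHom) e.injective, he]
      exact hc
    · exact h.imp (fun a => a.map q.trans) (fun a => a.map q.trans)

theorem solvable_of_card_le_four {α : Type*} [Fintype α] [DecidableEq α] (hα : Fintype.card α ≤ 4)
    {G : Type*} [Group G] [Finite G] (h : Nat.card G ∣ Nat.card (Perm α)) : Group.IsSolvable G := by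
  refine solvable_twelve (h.trans ?_)
  rw [Nat.card_perm, Nat.card_eq_fintype_card]
  exact (Nat.factorial_dvd_factorial hα).trans (dvd_of_eq rfl)

/-- Transport to coordinates. -/
theorem false_of_1344 (H : Subgroup (Perm (Fin 8))) (hA : H ≤ alternatingGroup (Fin 8))
    (htr : IsPretransitive H (Fin 8)) (hH : Nat.card H = 1344) (h2 : Cfsg.pCore 2 H = ⊥)
    {g : Perm (Fin 8)} (hg : g ∈ H) (hg7 : orderOf g = 7) {x : Fin 8} (hgx : g x = x) : False := by
  classical
  have hc7 : Fintype.card {y : Fin 8 // y ≠ x} = 7 := by simp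
  have hgp : ∀ y, g y ≠ x ↔ y ≠ x := fun y =>
    ⟨fun h e => h (by rw [e, hgx]), fun h e => h (g.injective (e.trans hgx.symm))⟩
  set g' : Perm {y : Fin 8 // y ≠ x} := g.subtypePerm hgp with hg'
  have hg'1 : g' ≠ 1 := by
    intro h
    have hg1 : g = 1 := by
      refine Equiv.ext fun y => ?_
      by_cases hy : y = x
      · rw [hy, hgx]; rfl
      · exact congrArg Subtype.val (DFunLike.congr_fun h ⟨y, hy⟩)
    rw [hg1, orderOf_one] at hg7
    omega
  have hg'7 : g' ^ 7 = 1 := by
    refine Equiv.ext fun y => Subtype.ext ?_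
    rw [hg', Equiv.Perm.subtypePerm_pow]
    show (g ^ 7) y.1 = y.1
    rw [← hg7, pow_orderOf_eq_one]
    rfl
  haveI : Fact (Nat.Prime 7) := ⟨by norm_num⟩
  obtain ⟨e, he⟩ := CfsgLib.Perm.PrimeDegree.exists_coord (p := 7) hc7 hg'1 hg'7
  let E : Option (ZMod 7) ≃ Fin 8 := (Equiv.optionCongr e).trans (Equiv.optionSubtypeNe x)
  have hE0 : E none = x := by simp [E]
  have hE1 : ∀ i, E (some i) = (e i : Fin 8) := fun i => by simp [E]
  let ψ := E.symm.permCongrHom
  set H' : Subgroup (Perm (Option (ZMod 7))) := H.map ψ.toMonoidHom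
  let eH : H ≃* H' := H.equivMapOfInjective _ ψ.injective
  have hψ : ∀ (h : Perm (Fin 8)) (p : Option (ZMod 7)), ψ h p = E.symm (h (E p)) := fun h p => rfl
  refine false_of_1344_coord H' ?_ ?_ ?_ ?_ ?_ ?_
  · rintro _ ⟨h, hh, rfl⟩
    rw [Equiv.Perm.mem_alternatingGroup]
    show Perm.sign (E.symm.permCongr h) = 1
    rw [Equiv.Perm.sign_permCongr]
    exact Equiv.Perm.mem_alternatingGroup.1 (hA hh)
  · intro p
    obtain ⟨h, hh⟩ := htr.exists_smul_eq x (E p)
    refine ⟨ψ h.1, ⟨h.1, h.2, rfl⟩, ?_⟩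
    rw [hψ, hE0, show (h : Perm (Fin 8)) x = E p from hh, E.symm_apply_apply]
  · refine ⟨g, hg, Equiv.ext fun p => ?_⟩
    show E.symm (g (E p)) = optHom cyc7 p
    rw [E.symm_apply_eq]
    rcases p with _ | i
    · rw [show optHom cyc7 none = none from rfl, hE0, hgx]
    · rw [show optHom cyc7 (some i) = some (i + 1) from rfl, hE1, hE1, ← he]
      rfl
  · -- the stabiliser
    haveI := htr
    have hst := (stabilizer H x).card_mul_index
    rw [MulAction.index_stabilizer_of_transitive, Nat.card_eq_fintype_card (α := Fin 8),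
      Fintype.card_fin, hH] at hst
    have hb : Nat.card (H'.comap optHom) = Nat.card (stabilizer H x) := by
      symm
      refine Nat.card_congr (Equiv.ofBijective (fun h => ⟨Equiv.removeNone (ψ (h : H).1), ?_⟩) ⟨?_, ?_⟩)
      · show (Equiv.removeNone (ψ (h : H).1)).optionCongr ∈ H'
        have h0 : ψ (h : H).1 none = none := by
          rw [hψ, hE0, show (h : H).1 x = x from h.2, ← hE0, E.symm_apply_apply]
        rw [map_equiv_removeNone, h0, Equiv.swap_self, ← Perm.one_def, one_mul]
        exact ⟨(h : H).1, (h : H).2, rfl⟩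
      · intro h h' hhh
        have h0 : ∀ k : stabilizer H x, (Equiv.removeNone (ψ (k : H).1)).optionCongr = ψ (k : H).1 := fun k => by
          have h0 : ψ (k : H).1 none = none := by
            rw [hψ, hE0, show (k : H).1 x = x from k.2, ← hE0, E.symm_apply_apply]
          rw [map_equiv_removeNone, h0, Equiv.swap_self, ← Perm.one_def, one_mul]
        refine Subtype.ext (Subtype.ext (ψ.injective ?_))
        rw [← h0 h, ← h0 h', show Equiv.removeNone (ψ (h : H).1) = Equiv.removeNone (ψ (h' : H).1) from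
          congrArg Subtype.val hhh]
      · rintro ⟨π, ⟨h, hh, hπ⟩⟩
        have hx : h x = x := by
          have := DFunLike.congr_fun hπ none
          rw [show optHom π none = none from rfl] at this
          change E.symm (h (E none)) = none at this
          rwa [hE0, E.symm_apply_eq, hE0] at this
        refine ⟨⟨⟨h, hh⟩, hx⟩, Subtype.ext ?_⟩
        show Equiv.removeNone (ψ h) = π
        rw [show ψ h = optHom π from hπ]
        exact Equiv.removeNone_optionCongr π
    rw [hb]
    omega
  · rw [← hH]; exact Subgroup.card_map_of_injective ψ.injective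
  · rw [← CfsgLib.PLocal.map_pCore_equiv (p := 2) eH, h2, Subgroup.map_bot]

/-- Subgroups containing an element of order 7. -/
theorem big_of_seven (H : Subgroup (Perm (Fin 8))) (hA : H ≤ alternatingGroup (Fin 8))
    (hns : ¬ Group.IsSolvable H) (h2 : Cfsg.pCore 2 H = ⊥) {g : Perm (Fin 8)} (hg : g ∈ H)
    (hg7 : orderOf g = 7) : BigList H := by
  classical
  obtain ⟨a, ha⟩ : ∃ a, g a ≠ a := by
    by_contra h
    push Not at h
    rw [show g = 1 from Equiv.ext h, orderOf_one] at hg7
    omega
  have h8 : Nat.card (Fin 8) < 2 * 7 := by simp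
  set O := orbit (Subgroup.zpowers g) a with hO
  have hO7 := ncard_orbit_of_prime (by norm_num) hg7 ha
  obtain ⟨x, hx⟩ := Set.ncard_eq_one.1 (show Oᶜ.ncard = 1 by
    rw [Set.ncard_compl, hO, hO7, Nat.card_eq_fintype_card, Fintype.card_fin])
  have hOx : ∀ y, y ∈ O ↔ y ≠ x := fun y => by
    have h := Set.ext_iff.1 hx y
    rw [Set.mem_compl_iff, Set.mem_singleton_iff] at h
    exact not_iff_not.1 (h.trans not_not.symm)
  have hgx : g x = x := by
    by_contra h
    exact ((hOx x).1 ((mem_orbit_iff_moved (by norm_num) hg7 h8 ha x).2 h)) rfl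
  have hsub : O ⊆ orbit H a := by
    rintro _ ⟨⟨π, hπ⟩, rfl⟩
    obtain ⟨k, rfl⟩ := Subgroup.mem_zpowers_iff.1 hπ
    exact ⟨⟨g ^ k, H.zpow_mem hg k⟩, rfl⟩
  have hc7 : Fintype.card {y : Fin 8 // y ≠ x} = 7 := by simp
  have halt7 : 2 * Nat.card (alternatingGroup {y : Fin 8 // y ≠ x}) = 5040 := by
    haveI : Nontrivial {y : Fin 8 // y ≠ x} := Fintype.one_lt_card_iff_nontrivial.1 (by omega)
    rw [two_mul_nat_card_alternatingGroup, Nat.card_perm, Nat.card_eq_fintype_card, hc7]
    rfl
  -- the group fixing `x`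
  have key : ∀ S : Subgroup (Perm (Fin 8)), S ≤ alternatingGroup (Fin 8) → g ∈ S → (∀ h ∈ S, h x = x) →
      ∃ f : S →* Perm {y : Fin 8 // y ≠ x}, Function.Injective f ∧
        f.range ≤ alternatingGroup {y : Fin 8 // y ≠ x} ∧
        (Nat.card S = 7 ∨ Nat.card S = 21 ∨ Nat.card S = 168 ∨ Nat.card S = 2520) := by
    intro S hS hgS hfix
    have hp : ∀ h : S, ∀ y, (h : Perm (Fin 8)) y ≠ x ↔ y ≠ x := fun h y =>
      ⟨fun h' e => h' (by rw [e, hfix _ h.2]), fun h' e => h' (h.1.injective (e.trans (hfix _ h.2).symm))⟩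
    have hrest : ∀ h : S, ∀ y, ¬ y ≠ x → (h : Perm (Fin 8)) y = y := fun h y hy => by
      rw [not_not.1 hy, hfix _ h.2]
    refine ⟨restrictHom S (· ≠ x) hp, restrictHom_injective hp hrest, restrictHom_range_le hS hp hrest, ?_⟩
    have hc := Nat.card_congr (MonoidHom.ofInjective (restrictHom_injective hp hrest)).toEquiv
    have h7 : 7 ∣ Nat.card (restrictHom S (· ≠ x) hp).range := by
      rw [← hc, ← hg7]
      exact S.orderOf_dvd_natCard hgS
    have h := card_of_seven_dvd hc7 _ (restrictHom_range_le hS hp hrest) h7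
    rwa [← hc] at h
  by_cases hxfix : ∀ h ∈ H, h x = x
  · obtain ⟨f, hf, hfA, hlist⟩ := key H hA hg hxfix
    rcases hlist with h | h | h | h
    · exact absurd (solvable_paqb 7 7 1 0 (by norm_num) (by norm_num) (by rw [h]; norm_num)) hns
    · exact absurd (solvable_paqb 3 7 1 1 Nat.prime_three (by norm_num) (by rw [h]; norm_num)) hns
    · exact Or.inr (Or.inr (Or.inr (Or.inl (equiv_GL32_of_card hns h))))
    · have heq : f.range = alternatingGroup {y : Fin 8 // y ≠ x} :=
        Subgroup.eq_of_le_of_card_ge hfA (by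
          rw [← Nat.card_congr (MonoidHom.ofInjective hf).toEquiv, h]; omega)
      exact Or.inr (Or.inl ⟨(MonoidHom.ofInjective hf).trans ((MulEquiv.subgroupCongr heq).trans
        (Equiv.altCongrHom (Fintype.equivFinOfCardEq hc7)))⟩)
  · push Not at hxfix
    obtain ⟨h₀, hh₀, hh₀x⟩ := hxfix
    have huniv : ∀ y, y ∈ orbit H a := by
      intro y
      by_cases hy : y = x
      · subst hy
        have h1 : h₀ y ∈ orbit H a := hsub ((hOx _).2 hh₀x)
        rw [← orbit_eq_iff.2 h1]
        exact ⟨⟨h₀⁻¹, inv_mem hh₀⟩, h₀.symm_apply_apply y⟩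
      · exact hsub ((hOx y).2 hy)
    haveI htr : IsPretransitive H (Fin 8) := by
      rw [isPretransitive_iff_base a]
      exact fun y => huniv y
    set S : Subgroup (Perm (Fin 8)) := (stabilizer H x).map H.subtype with hS
    have hgS : g ∈ S := ⟨⟨g, hg⟩, hgx, rfl⟩
    obtain ⟨-, -, -, hlist⟩ := key S ((Subgroup.map_subtype_le _).trans hA) hgS (by
      rintro _ ⟨h, hh, rfl⟩; exact hh)
    rw [hS, Subgroup.card_map_of_injective H.subtype_injective] at hlist
    have hst := (stabilizer H x).card_mul_index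
    rw [MulAction.index_stabilizer_of_transitive, Nat.card_eq_fintype_card (α := Fin 8),
      Fintype.card_fin] at hst
    rcases hlist with h | h | h | h
    · exact absurd (solvable_paqb 2 7 3 1 Nat.prime_two (by norm_num) (by rw [← hst, h]; norm_num)) hns
    · refine Or.inr (Or.inr (Or.inr (Or.inl (equiv_GL32_of_card hns (by omega)))))
    · exact (false_of_1344 H hA htr (by omega) h2 hg hg7 hgx).elim
    · have heq : H = alternatingGroup (Fin 8) := by
        refine Subgroup.eq_of_le_of_card_ge hA ?_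
        have := card_alt 8 (by norm_num)
        rw [show (8 : ℕ).factorial = 40320 from rfl] at this
        omega
      exact Or.inr (Or.inr (Or.inl ⟨MulEquiv.subgroupCongr heq⟩))

/-- A group of order prime to 7 with an element of order 5 is intransitive on eight points. -/
theorem ncard_orbit_ne_eight (H : Subgroup (Perm (Fin 8))) (h7 : ¬ 7 ∣ Nat.card H)
    {g : Perm (Fin 8)} (hg : g ∈ H) (hg5 : orderOf g = 5) {a : Fin 8} (ha : g a ≠ a) :
    (orbit H a).ncard ≠ 8 := by
  classical
  intro h
  have h8 : Nat.card (Fin 8) < 2 * 5 := by simp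
  set O := orbit (Subgroup.zpowers g) a with hO
  have hO5 := ncard_orbit_of_prime (by norm_num) hg5 ha
  have huniv : orbit H a = Set.univ := Set.eq_of_subset_of_ncard_le (Set.subset_univ _)
    (by rw [Set.ncard_univ, h]; simp)
  haveI htr : IsPretransitive H (Fin 8) := by
    rw [isPretransitive_iff_base a]
    exact fun y => show y ∈ orbit H a by rw [huniv]; trivial
  have hprim : IsPreprimitive H (Fin 8) := by
    refine IsPreprimitive.of_isTrivialBlock_base a fun {B} haB hB => ?_
    by_contra hcon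
    rw [IsTrivialBlock, not_or] at hcon
    obtain ⟨hsub1, hne⟩ := hcon
    have hmul := IsBlock.ncard_block_mul_ncard_orbit_eq hB ⟨a, haB⟩
    rw [Nat.card_eq_fintype_card, Fintype.card_fin] at hmul
    have h1 : 1 < B.ncard := by
      by_contra hh
      exact hsub1 (Set.ncard_le_one_iff_subsingleton.1 (not_lt.1 hh))
    have h2 : B.ncard < 8 := by
      refine lt_of_le_of_ne ((Set.ncard_le_card _).trans (by simp)) fun hh => hne ?_
      exact Set.eq_of_subset_of_ncard_le (Set.subset_univ _) (by rw [Set.ncard_univ, hh]; simp)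
    have h4 : B.ncard ≤ 4 := by
      have hd : B.ncard ∣ 8 := Dvd.intro _ hmul
      interval_cases B.ncard <;> omega
    have h4' : (orbit H B).ncard ≤ 4 := by nlinarith
    set Z := Subgroup.zpowers (⟨g, hg⟩ : H)
    have hsubB : orbit Z B ⊆ orbit H B := by
      rintro _ ⟨⟨π, hπ⟩, rfl⟩
      exact ⟨π, rfl⟩
    have hd5 : (orbit Z B).ncard ∣ 5 := by
      rw [← index_stabilizer]
      refine (Subgroup.index_dvd_card _).trans ?_
      rw [Nat.card_zpowers, Subgroup.orderOf_mk, hg5]
    have hone : (orbit Z B).ncard = 1 := by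
      rcases (Nat.dvd_prime (by norm_num)).1 hd5 with h5 | h5
      · exact h5
      · have := Set.ncard_le_ncard hsubB
        omega
    obtain ⟨B', hB'⟩ := Set.ncard_eq_one.1 hone
    have hstab : ∀ π : Z, π • B = B := fun π => by
      have a1 : π • B ∈ orbit Z B := mem_orbit B π
      have a2 : B ∈ orbit Z B := mem_orbit_self B
      rw [hB', Set.mem_singleton_iff] at a1 a2
      rw [a1, ← a2]
    have hOB : O ⊆ B := by
      rintro _ ⟨⟨π, hπ⟩, rfl⟩
      obtain ⟨k, rfl⟩ := Subgroup.mem_zpowers_iff.1 hπ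
      have := hstab ⟨(⟨g, hg⟩ : H) ^ k, Subgroup.zpow_mem _ (Subgroup.mem_zpowers _) k⟩
      rw [← this]
      exact ⟨a, haB, by simp [Subgroup.smul_def]⟩
    have := Set.ncard_le_ncard hOB
    rw [hO, hO5] at this
    omega
  have h3 : Oᶜ.ncard = 2 + 1 := by
    rw [Set.ncard_compl, hO, hO5, Nat.card_eq_fintype_card, Fintype.card_fin]
  have hfixing : IsPretransitive (fixingSubgroup H Oᶜ) (SubMulAction.ofFixingSubgroup H Oᶜ) := by
    refine ⟨fun ⟨y, hy⟩ ⟨y', hy'⟩ => ?_⟩
    have hyO : y ∈ O := not_not.1 hy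
    have hy'O : y' ∈ O := not_not.1 hy'
    obtain ⟨⟨π, hπ⟩, hπy⟩ : y' ∈ orbit (Subgroup.zpowers g) y := by
      rw [orbit_eq_iff.2 hyO]; exact hy'O
    obtain ⟨k, rfl⟩ := Subgroup.mem_zpowers_iff.1 hπ
    refine ⟨⟨⟨g ^ k, H.zpow_mem hg k⟩, ?_⟩, Subtype.ext hπy⟩
    rw [mem_fixingSubgroup_iff]
    intro z hz
    have hgz : g z = z := by
      by_contra hh
      exact hz ((mem_orbit_iff_moved (by norm_num) hg5 h8 ha z).2 hh)
    show (g ^ k) z = z
    exact Equiv.Perm.zpow_apply_eq_self_of_apply_eq_self hgz k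
  have h2t := IsPreprimitive.is_two_pretransitive hprim h3 (by simp) hfixing
  refine h7 ?_
  have horb : orbit (stabilizer H a) (g a) = ({a}ᶜ : Set (Fin 8)) := by
    refine Set.Subset.antisymm ?_ fun y hy => ?_
    · rintro _ ⟨⟨k, hk⟩, rfl⟩ he
      refine ha ?_
      have hk' : (k : Perm (Fin 8)) a = a := hk
      rw [Set.mem_singleton_iff] at he
      exact (k : Perm (Fin 8)).injective (he.trans hk'.symm)
    · obtain ⟨k, hk1, hk2⟩ : ∃ k : H, k • a = a ∧ k • g a = y :=
        is_two_pretransitive_iff.1 h2t (Ne.symm ha) (Ne.symm hy)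
      exact ⟨⟨k, hk1⟩, hk2⟩
  have : (orbit (stabilizer H a) (g a)).ncard ∣ Nat.card (stabilizer H a) := by
    rw [← index_stabilizer]; exact Subgroup.index_dvd_card _
  rw [horb, Set.ncard_compl, Set.ncard_singleton, Nat.card_eq_fintype_card (α := Fin 8),
    Fintype.card_fin] at this
  exact this.trans (Subgroup.card_subgroup_dvd_card _)

/-- Subgroups of order prime to 7. -/
theorem big_of_five (H : Subgroup (Perm (Fin 8))) (hA : H ≤ alternatingGroup (Fin 8))
    (hns : ¬ Group.IsSolvable H) (h7 : ¬ 7 ∣ Nat.card H) {g : Perm (Fin 8)} (hg : g ∈ H)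
    (hg5 : orderOf g = 5) : BigList H := by
  classical
  obtain ⟨a, ha⟩ : ∃ a, g a ≠ a := by
    by_contra h
    push Not at h
    rw [show g = 1 from Equiv.ext h, orderOf_one] at hg5
    omega
  have h8 : Nat.card (Fin 8) < 2 * 5 := by simp
  set O := orbit (Subgroup.zpowers g) a with hO
  have hO5 := ncard_orbit_of_prime (by norm_num) hg5 ha
  have hsub : O ⊆ orbit H a := by
    rintro _ ⟨⟨π, hπ⟩, rfl⟩
    obtain ⟨k, rfl⟩ := Subgroup.mem_zpowers_iff.1 hπ
    exact ⟨⟨g ^ k, H.zpow_mem hg k⟩, rfl⟩
  have hge : 5 ≤ (orbit H a).ncard := hO5 ▸ Set.ncard_le_ncard hsub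
  have hle : (orbit H a).ncard ≤ 8 := by
    refine (Set.ncard_le_card _).trans ?_
    simp
  have hn7 : (orbit H a).ncard ≠ 7 := by
    intro h
    apply h7
    rw [← h, ← index_stabilizer]
    exact Subgroup.index_dvd_card _
  have hn8 : (orbit H a).ncard ≠ 8 := ncard_orbit_ne_eight H h7 hg hg5 ha
  -- now the orbit has size five or six
  set p : Fin 8 → Prop := fun y => y ∈ orbit H a with hpdef
  have hp : ∀ h : H, ∀ y, p ((h : Perm (Fin 8)) y) ↔ p y := fun h y => by
    show (h • y) ∈ orbit H a ↔ y ∈ orbit H a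
    rw [← orbit_eq_iff, ← orbit_eq_iff, MulAction.orbit_smul]
  have hcardp : Fintype.card {y // p y} = (orbit H a).ncard := by
    rw [← Nat.card_eq_fintype_card]
    exact Nat.card_coe_set_eq _
  have hcompl : Fintype.card {y // ¬ p y} = 8 - (orbit H a).ncard := by
    rw [Fintype.card_subtype_compl, hcardp, Fintype.card_fin]
  set f := restrictHom H p hp with hf
  have hker := card_restrictHom_ker_dvd hA p hp
  haveI : Nontrivial {y // ¬ p y} := Fintype.one_lt_card_iff_nontrivial.1 (by omega)
  have halt := two_mul_nat_card_alternatingGroup (α := {y // ¬ p y})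
  rw [Nat.card_perm, Nat.card_eq_fintype_card (α := {y // ¬ p y}), hcompl] at halt
  have hns' : ¬ Group.IsSolvable f.range := by
    intro hsol
    refine hns (solvable_extension f.ker ?_ ?_)
    · refine solvable_twelve (hker.trans ?_)
      rcases (by omega : (orbit H a).ncard = 5 ∨ (orbit H a).ncard = 6) with h | h <;> rw [h] at halt
      · rw [show Nat.card (alternatingGroup {y // ¬ p y}) = 3 by
          rw [show (8 - 5 : ℕ).factorial = 6 from rfl] at halt; omega]
        norm_num
      · rw [show Nat.card (alternatingGroup {y // ¬ p y}) = 1 by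
          rw [show (8 - 6 : ℕ).factorial = 2 from rfl] at halt; omega]
        norm_num
    · exact Group.isSolvable_of_isSolvable_injective
        (f := (QuotientGroup.quotientKerEquivRange f).toMonoidHom) (MulEquiv.injective _)
  rcases (by omega : (orbit H a).ncard = 5 ∨ (orbit H a).ncard = 6) with h | h
  · rw [h] at halt
    have h3 : Nat.card f.ker ∣ 3 := by
      refine hker.trans (dvd_of_eq ?_)
      rw [show (8 - 5 : ℕ).factorial = 6 from rfl] at halt
      omega
    rcases (Nat.dvd_prime Nat.prime_three).1 h3 with h1 | h1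
    · have hinj : Function.Injective f := (MonoidHom.ker_eq_bot_iff f).1 (Subgroup.card_eq_one.1 h1)
      exact Or.inl (smallList_of_embedding (Or.inl (hcardp.trans h)) f hinj hns)
    · refine Or.inr (Or.inr (Or.inr (Or.inr ⟨f.ker, inferInstance, h1, ?_⟩)))
      let ψ := (Fintype.equivFinOfCardEq (hcardp.trans h)).permCongrHom
      let e : H ⧸ f.ker ≃* f.range.map ψ.toMonoidHom :=
        (QuotientGroup.quotientKerEquivRange f).trans (f.range.equivMapOfInjective _ ψ.injective)
      have hns'' : ¬ Group.IsSolvable (f.range.map ψ.toMonoidHom) := fun hh => hns'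
        (Group.isSolvable_of_isSolvable_injective
          (f := (f.range.equivMapOfInjective ψ.toMonoidHom ψ.injective).toMonoidHom) (MulEquiv.injective _))
      rcases subgroups_five _ hns'' with h' | h'
      · exact Or.inr ⟨e.trans ((MulEquiv.subgroupCongr h').trans Subgroup.topEquiv)⟩
      · exact Or.inl ⟨e.trans (MulEquiv.subgroupCongr h')⟩
  · rw [h] at halt
    have h1 : Nat.card f.ker = 1 := by
      rw [show (8 - 6 : ℕ).factorial = 2 from rfl] at halt
      refine Nat.dvd_one.1 (hker.trans (dvd_of_eq ?_))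
      omega
    exact Or.inl (smallList_of_embedding (Or.inr (hcardp.trans h)) f
      ((MonoidHom.ker_eq_bot_iff f).1 (Subgroup.card_eq_one.1 h1)) hns)

/-- The classification. -/
theorem bigList_of_le_alt (H : Subgroup (Perm (Fin 8))) (hA : H ≤ alternatingGroup (Fin 8))
    (hns : ¬ Group.IsSolvable H) (h2 : Cfsg.pCore 2 H = ⊥) : BigList H := by
  have hd : Nat.card H ∣ 20160 := by
    have h := card_alt 8 (by norm_num)
    rw [show (8 : ℕ).factorial = 40320 from rfl] at h
    exact (Subgroup.card_dvd_of_le hA).trans (dvd_of_eq (by omega))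
  haveI : Fact (Nat.Prime 7) := ⟨by norm_num⟩
  haveI : Fact (Nat.Prime 5) := ⟨by norm_num⟩
  by_cases h7 : 7 ∣ Nat.card H
  · obtain ⟨g, hg⟩ := exists_prime_orderOf_dvd_card' (G := H) 7 h7
    exact big_of_seven H hA hns h2 g.2 (by rw [Subgroup.orderOf_coe, hg])
  by_cases h5 : 5 ∣ Nat.card H
  · obtain ⟨g, hg⟩ := exists_prime_orderOf_dvd_card' (G := H) 5 h5
    exact big_of_five H hA hns h7 g.2 (by rw [Subgroup.orderOf_coe, hg])
  refine absurd (solvable_paqb 2 3 6 2 Nat.prime_two Nat.prime_three ?_) hns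
  have h35 : (Nat.card H).Coprime (5 * 7) := Nat.Coprime.mul_right
    (((Nat.Prime.coprime_iff_not_dvd (by norm_num)).2 h5).symm)
    (((Nat.Prime.coprime_iff_not_dvd (by norm_num)).2 h7).symm)
  rw [show (20160 : ℕ) = 2 ^ 6 * 3 ^ 2 * (5 * 7) from rfl] at hd
  exact h35.dvd_of_dvd_mul_right hd

/-- The classification, for a group embedded in `A₈`. -/
theorem bigList_of_embedding {G : Type*} [Group G] [Finite G] (φ : G →* alternatingGroup (Fin 8))
    (hφ : Function.Injective φ) (hns : ¬ Group.IsSolvable G) (h2 : Cfsg.pCore 2 G = ⊥) :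
    BigList G := by
  let f := (alternatingGroup (Fin 8)).subtype.comp φ
  have hf : Function.Injective f := (Subgroup.subtype_injective _).comp hφ
  let e := MonoidHom.ofInjective hf
  refine BigList.congr e (bigList_of_le_alt _ ?_ ?_ ?_)
  · rintro _ ⟨u, rfl⟩; exact (φ u).2
  · exact fun h => hns (Group.isSolvable_of_isSolvable_injective (f := e.toMonoidHom) e.injective)
  · rw [← CfsgLib.PLocal.map_pCore_equiv (p := 2) e, h2, Subgroup.map_bot]

/-- A normal 3-subgroup of a group isomorphic to `A₅` or `S₅` is trivial. -/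
theorem eq_bot_of_three {Q : Type*} [Group Q] [Finite Q]
    (h : Nonempty (Q ≃* alternatingGroup (Fin 5)) ∨ Nonempty (Q ≃* Perm (Fin 5)))
    (R : Subgroup Q) [R.Normal] (hR : IsPGroup 3 R) : R = ⊥ := by
  haveI : Fact (Nat.Prime 3) := ⟨Nat.prime_three⟩
  haveI hs : IsSimpleGroup (alternatingGroup (Fin 5)) := alternatingGroup.isSimpleGroup_five
  have hcA := card_alt 5 (by norm_num)
  rw [show (5 : ℕ).factorial = 120 from rfl] at hcA
  obtain ⟨n, hn⟩ := IsPGroup.iff_card.1 hR
  have hne60 : ∀ m, (3 : ℕ) ^ m ≠ 60 := fun m hm => by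
    have : 5 ∣ 3 ^ m := by rw [hm]; norm_num
    have := (by norm_num : Nat.Prime 5).dvd_of_dvd_pow this
    omega
  rcases h with he | he
  · obtain ⟨e⟩ := he
    have : (R.map e.toMonoidHom).Normal := (inferInstance : R.Normal).map _ e.surjective
    have hc : Nat.card (R.map e.toMonoidHom) = 3 ^ n :=
      (Subgroup.card_map_of_injective e.injective).trans hn
    rcases this.eq_bot_or_eq_top with h' | h'
    · exact (Subgroup.map_eq_bot_iff_of_injective R e.injective).1 h'
    · exfalso
      rw [h', Subgroup.card_top] at hc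
      exact hne60 n (by omega)
  · obtain ⟨e⟩ := he
    set S := R.map e.toMonoidHom
    haveI hSn : S.Normal := (inferInstance : R.Normal).map _ e.surjective
    have hc : Nat.card S = 3 ^ n := (Subgroup.card_map_of_injective e.injective).trans hn
    have hle : S ≤ alternatingGroup (Fin 5) := by
      intro u hu
      rw [Equiv.Perm.mem_alternatingGroup]
      have h3 : orderOf u ∣ 3 ^ n := hc ▸ S.orderOf_dvd_natCard hu
      have h2 : orderOf (Perm.sign u) ∣ 2 := by
        have := orderOf_dvd_natCard (Perm.sign u)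
        simpa [Nat.card_eq_fintype_card, Fintype.card_units_int] using this
      exact orderOf_eq_one_iff.1 (Nat.eq_one_of_dvd_coprimes
        ((Nat.Coprime.pow_left n (by norm_num : Nat.Coprime 3 2)))
        ((orderOf_map_dvd Perm.sign u).trans h3) h2)
    rcases (hSn.subgroupOf (alternatingGroup (Fin 5))).eq_bot_or_eq_top with h' | h'
    · rw [Subgroup.subgroupOf_eq_bot, disjoint_iff, inf_eq_left.2 hle] at h'
      exact (Subgroup.map_eq_bot_iff_of_injective R e.injective).1 h'
    · exfalso
      have heq : S = alternatingGroup (Fin 5) := le_antisymm hle (Subgroup.subgroupOf_eq_top.1 h')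
      rw [heq] at hc
      exact hne60 n (by omega)

end CfsgLib.GLFourTwo
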