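import Cfsg.Prelude
import Cfsg.Agent.Inv53.Constrained
import Cfsg.Agent.Coprime.Action
import Cfsg.Agent.Solvable.Frattini
import Cfsg.Agent.GLFourTwo.Embed

/-!
# The action of a group on the Frattini quotient of its 2-core, in coordinates
-/

set_option autoImplicit false

namespace CfsgLib.GLFourTwo

open Cfsg Matrix
open scoped commutatorElement

variable {X : Type*} [Group X]

/-- The action of `X` on the Frattini quotient of its 2-core. -/
noncomputable def frattAct (X : Type*) [Group X] :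
    X →* MulAut (↥(pCore 2 X) ⧸ frattini ↥(pCore 2 X)) :=
  MonoidHom.mk' (fun x => QuotientGroup.congr _ _ (MulAut.conjNormal x)
      (Subgroup.characteristic_iff_map_eq.mp inferInstance _))
    fun x y => MulEquiv.ext fun q => by
      induction q using QuotientGroup.induction_on with
      | H k =>
        simp only [map_mul, MulAut.mul_apply]
        rfl

theorem frattAct_mk (x : X) (k : ↥(pCore 2 X)) :
    frattAct X x (k : ↥(pCore 2 X) ⧸ frattini ↥(pCore 2 X)) =
      ((MulAut.conjNormal x k : ↥(pCore 2 X)) : ↥(pCore 2 X) ⧸ frattini ↥(pCore 2 X)) :=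
  rfl

variable [Finite X]

theorem frattQuot_comm (a b : ↥(pCore 2 X) ⧸ frattini ↥(pCore 2 X)) : a * b = b * a := by
  haveI : Fact (Nat.Prime 2) := ⟨Nat.prime_two⟩
  induction a using QuotientGroup.induction_on with
  | H a =>
  induction b using QuotientGroup.induction_on with
  | H b =>
  rw [← commutatorElement_eq_one_iff_mul_comm, ← QuotientGroup.mk'_apply,
    ← QuotientGroup.mk'_apply, ← map_commutatorElement, QuotientGroup.mk'_apply,
    QuotientGroup.eq_one_iff]
  exact Solvable.commutator_le_frattini (PLocal.isPGroup_pCore 2 X)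
    (Subgroup.commutator_mem_commutator (Subgroup.mem_top _) (Subgroup.mem_top _))

theorem frattQuot_sq (a : ↥(pCore 2 X) ⧸ frattini ↥(pCore 2 X)) : a ^ 2 = 1 := by
  haveI : Fact (Nat.Prime 2) := ⟨Nat.prime_two⟩
  induction a using QuotientGroup.induction_on with
  | H a =>
  rw [← QuotientGroup.mk_pow, QuotientGroup.eq_one_iff]
  exact Solvable.pow_mem_frattini (PLocal.isPGroup_pCore 2 X) a

theorem card_frattQuot_le (h4 : SectionalPRankLE 2 4 ↥(pCore 2 X)) :
    Nat.card (↥(pCore 2 X) ⧸ frattini ↥(pCore 2 X)) ≤ 16 := by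
  let g := (QuotientGroup.mk' (frattini ↥(pCore 2 X))).comp
    (Subgroup.topEquiv : (⊤ : Subgroup ↥(pCore 2 X)) ≃* ↥(pCore 2 X)).toMonoidHom
  have hg : Function.Surjective g :=
    (QuotientGroup.mk'_surjective _).comp (Subgroup.topEquiv : (⊤ : Subgroup ↥(pCore 2 X)) ≃* _).surjective
  let q := QuotientGroup.quotientKerEquivOfSurjective g hg
  have hA := h4 ⊤ g.ker ⊤ ⟨⟨fun a b => Subtype.ext (q.injective (by
      simp only [Subgroup.coe_mul, map_mul]; exact frattQuot_comm _ _))⟩⟩
    (fun a _ => q.injective (by rw [map_pow, map_one]; exact frattQuot_sq _))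
  rw [Subgroup.card_top, Nat.card_congr q.toEquiv] at hA
  exact hA

theorem ker_frattAct (hc : IsPConstrained 2 X) (hO : oddCore X = ⊥) :
    (frattAct X).ker = pCore 2 X := by
  haveI : Fact (Nat.Prime 2) := ⟨Nat.prime_two⟩
  have hP : IsPGroup 2 (pCore 2 X) := PLocal.isPGroup_pCore 2 X
  have hC : Subgroup.centralizer (pCore 2 X : Set X) ≤ pCore 2 X :=
    Inv53.centralizer_pCore_le hc hO
  refine le_antisymm ?_ ?_
  · refine PLocal.le_pCore (Inv53.isPGroup_of_forall_coprime (frattAct X).ker fun x hx hcop => ?_)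
    have hn : Subgroup.zpowers x ≤ Subgroup.normalizer (pCore 2 X : Set X) :=
      le_top.trans_eq (Subgroup.normalizer_eq_top (pCore 2 X)).symm
    have hcop' : (Nat.card (Subgroup.zpowers x)).Coprime (Nat.card (frattini ↥(pCore 2 X))) := by
      rw [Nat.card_zpowers]
      obtain ⟨n, hn⟩ := IsPGroup.iff_card.mp (hP.to_subgroup (frattini ↥(pCore 2 X)))
      rw [hn]
      exact hcop.pow_right n
    have hsub : ⁅pCore 2 X, Subgroup.zpowers x⁆ ≤
        (frattini ↥(pCore 2 X)).map (pCore 2 X).subtype := by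
      rw [Subgroup.commutator_le]
      intro k hk a ha
      have haker : a ∈ (frattAct X).ker := (Subgroup.zpowers_le.mpr hx) ha
      have h1 := frattAct_mk a (⟨k, hk⟩ : ↥(pCore 2 X))⁻¹
      rw [MonoidHom.mem_ker.mp haker, MulAut.one_apply] at h1
      refine ⟨⟨k, hk⟩ * MulAut.conjNormal a (⟨k, hk⟩ : ↥(pCore 2 X))⁻¹, ?_, ?_⟩
      · rw [SetLike.mem_coe, ← QuotientGroup.eq_one_iff, QuotientGroup.mk_mul]
        erw [← h1]
        rw [QuotientGroup.mk_inv, mul_inv_cancel]
      · simp [commutatorElement_def, MulAut.conjNormal_apply, mul_assoc]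
    have hxC := Coprime.le_centralizer_of_commutator_le_frattini hn hcop' hsub
      (Subgroup.mem_zpowers x)
    obtain ⟨n, hn'⟩ := IsPGroup.iff_card.mp hP
    have hdvd : orderOf x ∣ 2 ^ n := hn' ▸ (pCore 2 X).orderOf_dvd_natCard (hC hxC)
    exact orderOf_eq_one_iff.mp (Nat.eq_one_of_dvd_coprimes (hcop.pow_right n) dvd_rfl hdvd)
  · intro x hx
    rw [MonoidHom.mem_ker]
    refine MulEquiv.ext fun q => ?_
    induction q using QuotientGroup.induction_on with
    | H k =>
    rw [frattAct_mk, MulAut.one_apply]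
    have : MulAut.conjNormal x k = (⟨x, hx⟩ : ↥(pCore 2 X)) * k * (⟨x, hx⟩ : ↥(pCore 2 X))⁻¹ :=
      Subtype.ext (by simp)
    rw [this, QuotientGroup.mk_mul, QuotientGroup.mk_mul, QuotientGroup.mk_inv, frattQuot_comm,
      inv_mul_cancel_left]

/-- An elementary abelian group of order at most 16 with its automorphisms in coordinates. -/
theorem exists_lin_coord {V : Type*} [Group V] [Finite V] (hc : ∀ a b : V, a * b = b * a)
    (he : ∀ a : V, a ^ 2 = 1) (h16 : Nat.card V ≤ 16) :
    ∃ (e : V → (Fin 4 → ZMod 2)) (l : MulAut V →* SpecialLinearGroup (Fin 4) (ZMod 2)),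
      Function.Injective e ∧ Function.Injective l ∧ (∀ a b, e (a * b) = e a + e b) ∧
      (∀ (g : MulAut V) (a : V),
        (l g : Matrix (Fin 4) (Fin 4) (ZMod 2)).mulVec (e a) = e (g a)) ∧
      (Nat.card V = 16 ∨ ∃ w : Fin 4 → ZMod 2, w ≠ 0 ∧
        ∀ g : MulAut V, (l g : Matrix (Fin 4) (Fin 4) (ZMod 2)).mulVec w = w) := by
  classical
  haveI : Fact (Nat.Prime 2) := ⟨Nat.prime_two⟩
  letI : CommGroup V := { (inferInstance : Group V) with mul_comm := hc }
  letI : Module (ZMod 2) (Additive V) := AddCommGroup.zmodModule fun x => by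
    show Additive.ofMul (x.toMul ^ 2) = 0
    rw [he]; rfl
  set d := Module.finrank (ZMod 2) (Additive V) with hd
  have hcard : Nat.card V = 2 ^ d := by
    rw [Nat.card_congr (Additive.ofMul : V ≃ Additive V), Module.natCard_eq_pow_finrank (K := ZMod 2),
      Nat.card_zmod]
  have hd4 : d ≤ 4 := by
    rw [hcard] at h16
    exact (Nat.pow_le_pow_iff_right (by norm_num)).1 (show 2 ^ d ≤ 2 ^ 4 from h16)
  have hfr : Module.finrank (ZMod 2) (Additive V × (Fin (4 - d) → ZMod 2)) =
      Module.finrank (ZMod 2) (Fin 4 → ZMod 2) := by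
    rw [Module.finrank_prod, Module.finrank_fin_fun, Module.finrank_fin_fun, ← hd]; omega
  let e := LinearEquiv.ofFinrankEq (Additive V × (Fin (4 - d) → ZMod 2)) (Fin 4 → ZMod 2) hfr
  let l : MulAut V →* ((Fin 4 → ZMod 2) ≃ₗ[ZMod 2] (Fin 4 → ZMod 2)) :=
    MonoidHom.mk' (fun g => e.symm.trans
        ((({ g.toAdditive with map_smul' := ZMod.map_smul g.toAdditive } :
          Additive V ≃ₗ[ZMod 2] Additive V)).prodCongr (LinearEquiv.refl _ _) |>.trans e))
      (fun g h => by
        ext x : 1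
        simp only [LinearEquiv.mul_apply, LinearEquiv.trans_apply, LinearEquiv.symm_apply_apply]
        rfl)
  have hact : ∀ (g : MulAut V) (p : Additive V × (Fin (4 - d) → ZMod 2)),
      ((toSL (l g) : SpecialLinearGroup (Fin 4) (ZMod 2)) : Matrix (Fin 4) (Fin 4) (ZMod 2)).mulVec
        (e p) = e (Additive.ofMul (g p.1.toMul), p.2) := by
    intro g p
    show (LinearMap.toMatrix' (l g).toLinearMap).mulVec (e p) = _
    rw [LinearMap.toMatrix'_mulVec]
    show e (Additive.ofMul (g (e.symm (e p)).1.toMul), (e.symm (e p)).2) = _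
    rw [e.symm_apply_apply]
  refine ⟨fun a => e (Additive.ofMul a, 0), toSL.comp l,
    fun a b h => Additive.ofMul.injective (Prod.ext_iff.1 (e.injective h)).1,
    toSL_injective.comp ?_, fun a b => by rw [← map_add, Prod.mk_add_mk, add_zero]; rfl,
    fun g a => hact g (Additive.ofMul a, 0), ?_⟩
  · intro g h hgh
    refine MulEquiv.ext fun v => ?_
    have h1 := congrArg (fun f : (Fin 4 → ZMod 2) ≃ₗ[ZMod 2] (Fin 4 → ZMod 2) =>
      (e.symm (f (e (Additive.ofMul v, 0)))).1) hgh
    simp only [l, MonoidHom.mk'_apply, LinearEquiv.trans_apply, LinearEquiv.symm_apply_apply] at h1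
    exact Additive.ofMul.injective h1
  · rcases eq_or_lt_of_le hd4 with h | h
    · exact Or.inl (by rw [hcard, h]; rfl)
    · refine Or.inr ⟨e (0, fun _ => 1), fun hw => ?_, fun g => ?_⟩
      · rw [LinearEquiv.map_eq_zero_iff, Prod.mk_eq_zero] at hw
        exact one_ne_zero (congrFun hw.2 ⟨0, by omega⟩)
      · refine (hact g (0, fun _ => 1)).trans ?_
        rw [show Additive.ofMul (g (0 : Additive V).toMul) = 0 from congrArg Additive.ofMul (map_one g)]

end CfsgLib.GLFourTwo
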