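import Cfsg.Agent.GLFourTwo.Subgroups
import Cfsg.Agent.GLFourTwo.FrattiniAction

/-!
# An extension of `2⁴` by `S₆` or `A₈` has sectional 2-rank at least five
-/

set_option autoImplicit false

namespace CfsgLib.GLFourTwo

open Equiv Cfsg
open scoped Pointwise

/-- An elementary abelian subgroup of order 8 of the stabiliser of `{6,7}`. -/
def radA : Fin 8 → Perm (Fin 8) :=
  ![1, swap 0 1 * swap 2 3, swap 0 2 * swap 1 3, swap 0 3 * swap 1 2,
    swap 4 5 * swap 6 7, swap 0 1 * swap 2 3 * (swap 4 5 * swap 6 7),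
    swap 0 2 * swap 1 3 * (swap 4 5 * swap 6 7), swap 0 3 * swap 1 2 * (swap 4 5 * swap 6 7)]

/-- Elements commuting with those of `radA`. -/
def radT : Fin 8 → Perm (Fin 8) :=
  ![1, 1, 1, 1, 1, swap 0 2 * swap 2 4 * (swap 1 3 * swap 3 5),
    swap 0 1 * swap 1 4 * (swap 2 3 * swap 3 5), swap 0 1 * swap 1 4 * (swap 3 2 * swap 2 5)]

/-- The matrices of `radA`. -/
def matA : Fin 8 → Matrix (Fin 4) (Fin 4) (ZMod 2) :=
  ![!![1,0,0,0; 0,1,0,0; 0,0,1,0; 0,0,0,1], !![1,0,1,0; 0,1,0,1; 0,0,1,0; 0,0,0,1],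
    !![1,0,1,1; 0,1,1,0; 0,0,1,0; 0,0,0,1], !![1,0,0,1; 0,1,1,1; 0,0,1,0; 0,0,0,1],
    !![1,0,1,1; 0,1,0,1; 0,0,1,0; 0,0,0,1], !![1,0,0,1; 0,1,0,0; 0,0,1,0; 0,0,0,1],
    !![1,0,0,0; 0,1,1,1; 0,0,1,0; 0,0,0,1], !![1,0,1,0; 0,1,1,0; 0,0,1,0; 0,0,0,1]]

/-- The matrices of `radT`. -/
def matT : Fin 8 → Matrix (Fin 4) (Fin 4) (ZMod 2) :=
  ![1, 1, 1, 1, 1, !![1,1,0,0; 0,1,1,0; 0,1,0,0; 0,0,0,1],
    !![1,0,1,0; 0,1,1,0; 1,0,1,1; 1,0,0,0], !![0,1,0,0; 0,1,1,1; 0,0,1,0; 1,1,0,1]]

set_option maxRecDepth 100000 in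
theorem matA_spec : ∀ i, (matA i).det = 1 ∧ ∀ p q : Fin 8,
    matA i * (v p + v q) * (matA i).transpose = v (radA i p) + v (radA i q) := by
  decide +kernel

set_option maxRecDepth 100000 in
theorem matT_spec : ∀ i, (matT i).det = 1 ∧ ∀ p q : Fin 8,
    matT i * (v p + v q) * (matT i).transpose = v (radT i p) + v (radT i q) := by
  decide +kernel

/-- Membership in the plane. -/
abbrev InPlane (w : Fin 4 → ZMod 2) : Prop := w 2 = 0 ∧ w 3 = 0

set_option maxRecDepth 100000 in
theorem matA_plane : ∀ (i : Fin 8) (w : Fin 4 → ZMod 2),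
    InPlane ((matA i).mulVec w + w) ∧ (InPlane w → (matA i).mulVec w = w) := by
  decide +kernel

set_option maxRecDepth 100000 in
theorem mat_fixed : ∀ i : Fin 8, i ≠ 0 → ∀ w u : Fin 4 → ZMod 2, (matA i).mulVec w = w →
    (matT i).mulVec w + w = u + (matA i).mulVec u → InPlane w := by
  decide +kernel

set_option maxRecDepth 100000 in
theorem no_fixed : ∀ w : Fin 4 → ZMod 2,
    (∀ i, (matA i).mulVec w = w) → (∀ i, (matT i).mulVec w = w) → w = 0 := by
  decide +kernel

set_option maxRecDepth 100000 in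
theorem rad_perm : ∀ i, radA i * radT i = radT i * radA i ∧ radA i * radA i = 1 ∧
    Perm.sign (radA i) = 1 ∧ Perm.sign (radT i) = 1 ∧
    (radA i 6 = 6 ∧ radA i 7 = 7 ∨ radA i 6 = 7 ∧ radA i 7 = 6) ∧ radT i 6 = 6 ∧ radT i 7 = 7 := by
  decide +kernel

set_option maxRecDepth 100000 in
theorem radA_closed : ∀ i j, ∃ k, radA i * radA j = radA k := by
  decide +kernel

set_option maxRecDepth 100000 in
theorem radA_injective : ∀ i j, radA i = radA j → i = j := by
  decide +kernel

theorem toAlt_eq {g : Matrix.SpecialLinearGroup (Fin 4) (ZMod 2)} {π : alternatingGroup (Fin 8)}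
    (h : Induces g π) : equivAlt.symm π = g := by
  rw [MulEquiv.symm_apply_eq]
  exact Subtype.ext (induces_unique h (toAlt_spec g))

/-- A subgroup of `A₈` of order 720 containing an element of order 5 is the stabiliser of a pair. -/
theorem exists_pair_stabilizer (K : Subgroup (Perm (Fin 8))) (hA : K ≤ alternatingGroup (Fin 8))
    (hc : Nat.card K = 720) : ∃ p q : Fin 8, p ≠ q ∧
      ∀ π ∈ alternatingGroup (Fin 8), (π p = p ∧ π q = q ∨ π p = q ∧ π q = p) → π ∈ K := by
  classical
  haveI : Fact (Nat.Prime 5) := ⟨by norm_num⟩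
  obtain ⟨g, hg⟩ := exists_prime_orderOf_dvd_card' (G := K) 5 (by rw [hc]; norm_num)
  have hg5 : orderOf (g : Perm (Fin 8)) = 5 := by rw [Subgroup.orderOf_coe, hg]
  obtain ⟨a, ha⟩ : ∃ a, (g : Perm (Fin 8)) a ≠ a := by
    by_contra h
    push Not at h
    rw [show (g : Perm (Fin 8)) = 1 from Equiv.ext h, orderOf_one] at hg5
    omega
  set O := MulAction.orbit K a with hO
  have hge : 5 ≤ O.ncard := by
    rw [← ncard_orbit_of_prime (by norm_num) hg5 ha]
    refine Set.ncard_le_ncard ?_
    rintro _ ⟨⟨π, hπ⟩, rfl⟩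
    obtain ⟨k, rfl⟩ := Subgroup.mem_zpowers_iff.1 hπ
    exact ⟨⟨(g : Perm (Fin 8)) ^ k, K.zpow_mem g.2 k⟩, rfl⟩
  have hle : O.ncard ≤ 8 := (Set.ncard_le_card _).trans (by simp)
  have hdvd : O.ncard ∣ 720 := by
    rw [← hc, hO, ← MulAction.index_stabilizer]
    exact Subgroup.index_dvd_card _
  have hn8 : O.ncard ≠ 8 := ncard_orbit_ne_eight K (by rw [hc]; norm_num) g.2 hg5 ha
  have hn7 : O.ncard ≠ 7 := fun h => by rw [h] at hdvd; norm_num at hdvd
  set P : Fin 8 → Prop := fun y => y ∈ O with hP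
  have hp : ∀ h : K, ∀ y, P ((h : Perm (Fin 8)) y) ↔ P y := fun h y => by
    show (h • y) ∈ MulAction.orbit K a ↔ y ∈ MulAction.orbit K a
    rw [← MulAction.orbit_eq_iff, ← MulAction.orbit_eq_iff, MulAction.orbit_smul]
  have hcardp : Fintype.card {y // P y} = O.ncard := by
    rw [← Nat.card_eq_fintype_card]
    exact Nat.card_coe_set_eq _
  have hcompl : Fintype.card {y // ¬ P y} = 8 - O.ncard := by
    rw [Fintype.card_subtype_compl, hcardp, Fintype.card_fin]
  have h6 : O.ncard = 6 := by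
    by_contra hne
    have h5 : O.ncard = 5 := by omega
    haveI : Nontrivial {y // ¬ P y} := Fintype.one_lt_card_iff_nontrivial.1 (by omega)
    have halt := two_mul_nat_card_alternatingGroup (α := {y // ¬ P y})
    rw [Nat.card_perm, Nat.card_eq_fintype_card (α := {y // ¬ P y}), hcompl, h5,
      show (8 - 5 : ℕ).factorial = 6 from rfl] at halt
    have hker := Nat.le_of_dvd Nat.card_pos (card_restrictHom_ker_dvd hA P hp)
    have hr := Nat.le_of_dvd Nat.card_pos
      (Subgroup.card_subgroup_dvd_card (restrictHom K P hp).range)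
    rw [Nat.card_perm, Nat.card_eq_fintype_card (α := {y // P y}), hcardp, h5,
      show (5 : ℕ).factorial = 120 from rfl] at hr
    have hmul := Subgroup.card_eq_card_quotient_mul_card_subgroup (restrictHom K P hp).ker
    rw [Nat.card_congr (QuotientGroup.quotientKerEquivRange _).toEquiv, hc] at hmul
    have := Nat.mul_le_mul hr hker
    omega
  have hc2 : Oᶜ.ncard = 2 := by
    rw [Set.ncard_compl, h6, Nat.card_eq_fintype_card, Fintype.card_fin]
  obtain ⟨p, q, hpq, hOpq⟩ := Set.ncard_eq_two.1 hc2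
  refine ⟨p, q, hpq, fun π hπ hπpq => ?_⟩
  -- the stabiliser of `O` is no bigger than `K`
  have hPiff : ∀ y, P y ↔ ¬ (y = p ∨ y = q) := fun y => by
    have := Set.ext_iff.1 hOpq y
    simp only [Set.mem_compl_iff, Set.mem_insert_iff, Set.mem_singleton_iff] at this
    exact ⟨fun h1 h2 => (this.2 h2) h1, fun h1 => not_not.1 fun h2 => h1 (this.1 h2)⟩
  let S : Subgroup (Perm (Fin 8)) :=
    alternatingGroup (Fin 8) ⊓ MulAction.stabilizer (Perm (Fin 8)) O
  have hKS : K ≤ S := by
    intro h hh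
    refine ⟨hA hh, ?_⟩
    exact MulAction.mem_stabilizer_set.2 fun y => hp ⟨h, hh⟩ y
  have hπS : π ∈ S := by
    refine ⟨hπ, ?_⟩
    refine MulAction.mem_stabilizer_set.2 fun y => ?_
    show P (π y) ↔ P y
    rw [hPiff, hPiff]
    refine not_congr ?_
    rcases hπpq with ⟨h1, h2⟩ | ⟨h1, h2⟩
    · constructor
      · rintro (h | h)
        · exact Or.inl (π.injective (h.trans h1.symm))
        · exact Or.inr (π.injective (h.trans h2.symm))
      · rintro (rfl | rfl)
        · exact Or.inl h1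
        · exact Or.inr h2
    · constructor
      · rintro (h | h)
        · exact Or.inr (π.injective (h.trans h2.symm))
        · exact Or.inl (π.injective (h.trans h1.symm))
      · rintro (rfl | rfl)
        · exact Or.inr h1
        · exact Or.inl h2
  have hpS : ∀ h : S, ∀ y, P ((h : Perm (Fin 8)) y) ↔ P y := fun h y =>
    MulAction.mem_stabilizer_set.1 h.2.2 y
  haveI : Nontrivial {y // ¬ P y} := Fintype.one_lt_card_iff_nontrivial.1 (by omega)
  have halt := two_mul_nat_card_alternatingGroup (α := {y // ¬ P y})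
  rw [Nat.card_perm, Nat.card_eq_fintype_card (α := {y // ¬ P y}), hcompl, h6,
    show (8 - 6 : ℕ).factorial = 2 from rfl] at halt
  have hker := card_restrictHom_ker_dvd (inf_le_left : S ≤ _) P hpS
  rw [show Nat.card (alternatingGroup {y // ¬ P y}) = 1 by omega, Nat.dvd_one,
    Subgroup.card_eq_one] at hker
  have hle720 := Nat.card_le_card_of_injective _ ((MonoidHom.ker_eq_bot_iff _).1 hker)
  rw [Nat.card_perm, Nat.card_eq_fintype_card (α := {y // P y}), hcardp, h6,
    show (6 : ℕ).factorial = 720 from rfl] at hle720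
  have hS : K = S := Subgroup.eq_of_le_of_card_ge hKS (hle720.trans_eq hc.symm)
  rw [hS]
  exact hπS

/-- The alternating group on eight points has no subgroup of order 5040. -/
theorem card_ne_5040 (K : Subgroup (alternatingGroup (Fin 8))) : Nat.card K ≠ 5040 := by
  intro hc
  have hi : K.index = 4 := by
    have := K.card_mul_index
    rw [hc, card_alternating_eight] at this
    omega
  haveI := alternatingGroup.isSimpleGroup (α := Fin 8) (by simp)
  rcases (MulAction.toPermHom (alternatingGroup (Fin 8))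
    (alternatingGroup (Fin 8) ⧸ K)).normal_ker.eq_bot_or_eq_top with h | h
  · have := Nat.card_le_card_of_injective _ ((MonoidHom.ker_eq_bot_iff _).1 h)
    rw [card_alternating_eight, Nat.card_perm,
      show Nat.card (alternatingGroup (Fin 8) ⧸ K) = 4 from hi] at this
    norm_num [Nat.factorial] at this
  · have hK : K = ⊤ := eq_top_iff.2 fun x _ => by
      have hx : x ∈ (MulAction.toPermHom (alternatingGroup (Fin 8))
        (alternatingGroup (Fin 8) ⧸ K)).ker := by rw [h]; trivial
      have := DFunLike.congr_fun (MonoidHom.mem_ker.1 hx) ((1 : alternatingGroup (Fin 8)) :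
        alternatingGroup (Fin 8) ⧸ K)
      change ((x * 1 : alternatingGroup (Fin 8)) : alternatingGroup (Fin 8) ⧸ K) = _ at this
      rw [mul_one] at this
      have h2 : ((x : alternatingGroup (Fin 8)) : alternatingGroup (Fin 8) ⧸ K) =
        ((1 : alternatingGroup (Fin 8)) : alternatingGroup (Fin 8) ⧸ K) := this
      simpa using QuotientGroup.eq.1 h2.symm
    rw [hK, Subgroup.index_top] at hi
    omega

variable {X : Type*} [Group X] [Finite X]

/-- A 2-constrained group with radical quotient `S₆`, `S₇` or `A₈` has sectional 2-rank at least 5. -/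
theorem not_sectionalPRankLE_four (hc : IsPConstrained 2 X) (hO : oddCore X = ⊥)
    (h4 : SectionalPRankLE 2 4 ↥(pCore 2 X))
    (hQ : Nat.card (X ⧸ pCore 2 X) = 720 ∨ Nat.card (X ⧸ pCore 2 X) = 5040 ∨
      Nat.card (X ⧸ pCore 2 X) = 20160) :
    ¬ SectionalPRankLE 2 4 X := by
  classical
  intro hX
  set P := pCore 2 X with hPdef
  obtain ⟨e, l, he, hl, heq, hle, h16⟩ :=
    exists_lin_coord (frattQuot_comm (X := X)) frattQuot_sq (card_frattQuot_le h4)
  let θ : X →* alternatingGroup (Fin 8) := equivAlt.toMonoidHom.comp (l.comp (frattAct X))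
  have hθker : θ.ker = P := by
    refine Eq.trans ?_ (ker_frattAct hc hO)
    ext x
    rw [MonoidHom.mem_ker, MonoidHom.mem_ker]
    show equivAlt (l (frattAct X x)) = 1 ↔ _
    rw [MulEquiv.map_eq_one_iff, map_eq_one_iff l hl]
  have hcθ : Nat.card (θ.range.map (alternatingGroup (Fin 8)).subtype) = Nat.card (X ⧸ P) := by
    rw [Subgroup.card_map_of_injective (Subgroup.subtype_injective _), ← hθker,
      Nat.card_congr (QuotientGroup.quotientKerEquivRange θ).toEquiv]
  -- a pair stabiliser in the image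
  obtain ⟨p, q, hpq, hstab⟩ : ∃ p q : Fin 8, p ≠ q ∧ ∀ π ∈ alternatingGroup (Fin 8),
      (π p = p ∧ π q = q ∨ π p = q ∧ π q = p) →
        π ∈ θ.range.map (alternatingGroup (Fin 8)).subtype := by
    rcases hQ with h | h | h
    · exact exists_pair_stabilizer _ (Subgroup.map_subtype_le _) (hcθ.trans h)
    · exfalso
      rw [Subgroup.card_map_of_injective (Subgroup.subtype_injective _), h] at hcθ
      exact card_ne_5040 _ hcθ
    · refine ⟨6, 7, by decide, fun π hπ _ => ?_⟩
      rw [Subgroup.eq_of_le_of_card_ge (Subgroup.map_subtype_le θ.range)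
        (by rw [hcθ, h, card_alternating_eight])]
      exact hπ
  -- conjugating `{6,7}` to the pair
  obtain ⟨c, hc6, hc7, hcs⟩ : ∃ c : Perm (Fin 8), c 6 = p ∧ c 7 = q ∧ Perm.sign c = 1 := by
    let c1 : Perm (Fin 8) := swap 6 p
    have h7 : c1 7 ≠ p := fun h => by
      have h' : c1 7 = c1 6 := h.trans (swap_apply_left 6 p).symm
      exact absurd (c1.injective h') (by decide)
    let c2 : Perm (Fin 8) := swap (c1 7) q * c1
    have h26 : c2 6 = p := by
      show swap (c1 7) q (c1 6) = p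
      rw [show c1 6 = p from swap_apply_left 6 p]
      exact swap_apply_of_ne_of_ne h7.symm hpq
    have h27 : c2 7 = q := swap_apply_left _ _
    rcases Int.units_eq_one_or (Perm.sign c2) with h | h
    · exact ⟨c2, h26, h27, h⟩
    · refine ⟨c2 * swap 0 1, ?_, ?_, ?_⟩
      · show c2 (swap 0 1 6) = p
        rw [swap_apply_of_ne_of_ne (by decide) (by decide), h26]
      · show c2 (swap 0 1 7) = q
        rw [swap_apply_of_ne_of_ne (by decide) (by decide), h27]
      · rw [map_mul, h, Perm.sign_swap (by decide)]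
        rfl
  let cA : alternatingGroup (Fin 8) := ⟨c, Perm.mem_alternatingGroup.2 hcs⟩
  set gc := equivAlt.symm cA with hgc
  have hlift : ∀ π : alternatingGroup (Fin 8),
      ((π : Perm (Fin 8)) 6 = 6 ∧ (π : Perm (Fin 8)) 7 = 7 ∨
        (π : Perm (Fin 8)) 6 = 7 ∧ (π : Perm (Fin 8)) 7 = 6) → ∃ x : X, θ x = cA * π * cA⁻¹ := by
    intro π hπ
    have hval : ∀ y, ((cA * π * cA⁻¹ : alternatingGroup (Fin 8)) : Perm (Fin 8)) (c y) =
        c ((π : Perm (Fin 8)) y) := fun y => by
      show c ((π : Perm (Fin 8)) (c⁻¹ (c y))) = _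
      rw [show c⁻¹ (c y) = y from c.symm_apply_apply y]
    obtain ⟨x, hx, hx'⟩ := hstab _ (cA * π * cA⁻¹).2 (by
      rcases hπ with ⟨h1, h2⟩ | ⟨h1, h2⟩
      · exact Or.inl ⟨by rw [← hc6, hval, h1], by rw [← hc7, hval, h2]⟩
      · exact Or.inr ⟨by rw [← hc6, hval, h1, hc7], by rw [← hc7, hval, h2, hc6]⟩)
    obtain ⟨x₀, rfl⟩ := hx
    exact ⟨x₀, Subtype.ext hx'⟩
  have hsymA : ∀ (i : Fin 8) (hi : radA i ∈ alternatingGroup (Fin 8)),
      ((equivAlt.symm ⟨radA i, hi⟩ : Matrix.SpecialLinearGroup (Fin 4) (ZMod 2)) :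
        Matrix (Fin 4) (Fin 4) (ZMod 2)) = matA i := fun i hi => by
    rw [toAlt_eq (g := ⟨matA i, (matA_spec i).1⟩) fun p q => (matA_spec i).2 p q]
  have hsymT : ∀ (i : Fin 8) (hi : radT i ∈ alternatingGroup (Fin 8)),
      ((equivAlt.symm ⟨radT i, hi⟩ : Matrix.SpecialLinearGroup (Fin 4) (ZMod 2)) :
        Matrix (Fin 4) (Fin 4) (ZMod 2)) = matT i := fun i hi => by
    rw [toAlt_eq (g := ⟨matT i, (matT_spec i).1⟩) fun p q => (matT_spec i).2 p q]
  let aA : Fin 8 → alternatingGroup (Fin 8) := fun i =>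
    ⟨radA i, Perm.mem_alternatingGroup.2 (rad_perm i).2.2.1⟩
  let tA : Fin 8 → alternatingGroup (Fin 8) := fun i =>
    ⟨radT i, Perm.mem_alternatingGroup.2 (rad_perm i).2.2.2.1⟩
  -- coordinates adapted to the pair
  let co : ↥P → (Fin 4 → ZMod 2) := fun k =>
    ((gc⁻¹ : Matrix.SpecialLinearGroup (Fin 4) (ZMod 2)) : Matrix (Fin 4) (Fin 4) (ZMod 2)).mulVec
      (e (k : ↥P ⧸ frattini ↥P))
  have hco_mul : ∀ k k', co (k * k') = co k + co k' := fun k k' => by
    simp only [co, QuotientGroup.mk_mul, heq, Matrix.mulVec_add]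
  have hconj : ∀ (x : X) (π : alternatingGroup (Fin 8)), θ x = cA * π * cA⁻¹ → ∀ k,
      co (MulAut.conjNormal x k) =
        ((equivAlt.symm π : Matrix.SpecialLinearGroup (Fin 4) (ZMod 2)) :
          Matrix (Fin 4) (Fin 4) (ZMod 2)).mulVec (co k) := by
    intro x π hx k
    have h1 : l (frattAct X x) = gc * equivAlt.symm π * gc⁻¹ := by
      have := congrArg equivAlt.symm hx
      rw [map_mul, map_mul, map_inv] at this
      exact (equivAlt.symm_apply_apply _).symm.trans this
    have h2 := hle (frattAct X x) (k : ↥P ⧸ frattini ↥P)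
    rw [frattAct_mk, h1] at h2
    simp only [co]
    rw [← h2, Matrix.mulVec_mulVec, Matrix.mulVec_mulVec, ← Matrix.SpecialLinearGroup.coe_mul,
      ← Matrix.SpecialLinearGroup.coe_mul,
      show gc⁻¹ * (gc * equivAlt.symm π * gc⁻¹) = equivAlt.symm π * gc⁻¹ by group]
  -- the coordinates are bijective
  have hcard16 : Nat.card (↥P ⧸ frattini ↥P) = 16 := by
    refine h16.resolve_right ?_
    rintro ⟨w, hw, hfix⟩
    refine hw ?_
    have key : ∀ π : alternatingGroup (Fin 8), (∃ x : X, θ x = cA * π * cA⁻¹) →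
        ((equivAlt.symm π : Matrix.SpecialLinearGroup (Fin 4) (ZMod 2)) :
          Matrix (Fin 4) (Fin 4) (ZMod 2)).mulVec (((gc⁻¹ : Matrix.SpecialLinearGroup (Fin 4) (ZMod 2))
            : Matrix (Fin 4) (Fin 4) (ZMod 2)).mulVec w) =
        ((gc⁻¹ : Matrix.SpecialLinearGroup (Fin 4) (ZMod 2)) : Matrix (Fin 4) (Fin 4) (ZMod 2)).mulVec w := by
      rintro π ⟨x, hx⟩
      have h1 : equivAlt.symm π * gc⁻¹ = gc⁻¹ * l (frattAct X x) := by
        have := congrArg equivAlt.symm hx
        rw [map_mul, map_mul, map_inv] at this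
        rw [show l (frattAct X x) = equivAlt.symm (θ x) from (equivAlt.symm_apply_apply _).symm, this,
          ← hgc]
        group
      rw [Matrix.mulVec_mulVec, ← Matrix.SpecialLinearGroup.coe_mul, h1,
        Matrix.SpecialLinearGroup.coe_mul, ← Matrix.mulVec_mulVec, hfix]
    have h0 := no_fixed _ (fun i => by
        have := key (aA i) (hlift _ (rad_perm i).2.2.2.2.1)
        rwa [hsymA] at this)
      (fun i => by
        have := key (tA i) (hlift _ (Or.inl (rad_perm i).2.2.2.2.2))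
        rwa [hsymT] at this)
    have := congrArg ((gc : Matrix (Fin 4) (Fin 4) (ZMod 2)).mulVec) h0
    rwa [Matrix.mulVec_mulVec, ← Matrix.SpecialLinearGroup.coe_mul, mul_inv_cancel,
      Matrix.SpecialLinearGroup.coe_one, Matrix.one_mulVec, Matrix.mulVec_zero] at this
  have hesurj : ∀ w, ∃ k : ↥P, co k = w := by
    intro w
    have hb := (Nat.bijective_iff_injective_and_card e).2 ⟨he, by
      rw [hcard16, Nat.card_fun, Nat.card_zmod, Nat.card_eq_fintype_card, Fintype.card_fin]; rfl⟩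
    obtain ⟨v, hv⟩ := hb.2 ((gc : Matrix (Fin 4) (Fin 4) (ZMod 2)).mulVec w)
    induction v using QuotientGroup.induction_on with
    | H k =>
    refine ⟨k, ?_⟩
    show ((gc⁻¹ : Matrix.SpecialLinearGroup (Fin 4) (ZMod 2)) : Matrix (Fin 4) (Fin 4) (ZMod 2)).mulVec
      (e (k : ↥P ⧸ frattini ↥P)) = w
    rw [show e (k : ↥P ⧸ frattini ↥P) = (gc : Matrix (Fin 4) (Fin 4) (ZMod 2)).mulVec w from hv,
      Matrix.mulVec_mulVec]
    rw [← Matrix.SpecialLinearGroup.coe_mul, inv_mul_cancel, Matrix.SpecialLinearGroup.coe_one,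
      Matrix.one_mulVec]
  -- the subgroups
  let A0 : Subgroup (alternatingGroup (Fin 8)) :=
    { carrier := Set.range fun i => cA * aA i * cA⁻¹
      one_mem' := ⟨0, by
        dsimp only
        rw [show aA 0 = 1 from Subtype.ext rfl]; group⟩
      mul_mem' := by
        rintro _ _ ⟨i, rfl⟩ ⟨j, rfl⟩
        obtain ⟨k, hk⟩ := radA_closed i j
        refine ⟨k, ?_⟩
        dsimp only
        rw [← show aA i * aA j = aA k from Subtype.ext hk]
        group
      inv_mem' := by
        rintro _ ⟨i, rfl⟩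
        refine ⟨i, ?_⟩
        dsimp only
        have h : (aA i)⁻¹ = aA i := inv_eq_of_mul_eq_one_right (Subtype.ext (rad_perm i).2.1)
        conv_lhs => rw [← h]
        group }
  have hA0 : Nat.card A0 = 8 := by
    rw [show Nat.card A0 = Nat.card (Set.range fun i => cA * aA i * cA⁻¹) from rfl,
      Nat.card_range_of_injective fun i j h => radA_injective i j
        (congrArg Subtype.val (mul_left_cancel (mul_right_cancel h))), Nat.card_eq_fintype_card,
      Fintype.card_fin]
  set R := A0.comap θ with hR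
  have hPR : P ≤ R := by
    intro x hx
    rw [hR, Subgroup.mem_comap, MonoidHom.mem_ker.1 (hθker.ge hx)]
    exact A0.one_mem
  have hA0le : A0 ≤ θ.range := by
    rintro _ ⟨i, rfl⟩
    obtain ⟨x, hx⟩ := hlift (aA i) (rad_perm i).2.2.2.2.1
    exact ⟨x, hx⟩
  have hcR : Nat.card R = Nat.card P * 8 := by
    let f : R →* A0 := θ.subgroupComap A0
    have hf : Function.Surjective f := by
      rintro ⟨u, hu⟩
      obtain ⟨x, rfl⟩ := hA0le hu
      exact ⟨⟨x, hu⟩, rfl⟩
    have hker : f.ker = P.subgroupOf R := by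
      ext x
      rw [MonoidHom.mem_ker, Subgroup.mem_subgroupOf, ← hθker, MonoidHom.mem_ker, Subtype.ext_iff]
      rfl
    rw [← (f.ker).card_mul_index, hker, Nat.card_congr (Subgroup.subgroupOfEquivOfLe hPR).toEquiv,
      ← hker, Subgroup.index_ker, MonoidHom.range_eq_top.2 hf, Subgroup.card_top, hA0]
  -- the preimage of the plane
  have hco_one : co 1 = 0 := by
    have := hco_mul 1 1
    rwa [one_mul, left_eq_add] at this
  have hco_inv : ∀ k, co k⁻¹ = co k := fun k => by
    have := hco_mul k⁻¹ k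
    rw [inv_mul_cancel, hco_one] at this
    exact (ZModModule.sub_eq_add (co k⁻¹) (co k) ▸ sub_eq_zero.1) this.symm
  let S0 : Subgroup ↥P :=
    { carrier := {k | InPlane (co k)}
      one_mem' := by rw [Set.mem_setOf_eq, hco_one]; exact ⟨rfl, rfl⟩
      mul_mem' := fun {a b} ha hb => by
        rw [Set.mem_setOf_eq, hco_mul]
        exact ⟨by rw [Pi.add_apply, ha.1, hb.1, add_zero], by rw [Pi.add_apply, ha.2, hb.2, add_zero]⟩
      inv_mem' := fun {a} ha => by rw [Set.mem_setOf_eq, hco_inv]; exact ha }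
  have hS0 : S0.index = 4 := by
    let proj : ↥P →* Multiplicative (Fin 2 → ZMod 2) :=
      { toFun := fun k => Multiplicative.ofAdd ![co k 2, co k 3]
        map_one' := by rw [hco_one]; ext i; fin_cases i <;> rfl
        map_mul' := fun a b => by rw [hco_mul]; ext i; fin_cases i <;> rfl }
    have hk : proj.ker = S0 := by
      ext k
      rw [MonoidHom.mem_ker]
      constructor
      · intro h
        exact ⟨congrFun (congrArg Multiplicative.toAdd h) 0, congrFun (congrArg Multiplicative.toAdd h) 1⟩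
      · intro h
        refine Multiplicative.toAdd.injective (funext fun i => ?_)
        fin_cases i
        · exact h.1
        · exact h.2
    have hs : Function.Surjective proj := by
      intro u
      obtain ⟨k, hk⟩ := hesurj ![0, 0, u.toAdd 0, u.toAdd 1]
      refine ⟨k, Multiplicative.toAdd.injective (funext fun i => ?_)⟩
      fin_cases i
      · exact congrFun hk 2
      · exact congrFun hk 3
    rw [← hk, Subgroup.index_ker, MonoidHom.range_eq_top.2 hs, Subgroup.card_top,
      Nat.card_congr (Multiplicative.toAdd), Nat.card_fun, Nat.card_zmod, Nat.card_eq_fintype_card,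
      Fintype.card_fin]
    rfl
  set S := (S0.map P.subtype).subgroupOf R with hS
  have hSle : S0.map P.subtype ≤ R := (Subgroup.map_subtype_le _).trans hPR
  have hcS : Nat.card S * 32 = Nat.card R := by
    rw [hS, Nat.card_congr (Subgroup.subgroupOfEquivOfLe hSle).toEquiv,
      Subgroup.card_map_of_injective (Subgroup.subtype_injective _), hcR, ← S0.card_mul_index, hS0]
    ring
  have hmemS : ∀ (x : R) (hx : (x : X) ∈ P), InPlane (co ⟨x, hx⟩) → x ∈ S := fun x hx h =>
    ⟨⟨x, hx⟩, h, rfl⟩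
  haveI hSn : S.Normal := by
    refine ⟨fun s hs x => ?_⟩
    obtain ⟨k, hk, hks⟩ := hs
    obtain ⟨i, hi⟩ := (x.2 : θ x ∈ A0)
    refine ⟨MulAut.conjNormal (x : X) k, ?_, ?_⟩
    · show InPlane (co (MulAut.conjNormal (x : X) k))
      rw [hconj x (aA i) hi.symm, hsymA, (matA_plane i (co k)).2 hk]
      exact hk
    · show ((MulAut.conjNormal (x : X) k : ↥P) : X) = (x : X) * (s : X) * (x : X)⁻¹
      rw [MulAut.conjNormal_apply]
      exact congrArg (fun z => (x : X) * z * (x : X)⁻¹) hks
  -- squares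
  have hsq : ∀ x : R, x * x ∈ S := by
    intro x
    obtain ⟨i, hi⟩ := (x.2 : θ x ∈ A0)
    have hxx : ((x * x : R) : X) ∈ P := by
      rw [← hθker, MonoidHom.mem_ker, Subgroup.coe_mul, map_mul, ← hi]
      dsimp only
      calc cA * aA i * cA⁻¹ * (cA * aA i * cA⁻¹) = cA * (aA i * aA i) * cA⁻¹ := by group
        _ = 1 := by rw [show aA i * aA i = 1 from Subtype.ext (rad_perm i).2.1]; group
    refine hmemS _ hxx ?_
    by_cases hi0 : i = 0
    · subst hi0
      have hxP : (x : X) ∈ P := by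
        rw [← hθker, MonoidHom.mem_ker, ← hi]
        dsimp only
        rw [show aA 0 = 1 from Subtype.ext rfl]
        group
      rw [show (⟨((x * x : R) : X), hxx⟩ : ↥P) = ⟨x, hxP⟩ * ⟨x, hxP⟩ from rfl, hco_mul,
        ZModModule.add_self]
      exact ⟨rfl, rfl⟩
    · set k2 : ↥P := ⟨((x * x : R) : X), hxx⟩ with hk2
      obtain ⟨τ, hτ⟩ := hlift (tA i) (Or.inl (rad_perm i).2.2.2.2.2)
      have hy : θ (τ * x * τ⁻¹ * (x : X)⁻¹) = 1 := by
        have hcomm : aA i * tA i = tA i * aA i := Subtype.ext (rad_perm i).1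
        rw [map_mul, map_mul, map_mul, map_inv, map_inv, hτ, ← hi]
        dsimp only
        calc cA * tA i * cA⁻¹ * (cA * aA i * cA⁻¹) * (cA * tA i * cA⁻¹)⁻¹ * (cA * aA i * cA⁻¹)⁻¹
            = cA * (tA i * aA i) * (tA i)⁻¹ * (aA i)⁻¹ * cA⁻¹ := by group
          _ = 1 := by rw [← hcomm]; group
      set p : ↥P := ⟨τ * x * τ⁻¹ * (x : X)⁻¹, hθker.le (MonoidHom.mem_ker.2 hy)⟩ with hp
      have h1 : MulAut.conjNormal τ k2 = p * MulAut.conjNormal (x : X) p * k2 := by
        refine Subtype.ext ?_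
        simp only [MulAut.conjNormal_apply, hp, hk2, Subgroup.coe_mul]
        group
      have hxk2 : MulAut.conjNormal (x : X) k2 = k2 := by
        refine Subtype.ext ?_
        simp only [MulAut.conjNormal_apply, hk2, Subgroup.coe_mul]
        group
      have e1 := congrArg co h1
      have e2 := congrArg co hxk2
      rw [hco_mul, hco_mul, hconj τ (tA i) hτ, hconj x (aA i) hi.symm, hsymA, hsymT] at e1
      rw [hconj x (aA i) hi.symm, hsymA] at e2
      refine mat_fixed i hi0 (co k2) (co p) e2 ?_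
      rw [e1, add_assoc, ZModModule.add_self, add_zero]
  -- the section of order 32
  have hexp : ∀ a : R ⧸ S, a * a = 1 := fun a => by
    induction a using QuotientGroup.induction_on with
    | H x => rw [← QuotientGroup.mk_mul, QuotientGroup.eq_one_iff]; exact hsq x
  have hcomm : ∀ a b : R ⧸ S, a * b = b * a := fun a b => by
    have hinv : ∀ z : R ⧸ S, z⁻¹ = z := fun z => inv_eq_of_mul_eq_one_right (hexp z)
    rw [← hinv (a * b), mul_inv_rev, hinv, hinv]
  have h := hX R S ⊤ ⟨⟨fun a b => Subtype.ext (hcomm a b)⟩⟩ (fun a _ => (pow_two a).trans (hexp a))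
  rw [Subgroup.card_top] at h
  have hlag := Subgroup.card_eq_card_quotient_mul_card_subgroup S
  have : Nat.card (R ⧸ S) = 32 := by
    have hpos : 0 < Nat.card S := Nat.card_pos
    nlinarith
  omega

end CfsgLib.GLFourTwo
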