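import Cfsg.Agent.GLFourTwo.A5Layer
import Cfsg.Agent.GLFourTwo.RankFive
import Cfsg.Agent.FGS74.SectionalTwo
import Cfsg.Agent.S3157
import Cfsg.Agent.S4189

/-!
# The 2-core of a constrained group involving `A₅` of sectional 2-rank at most four
-/

set_option autoImplicit false

namespace CfsgLib.GLFourTwo

open Equiv Cfsg A5Mod Matrix
open scoped commutatorElement

theorem sl_mulVec (A B : SpecialLinearGroup (Fin 4) (ZMod 2)) (w : Fin 4 → ZMod 2) :
    (A : Matrix (Fin 4) (Fin 4) (ZMod 2)).mulVec ((B : Matrix (Fin 4) (Fin 4) (ZMod 2)).mulVec w) =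
      ((A * B : SpecialLinearGroup (Fin 4) (ZMod 2)) : Matrix (Fin 4) (Fin 4) (ZMod 2)).mulVec w :=
  mulVec_mulVec w _ _

/-- An action of `A₅` on an elementary abelian group of order at most 16, in coordinates. -/
theorem coords_of_action {V : Type*} [Group V] [Finite V] (hc : ∀ a b : V, a * b = b * a)
    (he : ∀ a : V, a ^ 2 = 1) (h16 : Nat.card V ≤ 16) (α β : MulAut V) (hα : α * α = 1)
    (hβ : β ^ 3 = 1) (hβ1 : β ≠ 1) (hαβ : (α * β) ^ 5 = 1) :
    ∃ (s : Bool) (E : V → Fin 16), Function.Bijective E ∧ (∀ a b, E (a * b) = xr (E a) (E b)) ∧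
      ∀ a, E (α a) = act s false (E a) ∧ E (β a) = act s true (E a) := by
  classical
  obtain ⟨e, l, hei, hl, heq, hle, h⟩ := exists_lin_coord hc he h16
  let θ : MulAut V →* alternatingGroup (Fin 8) := equivAlt.toMonoidHom.comp l
  have hθ : Function.Injective θ := equivAlt.injective.comp hl
  let π : MulAut V →* Perm (Fin 8) := (alternatingGroup (Fin 8)).subtype.comp θ
  have hπ : Function.Injective π := (Subgroup.subtype_injective _).comp hθ
  obtain ⟨s, c, hcs, hca, hcb⟩ := exists_std_pair (a := π α) (b := π β)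
    (by rw [← map_mul, hα, map_one]) (by rw [← map_pow, hβ, map_one])
    (fun h1 => hβ1 (hπ (h1.trans (map_one π).symm)))
    (by rw [← map_mul, ← map_pow, hαβ, map_one])
  let cA : alternatingGroup (Fin 8) := ⟨c, Perm.mem_alternatingGroup.2 hcs⟩
  set gc := equivAlt.symm cA with hgc
  have hl' : ∀ (γ : MulAut V) (p : Perm (Fin 8)) (M : SpecialLinearGroup (Fin 4) (ZMod 2)),
      Induces M p → π γ * c = c * p → l γ = gc * M * gc⁻¹ := by
    intro γ p M hM hp
    have hps : Perm.sign p = 1 := by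
      have h1 := congrArg Perm.sign hp
      rw [map_mul, map_mul, hcs, mul_one, one_mul] at h1
      rw [← h1]
      exact Perm.mem_alternatingGroup.1 (θ γ).2
    let pA : alternatingGroup (Fin 8) := ⟨p, Perm.mem_alternatingGroup.2 hps⟩
    have hsym : equivAlt.symm pA = M := toAlt_eq (g := M) hM
    have h1 : θ γ = cA * pA * cA⁻¹ := Subtype.ext (eq_mul_inv_of_mul_eq hp)
    rw [← hsym, hgc, ← map_inv, ← map_mul, ← map_mul, ← h1]
    exact (equivAlt.symm_apply_apply _).symm
  let MA : SpecialLinearGroup (Fin 4) (ZMod 2) := ⟨matGA s, (mat_spec s).1⟩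
  let MB : SpecialLinearGroup (Fin 4) (ZMod 2) := ⟨matGB s, (mat_spec s).2.1⟩
  have hlA : l α = gc * MA * gc⁻¹ := hl' α (genA s) MA (mat_spec s).2.2.1 hca
  have hlB : l β = gc * MB * gc⁻¹ := hl' β (genB s) MB (mat_spec s).2.2.2 hcb
  let gi : Matrix (Fin 4) (Fin 4) (ZMod 2) :=
    ((gc⁻¹ : SpecialLinearGroup (Fin 4) (ZMod 2)) : Matrix (Fin 4) (Fin 4) (ZMod 2))
  have hconj : ∀ (M : SpecialLinearGroup (Fin 4) (ZMod 2)) (w : Fin 4 → ZMod 2),
      gi.mulVec (((gc * M * gc⁻¹ : SpecialLinearGroup (Fin 4) (ZMod 2)) :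
        Matrix (Fin 4) (Fin 4) (ZMod 2)).mulVec w) =
        (M : Matrix (Fin 4) (Fin 4) (ZMod 2)).mulVec (gi.mulVec w) := by
    intro M w
    refine (sl_mulVec _ _ w).trans (Eq.trans ?_ (sl_mulVec M gc⁻¹ w).symm)
    rw [show gc⁻¹ * (gc * M * gc⁻¹) = M * gc⁻¹ by group]
  have hinjgi : Function.Injective fun w => gi.mulVec w := fun w w' h => by
    have h1 := congrArg (fun u => (gc : Matrix (Fin 4) (Fin 4) (ZMod 2)).mulVec u) h
    have h2 := (sl_mulVec gc gc⁻¹ w).symm.trans (h1.trans (sl_mulVec gc gc⁻¹ w'))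
    rw [mul_inv_cancel] at h2
    exact (one_mulVec w).symm.trans (h2.trans (one_mulVec w'))
  have hcard : Nat.card V = 16 := by
    refine h.resolve_right ?_
    rintro ⟨w, hw, hfix⟩
    apply hw
    have hfA := hconj MA w
    rw [← hlA, hfix] at hfA
    have hfB := hconj MB w
    rw [← hlB, hfix] at hfB
    have h0 : enc (gi.mulVec w) = 0 := act_fixed s _
      (by rw [← (enc_mulVec s _).1]; exact congrArg enc hfA.symm)
      (by rw [← (enc_mulVec s _).2]; exact congrArg enc hfB.symm)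
    refine hinjgi ?_
    show gi.mulVec w = gi.mulVec 0
    rw [mulVec_zero]
    exact enc_injective _ _ (h0.trans enc_zero.symm)
  let E : V → Fin 16 := fun a => enc (gi.mulVec (e a))
  have hEinj : Function.Injective E := fun a b hab => hei (hinjgi (enc_injective _ _ hab))
  refine ⟨s, E, (Nat.bijective_iff_injective_and_card E).2 ⟨hEinj, by rw [hcard, Nat.card_fin]⟩,
    fun a b => ?_, fun a => ⟨?_, ?_⟩⟩
  · simp only [E, heq, mulVec_add, enc_add]
  · simp only [E]
    rw [← hle, hlA, hconj, ← (enc_mulVec s _).1]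
  · simp only [E]
    rw [← hle, hlB, hconj, ← (enc_mulVec s _).2]

variable {X : Type*} [Group X]

/-- The next term after a normal subgroup `N` of a 2-group `P`. -/
def nextLayer (P N : Subgroup X) : Subgroup X :=
  Subgroup.normalClosure ((fun n => n * n) '' (N : Set X)) ⊔ ⁅N, P⁆

instance nextLayer_normal (P N : Subgroup X) [P.Normal] [N.Normal] : (nextLayer P N).Normal := by
  unfold nextLayer; infer_instance

theorem sq_mem_nextLayer {P N : Subgroup X} {n : X} (hn : n ∈ N) : n * n ∈ nextLayer P N :=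
  Subgroup.mem_sup_left (Subgroup.subset_normalClosure ⟨n, hn, rfl⟩)

theorem comm_mem_nextLayer {P N : Subgroup X} {n k : X} (hn : n ∈ N) (hk : k ∈ P) :
    ⁅n, k⁆ ∈ nextLayer P N :=
  Subgroup.mem_sup_right (Subgroup.commutator_mem_commutator hn hk)

theorem nextLayer_le {P N : Subgroup X} [N.Normal] : nextLayer P N ≤ N := by
  refine sup_le (Subgroup.normalClosure_le_normal ?_) (Subgroup.commutator_le_left _ _)
  rintro _ ⟨n, hn, rfl⟩
  exact mul_mem hn hn

theorem mk_eq_one {M : Subgroup X} [M.Normal] {u : X} : QuotientGroup.mk' M u = 1 ↔ u ∈ M :=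
  QuotientGroup.eq_one_iff u

theorem mk_comm {M : Subgroup X} [M.Normal] {u k : X} (h : ⁅u, k⁆ ∈ M) :
    QuotientGroup.mk' M u * QuotientGroup.mk' M k = QuotientGroup.mk' M k * QuotientGroup.mk' M u := by
  rw [← commutatorElement_eq_one_iff_mul_comm, ← map_commutatorElement, mk_eq_one]
  exact h

/-- A normal subgroup of a 2-group covered by the next layer is trivial. -/
theorem eq_bot_of_le_nextLayer [Finite X] {P N : Subgroup X} (hP : IsPGroup 2 ↥P) [P.Normal]
    [N.Normal] (hNP : N ≤ P) (h : N ≤ nextLayer P N) : N = ⊥ := by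
  classical
  haveI : Fact (Nat.Prime 2) := ⟨Nat.prime_two⟩
  haveI := hP.isNilpotent
  suffices hM : N ≤ ⁅N, P⁆ by
    have h1 : N.subgroupOf P ≤ ⁅N.subgroupOf P, ⊤⁆ := by
      have e : (⁅N.subgroupOf P, ⊤⁆ : Subgroup ↥P).map P.subtype = ⁅N, P⁆ := by
        rw [Subgroup.map_commutator, ← MonoidHom.range_eq_map, Subgroup.range_subtype,
          Subgroup.map_subgroupOf_eq_of_le hNP]
      intro n hn
      have := hM hn
      rw [← e] at this
      obtain ⟨m, hm, hmn⟩ := this
      rwa [← Subtype.ext hmn]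
    have h2 := Cfsg.Agent.S4189.eq_bot_of_le_commutator h1
    rw [← Subgroup.map_subgroupOf_eq_of_le hNP, h2, Subgroup.map_bot]
  set π := QuotientGroup.mk' ⁅N, P⁆ with hπ
  have hcomm : ∀ a b : ↥(N.map π), a * b = b * a := by
    rintro ⟨_, a, ha, rfl⟩ ⟨_, b, hb, rfl⟩
    exact Subtype.ext (mk_comm (Subgroup.commutator_mem_commutator ha (hNP hb)))
  let f : ↥(N.map π) →* ↥(N.map π) :=
    MonoidHom.mk' (fun a => a * a) fun a b => Commute.mul_mul_mul_comm (hcomm b a) a b
  have hH : nextLayer P N ≤ (f.range.map (N.map π).subtype).comap π := by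
    refine sup_le ((Subgroup.closure_le _).2 ?_) ?_
    · intro u hu
      obtain ⟨_, ⟨n, hn, rfl⟩, hconj⟩ := Group.mem_conjugatesOfSet_iff.1 hu
      obtain ⟨c, rfl⟩ := isConj_iff.1 hconj
      have hn' : c * n * c⁻¹ ∈ N := (inferInstance : N.Normal).conj_mem n hn c
      refine ⟨f ⟨π (c * n * c⁻¹), _, hn', rfl⟩, ⟨_, rfl⟩, ?_⟩
      show π (c * n * c⁻¹) * π (c * n * c⁻¹) = π (c * (n * n) * c⁻¹)
      rw [← map_mul]
      congr 1
      group
    · intro u hu
      rw [Subgroup.mem_comap, show π u = 1 from mk_eq_one.2 hu]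
      exact one_mem _
  have hsurj : Function.Surjective f := by
    rintro ⟨_, n, hn, rfl⟩
    obtain ⟨b, ⟨a, rfl⟩, hb⟩ := hH (h hn)
    exact ⟨a, Subtype.ext hb⟩
  have hinj : Function.Injective f := Finite.injective_iff_surjective.2 hsurj
  intro n hn
  rw [← mk_eq_one]
  have hT : IsPGroup 2 ↥(N.map π) := (hP.to_le hNP).map π
  obtain ⟨k, hk⟩ := hT ⟨π n, n, hn, rfl⟩
  have key : ∀ (k : ℕ) (a : ↥(N.map π)), a ^ 2 ^ k = 1 → a = 1 := by
    intro k
    induction k with
    | zero => intro a ha; simpa using ha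
    | succ k ih =>
      intro a ha
      refine ih a (hinj ?_)
      rw [map_one]
      show a ^ 2 ^ k * a ^ 2 ^ k = 1
      rw [← pow_add, ← two_mul, ← pow_succ']
      exact ha
  exact congrArg Subtype.val (key k _ hk)

/-- The squares in a layer with an action of `A₅`. -/
theorem Layer.squares_cases [Finite X] {P N : Subgroup X} {E : ↥P → Fin 16} (L : Layer P N E)
    [N.Normal] (hr : SectionalPRankLE 2 4 X)
    (hgen : N ≤ Subgroup.closure (Set.range fun k : ↥P => (k : X) * k))
    {s : Bool} {x y : X} (hx : x ∉ P) (hxx : x * x ∈ P) (hy3 : y * y * y ∈ P)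
    (hxy : (x * y) ^ 5 ∈ P)
    (hxE : ∀ k : ↥P, ∃ h : x * k * x⁻¹ ∈ P, E ⟨x * k * x⁻¹, h⟩ = act s false (E k))
    (hyE : ∀ k : ↥P, ∃ h : y * k * y⁻¹ ∈ P, E ⟨y * k * y⁻¹, h⟩ = act s true (E k)) :
    ∃ z ∈ N, (∀ k : ↥P, (k : X) * k = if supp s (E k) then z else 1) ∧ N ≤ Subgroup.zpowers z := by
  classical
  obtain ⟨Q, hQ⟩ := L.exists_sqMap
  have hNc : ∀ a b : ↥N, a * b = b * a := fun a b => Subtype.ext (L.central _ a.2 _ (L.le b.2))
  have hNe : ∀ a : ↥N, a ^ 2 = 1 := fun a => Subtype.ext (by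
    rw [Subgroup.coe_pow, pow_two, L.exp _ a.2, Subgroup.coe_one])
  have hN16 : Nat.card N ≤ 16 :=
    (Cfsg.Agent.S4400.card_le_of_hom hr N N.subtype N (by rw [Subgroup.range_subtype])
      (fun a ha b hb => L.central a ha b (L.le hb))
      fun a ha => by rw [pow_two]; exact L.exp a ha :)
  let τ : X →* MulAut ↥N := MulAut.conjNormal
  have hτ : ∀ p ∈ P, τ p = 1 := fun p hp => MulEquiv.ext fun n => Subtype.ext (by
    show p * n * p⁻¹ = (n : X)
    rw [← L.central _ n.2 p hp, mul_inv_cancel_right])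
  have hα : τ x * τ x = 1 := (_root_.map_mul τ x x).symm.trans (hτ _ hxx)
  have hβ : τ y ^ 3 = 1 := by rw [← map_pow, pow_succ, pow_two]; exact hτ _ hy3
  have hαβ : (τ x * τ y) ^ 5 = 1 := by rw [← _root_.map_mul, ← map_pow]; exact hτ _ hxy
  have hQx : ∀ a, Q (act s false a) = τ x (Q a) := fun a => by
    obtain ⟨k, rfl⟩ := L.surj a
    obtain ⟨h, hk⟩ := hxE k
    refine Subtype.ext ?_
    rw [← hk, hQ]
    show x * k * x⁻¹ * (x * k * x⁻¹) = x * (Q (E k) : X) * x⁻¹
    rw [hQ]
    group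
  have hQy : ∀ a, Q (act s true a) = τ y (Q a) := fun a => by
    obtain ⟨k, rfl⟩ := L.surj a
    obtain ⟨h, hk⟩ := hyE k
    refine Subtype.ext ?_
    rw [← hk, hQ]
    show y * k * y⁻¹ * (y * k * y⁻¹) = y * (Q (E k) : X) * y⁻¹
    rw [hQ]
    group
  have hQ0 : Q 0 = 1 := Subtype.ext (by rw [← L.E_one, hQ]; simp)
  by_cases hb : τ y = 1
  · -- trivial action
    have ha : τ x = 1 := by
      rw [hb, mul_one, show (5 : ℕ) = 2 + 2 + 1 from rfl, pow_succ, pow_add, pow_two, hα, one_mul,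
        one_mul] at hαβ
      exact hαβ
    obtain ⟨e, l, hei, -, heq, -, -⟩ := exists_lin_coord hNc hNe hN16
    let F : ↥N → Fin 16 := fun a => enc (e a)
    have hFi : Function.Injective F := fun a b h => hei (enc_injective _ _ h)
    have hFm : ∀ a b, F (a * b) = xr (F a) (F b) := fun a b => by simp only [F, heq, enc_add]
    have hF1 : F 1 = 0 := by
      have h := hFm 1 1
      rwa [one_mul, (xr_facts.1 _).1] at h
    obtain ⟨c, hc⟩ := trivial_cases (s := s) (q := fun a => F (Q a)) (by simp only [hQ0, hF1])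
      (fun g a => by
        cases g
        · simp only [hQx, ha, MulAut.one_apply]
        · simp only [hQy, hb, MulAut.one_apply])
      (L.basisQuad hQ hFm)
    let z : ↥N := if s then Q 2 else 1
    have hval : ∀ a, Q a = if supp s a then z else 1 := fun a => by
      by_cases hsa : supp s a
      · rw [if_pos hsa]
        have hs : s = true := hsa.1
        subst hs
        exact hFi ((hc a).trans (by rw [if_pos hsa]; exact ((hc 2).trans (if_pos supp_facts.1)).symm))
      · rw [if_neg hsa]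
        exact hFi ((hc a).trans (by rw [if_neg hsa, hF1]))
    refine ⟨z, z.2, fun k => ?_, hgen.trans ((Subgroup.closure_le _).2 ?_)⟩
    · rw [← hQ k, hval]
      split <;> rfl
    · rintro _ ⟨k, rfl⟩
      show (k : X) * k ∈ Subgroup.zpowers (z : X)
      rw [← hQ k, hval]
      split
      · exact Subgroup.mem_zpowers _
      · exact one_mem _
  · -- faithful action
    exfalso
    obtain ⟨t, F, hF, hFm, hFe⟩ := coords_of_action hNc hNe hN16 (τ x) (τ y) hα hβ hb hαβ
    have h16 : Nat.card N = 16 := by rw [Nat.card_eq_of_bijective F hF, Nat.card_fin]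
    have hF1 : F 1 = 0 := by
      have h := hFm 1 1
      rwa [one_mul, (xr_facts.1 _).1] at h
    rcases faithful_cases (s := s) (t := t) (q := fun a => F (Q a)) (by simp only [hQ0, hF1])
      (fun g a => by
        cases g
        · simp only [hQx, (hFe _).1]
        · simp only [hQy, (hFe _).2])
      (L.basisQuad hQ hFm) with hadd | ⟨a, b, ha, hb', hab, h1, h2⟩
    · have hQadd : ∀ a b, Q (xr a b) = Q a * Q b := fun a b => hF.1 (by rw [hFm]; exact hadd a b)
      by_cases hz : ∃ a, a ≠ 0 ∧ Q a = 1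
      · obtain ⟨a, ha, hQa⟩ := hz
        obtain ⟨k, rfl⟩ := L.surj a
        exact L.false_of_zero hr h16 ha (by rw [← hQ, hQa, Subgroup.coe_one])
      · push Not at hz
        refine L.false_of_additive hr h16 hQ hQadd (fun a b hab => ?_) hx hxx hxE
        by_contra hne
        refine hz (xr a b) (fun h => hne (xr_facts.2.1 _ _ h)) ?_
        rw [hQadd, hab]
        exact Subtype.ext (L.exp _ (Q b).2)
    · obtain ⟨u, rfl⟩ := L.surj a
      obtain ⟨w, rfl⟩ := L.surj b
      refine L.false_of_plane hr h16 ha hb' hab ?_ ?_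
      · rw [← hQ, ← hQ]
        exact congrArg Subtype.val (hF.1 h1)
      · rw [← hQ, ← hQ, L.map_mul]
        exact congrArg Subtype.val (hF.1 h2)

theorem frattini_le_closure_squares [Finite X] {P : Subgroup X} :
    (frattini ↥P).map P.subtype ≤ Subgroup.closure (Set.range fun k : ↥P => (k : X) * k) := by
  haveI : Fact (Nat.Prime 2) := ⟨Nat.prime_two⟩
  set S : Subgroup ↥P := Subgroup.closure (Set.range fun k : ↥P => k * k) with hS
  have hsq : ∀ k : ↥P, k * k ∈ S := fun k => Subgroup.subset_closure ⟨k, rfl⟩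
  have h : frattini ↥P ≤ S := by
    refine Solvable.frattini_le_of_elementary (p := 2) ?_ fun k => by rw [pow_two]; exact hsq k
    rw [commutator_def, Subgroup.commutator_le]
    intro a _ b _
    rw [commutatorElement_def, show a * b * a⁻¹ * b⁻¹ = a * a * ((a⁻¹ * b) * (a⁻¹ * b)) * (b⁻¹ * b⁻¹) by
      group]
    exact mul_mem (mul_mem (hsq a) (hsq _)) (hsq _)
  refine (Subgroup.map_mono h).trans ?_
  rw [hS, MonoidHom.map_closure]
  refine Subgroup.closure_mono ?_
  rintro _ ⟨_, ⟨k, rfl⟩, rfl⟩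
  exact ⟨k, rfl⟩

end CfsgLib.GLFourTwo
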