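import Cfsg.Agent.GLFourTwo.A5Modules
import Cfsg.Agent.GLFourTwo.FrattiniAction
import Cfsg.Agent.S4400

/-!
# A layer of a 2-group acted on by `A₅`
-/

set_option autoImplicit false

namespace CfsgLib.GLFourTwo

open A5Mod Cfsg

/-- `xr` facts. -/
theorem xr_facts : (∀ a : Fin 16, xr a a = 0 ∧ xr 0 a = a ∧ xr a 0 = a) ∧
    (∀ a b : Fin 16, xr a b = 0 → a = b) ∧ (∀ a b : Fin 16, xr a b = xr b a) ∧
    ∀ a b c : Fin 16, xr (xr a b) c = xr a (xr b c) := by
  decide +kernel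

theorem span_two : ∀ (x y : Fin 16) (i j : Fin 4), ∃ k : Fin 4,
    xr (![0, x, y, xr x y] i) (![0, x, y, xr x y] j) = ![0, x, y, xr x y] k := by
  decide +kernel

theorem span_two_injective : ∀ x y : Fin 16, x ≠ 0 → y ≠ 0 → x ≠ y →
    Function.Injective ![0, x, y, xr x y] := by
  have key : ∀ x y : Fin 16, x ≠ 0 → y ≠ 0 → x ≠ y → ∀ i j : Fin 4,
      ![0, x, y, xr x y] i = ![0, x, y, xr x y] j → i = j := by decide +kernel
  exact fun x y h1 h2 h3 i j h => key x y h1 h2 h3 i j h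

variable {G : Type*} [Group G]

/-- `P` is a 2-group modulo a central elementary abelian subgroup `N`, with quotient coded by
sixteen codes. -/
structure Layer (P N : Subgroup G) (E : ↥P → Fin 16) : Prop where
  le : N ≤ P
  central : ∀ n ∈ N, ∀ k ∈ P, n * k = k * n
  exp : ∀ n ∈ N, n * n = 1
  sq : ∀ k ∈ P, k * k ∈ N
  surj : Function.Surjective E
  map_mul : ∀ a b, E (a * b) = xr (E a) (E b)
  eq_zero : ∀ k : ↥P, E k = 0 ↔ (k : G) ∈ N

namespace Layer

variable {P N : Subgroup G} {E : ↥P → Fin 16}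

theorem congr_sq (L : Layer P N E) {k k' : ↥P} (h : E k = E k') :
    (k : G) * k = (k' : G) * k' := by
  have h0 : E (k'⁻¹ * k) = 0 := by
    have h1 := L.map_mul k' (k'⁻¹ * k)
    rw [mul_inv_cancel_left, h] at h1
    refine (xr_facts.1 (E k')).1 ▸ ?_
    conv_rhs => rhs; rw [h1]
    rw [← xr_facts.2.2.2, (xr_facts.1 _).1, (xr_facts.1 _).2.1]
  obtain ⟨n, hn, rfl⟩ : ∃ n : ↥P, (n : G) ∈ N ∧ k = k' * n :=
    ⟨_, (L.eq_zero _).1 h0, (mul_inv_cancel_left k' k).symm⟩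
  rw [Subgroup.coe_mul, show (k' : G) * n * ((k' : G) * n) = (k' : G) * ((n : G) * k') * n by group,
    L.central _ hn _ k'.2, show (k' : G) * ((k' : G) * n) * n = (k' : G) * k' * ((n : G) * n) by group,
    L.exp _ hn, mul_one]

theorem E_one (L : Layer P N E) : E 1 = 0 := (L.eq_zero 1).2 N.one_mem

theorem commutator_mem (L : Layer P N E) (u v : ↥P) : (u : G) * v * (u : G)⁻¹ * (v : G)⁻¹ ∈ N := by
  have h : (u : G) * v * (u : G)⁻¹ * (v : G)⁻¹ =
      (u : G) * u * (((u : G)⁻¹ * v) * ((u : G)⁻¹ * v)) * ((v : G)⁻¹ * (v : G)⁻¹) := by group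
  rw [h]
  exact mul_mem (mul_mem (L.sq _ u.2) (L.sq _ (mul_mem (inv_mem u.2) v.2))) (L.sq _ (inv_mem v.2))

/-- The squaring map on codes. -/
theorem exists_sqMap (L : Layer P N E) :
    ∃ Q : Fin 16 → ↥N, ∀ k : ↥P, ((Q (E k)) : G) = (k : G) * k := by
  choose g hg using L.surj
  exact ⟨fun a => ⟨(g a : G) * g a, L.sq _ (g a).2⟩, fun k => L.congr_sq (hg (E k))⟩

/-- Polar of the squaring map. -/
theorem sq_mul (L : Layer P N E) (u v : ↥P) : ((u * v : ↥P) : G) * (u * v : ↥P) =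
    (u : G) * u * ((v : G) * v) * ((v : G) * u * (v : G)⁻¹ * (u : G)⁻¹) := by
  set c := (v : G) * u * (v : G)⁻¹ * (u : G)⁻¹ with hc
  have hcN : c ∈ N := L.commutator_mem v u
  have hvu : (v : G) * u = c * ((u : G) * v) := by rw [hc]; group
  rw [Subgroup.coe_mul, show (u : G) * v * ((u : G) * v) = (u : G) * ((v : G) * u) * v by group, hvu,
    ← mul_assoc, ← L.central c hcN (u : G) u.2,
    show c * (u : G) * ((u : G) * v) * v = c * ((u : G) * u * ((v : G) * v)) by group,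
    L.central c hcN _ (mul_mem (mul_mem u.2 u.2) (mul_mem v.2 v.2))]

theorem comm_mul (L : Layer P N E) (u v w : ↥P) :
    (u : G) * (v * w : ↥P) * (u : G)⁻¹ * ((v * w : ↥P) : G)⁻¹ =
      ((u : G) * v * (u : G)⁻¹ * (v : G)⁻¹) * ((u : G) * w * (u : G)⁻¹ * (w : G)⁻¹) := by
  have h := L.commutator_mem u w
  rw [Subgroup.coe_mul, show (u : G) * ((v : G) * w) * (u : G)⁻¹ * ((v : G) * w)⁻¹ =
    ((u : G) * v * (u : G)⁻¹) * ((u : G) * w * (u : G)⁻¹ * (w : G)⁻¹) * (v : G)⁻¹ by group,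
    mul_assoc, L.central _ h _ (inv_mem v.2), ← mul_assoc]

/-- The coded squaring map is quadratic. -/
theorem basisQuad (L : Layer P N E) {Q : Fin 16 → ↥N} (hQ : ∀ k : ↥P, ((Q (E k)) : G) = (k : G) * k)
    {F : ↥N → Fin 16} (hF : ∀ a b, F (a * b) = xr (F a) (F b)) :
    BasisQuad (fun a => F (Q a)) := by
  have hF1 : F 1 = 0 := by
    have h := hF 1 1
    rw [one_mul, (xr_facts.1 _).1] at h
    exact h
  have key : ∀ u v : ↥P, polar (fun a => F (Q a)) (E u) (E v) =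
      F ⟨(v : G) * u * (v : G)⁻¹ * (u : G)⁻¹, L.commutator_mem v u⟩ := by
    intro u v
    have h : Q (xr (E u) (E v)) = Q (E u) * Q (E v) *
        ⟨(v : G) * u * (v : G)⁻¹ * (u : G)⁻¹, L.commutator_mem v u⟩ := by
      refine Subtype.ext ?_
      rw [← L.map_mul, hQ, L.sq_mul, Subgroup.coe_mul, Subgroup.coe_mul, hQ, hQ]
    rw [polar, h, hF, hF, xr_facts.2.2.1 (xr (F (Q (E u))) (F (Q (E v)))), xr_facts.2.2.2,
      (xr_facts.1 _).1, (xr_facts.1 _).2.2]
  intro i j k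
  obtain ⟨u, hu⟩ := L.surj (![1, 2, 4, 8] i)
  obtain ⟨v, hv⟩ := L.surj (![1, 2, 4, 8] j)
  obtain ⟨w, hw⟩ := L.surj (![1, 2, 4, 8] k)
  rw [← hu, ← hv, ← hw, ← L.map_mul, key, key, key, ← hF]
  congr 1
  apply Subtype.ext
  have h := L.comm_mul u v w
  have hinv : ∀ a b : ↥P, (b : G) * a * (b : G)⁻¹ * (a : G)⁻¹ =
      (a : G) * b * (a : G)⁻¹ * (b : G)⁻¹ := by
    intro a b
    have h1 := inv_eq_of_mul_eq_one_right (L.exp _ (L.commutator_mem a b))
    rw [← h1]
    group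
  exact (hinv u (v * w)).trans (h.trans (congrArg₂ (· * ·) (hinv u v).symm (hinv u w).symm))

variable [Finite G]

theorem card_eq (L : Layer P N E) : Nat.card P = Nat.card N * 16 := by
  choose g hg using L.surj
  rw [← Nat.card_congr (Equiv.ofBijective (fun p : ↥N × Fin 16 => (⟨p.1.1, L.le p.1.2⟩ * g p.2 : ↥P))
    ⟨?_, ?_⟩), Nat.card_prod, Nat.card_fin]
  · rintro ⟨n, a⟩ ⟨n', a'⟩ h
    have h1 := congrArg E h
    simp only [L.map_mul, (L.eq_zero ⟨n.1, L.le n.2⟩).2 n.2, (L.eq_zero ⟨n'.1, L.le n'.2⟩).2 n'.2,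
      (xr_facts.1 _).2.1, hg] at h1
    subst h1
    exact Prod.ext (Subtype.ext (congrArg Subtype.val (mul_right_cancel h) :)) rfl
  · intro k
    have h0 : E (k * (g (E k))⁻¹) = 0 := by
      have h1 := L.map_mul (k * (g (E k))⁻¹) (g (E k))
      rw [inv_mul_cancel_right, hg] at h1
      refine xr_facts.2.1 _ _ ?_
      rw [(xr_facts.1 _).2.2]
      have h2 := congrArg (fun z => xr z (E k)) h1
      simp only [(xr_facts.1 _).1, xr_facts.2.2.2, (xr_facts.1 _).2.2] at h2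
      exact h2.symm
    exact ⟨(⟨_, (L.eq_zero _).1 h0⟩, E k), inv_mul_cancel_right k _⟩

/-- A zero of the squaring map gives an elementary abelian section of order 32. -/
theorem false_of_zero (L : Layer P N E) (hr : SectionalPRankLE 2 4 G) (h16 : Nat.card N = 16)
    {k : ↥P} (hk : E k ≠ 0) (hk2 : (k : G) * k = 1) : False := by
  have hkN : (k : G) ∉ N := fun h => hk ((L.eq_zero k).2 h)
  let W : Subgroup G :=
    { carrier := {g | g ∈ N ∨ g * k ∈ N}
      one_mem' := Or.inl N.one_mem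
      mul_mem' := by
        rintro a b (ha | ha) (hb | hb)
        · exact Or.inl (mul_mem ha hb)
        · exact Or.inr (by rw [mul_assoc]; exact mul_mem ha hb)
        · refine Or.inr ?_
          rw [mul_assoc, L.central b hb _ k.2, ← mul_assoc]
          exact mul_mem ha hb
        · refine Or.inl ?_
          have e : a * b = (a * k) * (b * k) := by
            rw [mul_assoc a (k : G), ← mul_assoc (k : G) b, ← show b * (k : G) * k = (k : G) * b * k from ?_,
              mul_assoc b, hk2, mul_one]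
            have hc := L.central _ hb _ k.2
            have h2 : b * (k : G) * k = (k : G) * (b * k) := hc
            rw [h2, mul_assoc]
          rw [e]; exact mul_mem ha hb
      inv_mem' := by
        rintro a (ha | ha)
        · exact Or.inl (inv_mem ha)
        · refine Or.inr ?_
          have hki : (k : G)⁻¹ = k := inv_eq_of_mul_eq_one_right hk2
          have e : a⁻¹ * k = (k : G) * (a * k)⁻¹ * k := by rw [mul_inv_rev, hki, ← mul_assoc, hk2, one_mul]
          rw [e, ← L.central _ (inv_mem ha) _ k.2, mul_assoc, hk2, mul_one]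
          exact inv_mem ha }
  have hcW : Nat.card W = 32 := by
    rw [← Nat.card_congr (Equiv.ofBijective (fun p : ↥N × Bool =>
      (⟨if p.2 then p.1.1 * k else p.1.1, by
        cases p.2
        · exact Or.inl p.1.2
        · exact Or.inr (show p.1.1 * k * k ∈ N by rw [mul_assoc, hk2, mul_one]; exact p.1.2)⟩ : W))
      ⟨?_, ?_⟩), Nat.card_prod, h16, Nat.card_eq_fintype_card, Fintype.card_bool]
    · rintro ⟨n, b⟩ ⟨n', b'⟩ h
      have h1 : (if b then n.1 * (k : G) else n.1) = if b' then n'.1 * (k : G) else n'.1 :=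
        congrArg Subtype.val h
      cases b <;> cases b' <;> simp at h1
      · exact Prod.ext h1 rfl
      · exact absurd (by
          rw [show (k : G) = n'.1⁻¹ * n.1 by rw [h1]; group]; exact mul_mem (inv_mem n'.2) n.2) hkN
      · exact absurd (by
          rw [show (k : G) = n.1⁻¹ * n'.1 by rw [← h1]; group]; exact mul_mem (inv_mem n.2) n'.2) hkN
      · exact Prod.ext h1 rfl
    · rintro ⟨g, hg | hg⟩
      · exact ⟨(⟨g, hg⟩, false), rfl⟩
      · exact ⟨(⟨_, hg⟩, true), Subtype.ext (by simp [mul_assoc, hk2])⟩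
  have hcomm : ∀ a ∈ W, ∀ n ∈ N, a * n = n * a := by
    rintro a (ha | ha) n hn
    · exact (L.central n hn a (L.le ha)).symm
    · refine (L.central n hn a ?_).symm
      rw [show a = a * k * (k : G)⁻¹ by group]
      exact mul_mem (L.le ha) (inv_mem k.2)
  have hdec : ∀ a ∈ W, a ∈ N ∨ ∃ n ∈ N, a = n * k := by
    rintro a (ha | ha)
    · exact Or.inl ha
    · exact Or.inr ⟨_, ha, by rw [mul_assoc, hk2, mul_one]⟩
  have h := Cfsg.Agent.S4400.card_le_of_hom hr W W.subtype W (by rw [Subgroup.range_subtype]) ?_ ?_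
  · rw [hcW] at h; omega
  · intro a ha b hb
    rcases hdec b hb with hb' | ⟨n, hn, rfl⟩
    · exact hcomm a ha b hb'
    · rcases hdec a ha with ha' | ⟨m, hm, rfl⟩
      · exact (hcomm _ hb a ha').symm
      · calc m * k * (n * k) = m * ((k : G) * n) * k := by group
          _ = m * (n * k) * k := by rw [L.central n hn _ k.2]
          _ = n * m * ((k : G) * k) := by rw [L.central n hn m (L.le hm)]; group
          _ = n * (m * k) * k := by group
          _ = n * ((k : G) * m) * k := by rw [L.central m hm _ k.2]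
          _ = n * k * (m * k) := by group
  · intro a ha
    rcases hdec a ha with ha' | ⟨m, hm, rfl⟩
    · rw [pow_two]; exact L.exp a ha'
    · calc (m * (k : G)) ^ 2 = m * ((k : G) * m) * k := by rw [pow_two]; group
        _ = m * (m * k) * k := by rw [L.central m hm _ k.2]
        _ = m * m * ((k : G) * k) := by group
        _ = 1 := by rw [L.exp m hm, hk2, one_mul]

/-- A plane with a single square gives an elementary abelian section of order 32. -/
theorem false_of_plane (L : Layer P N E) (hr : SectionalPRankLE 2 4 G) (h16 : Nat.card N = 16)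
    {u v : ↥P} (hu : E u ≠ 0) (hv : E v ≠ 0) (huv : E u ≠ E v)
    (h1 : (u : G) * u = (v : G) * v) (h2 : ((u * v : ↥P) : G) * (u * v : ↥P) = (u : G) * u) : False := by
  classical
  obtain ⟨Q, hQ⟩ := L.exists_sqMap
  set sp : Fin 4 → Fin 16 := ![0, E u, E v, xr (E u) (E v)] with hsp
  let S : Finset (Fin 16) := Finset.univ.image sp
  have hS : ∀ a ∈ S, ∀ b ∈ S, xr a b ∈ S := by
    intro a ha b hb
    obtain ⟨i, -, rfl⟩ := Finset.mem_image.1 ha
    obtain ⟨j, -, rfl⟩ := Finset.mem_image.1 hb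
    obtain ⟨k, hk⟩ := span_two (E u) (E v) i j
    exact Finset.mem_image.2 ⟨k, Finset.mem_univ _, hk.symm⟩
  have hS0 : (0 : Fin 16) ∈ S := Finset.mem_image.2 ⟨0, Finset.mem_univ _, rfl⟩
  let W : Subgroup G :=
    { carrier := {g | ∃ h : g ∈ P, E ⟨g, h⟩ ∈ S}
      one_mem' := ⟨P.one_mem, by rw [show (⟨1, P.one_mem⟩ : ↥P) = 1 from rfl, L.E_one]; exact hS0⟩
      mul_mem' := by
        rintro a b ⟨ha, hEa⟩ ⟨hb, hEb⟩
        exact ⟨mul_mem ha hb, by
          rw [show (⟨a * b, _⟩ : ↥P) = ⟨a, ha⟩ * ⟨b, hb⟩ from rfl, L.map_mul]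
          exact hS _ hEa _ hEb⟩
      inv_mem' := by
        rintro a ⟨ha, hEa⟩
        refine ⟨inv_mem ha, ?_⟩
        have e := L.map_mul (⟨a, ha⟩ : ↥P)⁻¹ ⟨a, ha⟩
        rw [inv_mul_cancel, L.E_one] at e
        rw [show (⟨a⁻¹, _⟩ : ↥P) = (⟨a, ha⟩ : ↥P)⁻¹ from rfl, xr_facts.2.1 _ _ e.symm]
        exact hEa }
  have hcS : S.card = 4 := by
    rw [Finset.card_image_of_injective _ (span_two_injective _ _ hu hv huv), Finset.card_univ,
      Fintype.card_fin]
  have hcW : Nat.card W = 64 := by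
    choose g hg using L.surj
    rw [← Nat.card_congr (Equiv.ofBijective (fun p : ↥N × ↥S =>
      (⟨((⟨p.1.1, L.le p.1.2⟩ * g p.2 : ↥P) : G), (⟨p.1.1, L.le p.1.2⟩ * g p.2 : ↥P).2, by
        rw [Subtype.coe_eta, L.map_mul, (L.eq_zero _).2 p.1.2, (xr_facts.1 _).2.1, hg]
        exact p.2.2⟩ : W))
      ⟨?_, ?_⟩), Nat.card_prod, h16, Nat.card_eq_fintype_card, Fintype.card_coe, hcS]
    · rintro ⟨n, a⟩ ⟨n', a'⟩ h
      have h0 : (⟨n.1, L.le n.2⟩ * g a : ↥P) = ⟨n'.1, L.le n'.2⟩ * g a' :=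
        Subtype.ext (congrArg Subtype.val h :)
      have h1 := congrArg E h0
      rw [L.map_mul, L.map_mul, (L.eq_zero ⟨n.1, L.le n.2⟩).2 n.2, (L.eq_zero ⟨n'.1, L.le n'.2⟩).2 n'.2, (xr_facts.1 _).2.1,
        (xr_facts.1 _).2.1, hg, hg] at h1
      rw [Subtype.ext h1] at h0
      exact Prod.ext (Subtype.ext (congrArg Subtype.val (mul_right_cancel h0) :)) (Subtype.ext h1)
    · rintro ⟨w, hw, hEw⟩
      have h0 : E (⟨w, hw⟩ * (g (E ⟨w, hw⟩))⁻¹) = 0 := by
        have h1 := L.map_mul (⟨w, hw⟩ * (g (E ⟨w, hw⟩))⁻¹) (g (E ⟨w, hw⟩))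
        rw [inv_mul_cancel_right, hg] at h1
        have h2 := congrArg (fun z => xr z (E ⟨w, hw⟩)) h1
        simp only [(xr_facts.1 _).1, xr_facts.2.2.2, (xr_facts.1 _).2.2] at h2
        exact h2.symm
      exact ⟨(⟨_, (L.eq_zero _).1 h0⟩, ⟨_, hEw⟩), Subtype.ext (inv_mul_cancel_right w _)⟩
  have hWsq : ∀ w ∈ W, w * w ∈ Subgroup.zpowers ((u : G) * u) := by
    rintro w ⟨hw, hEw⟩
    obtain ⟨i, -, hi⟩ := Finset.mem_image.1 hEw
    have e := hi.symm
    fin_cases i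
    · rw [L.exp w ((L.eq_zero _).1 e)]; exact one_mem _
    · rw [show w * w = (u : G) * u from L.congr_sq e]; exact Subgroup.mem_zpowers _
    · rw [show w * w = (v : G) * v from L.congr_sq e, ← h1]; exact Subgroup.mem_zpowers _
    · rw [show w * w = ((u * v : ↥P) : G) * (u * v : ↥P) from
        L.congr_sq (k := ⟨w, hw⟩) (e.trans (L.map_mul u v).symm), h2]
      exact Subgroup.mem_zpowers _
  set T := (Subgroup.zpowers ((u : G) * u)).subgroupOf W with hT
  have hTW : Subgroup.zpowers ((u : G) * u) ≤ W :=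
    Subgroup.zpowers_le.2 ⟨mul_mem u.2 u.2, by
      rw [show (⟨(u : G) * u, _⟩ : ↥P) = u * u from rfl, L.map_mul, (xr_facts.1 _).1]; exact hS0⟩
  haveI : T.Normal := by
    refine ⟨fun t ht w => ?_⟩
    have htN : (t : G) ∈ N := (Subgroup.zpowers_le.2 (L.sq _ u.2)) ht
    rw [hT, Subgroup.mem_subgroupOf, Subgroup.coe_mul, Subgroup.coe_mul, Subgroup.coe_inv,
      ← L.central _ htN _ w.2.1, mul_inv_cancel_right]
    exact ht
  have hexp : ∀ a : W ⧸ T, a * a = 1 := fun a => by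
    induction a using QuotientGroup.induction_on with
    | H w => rw [← QuotientGroup.mk_mul, QuotientGroup.eq_one_iff]; exact hWsq w.1 w.2
  have hinv : ∀ z : W ⧸ T, z⁻¹ = z := fun z => inv_eq_of_mul_eq_one_right (hexp z)
  have h := hr W T ⊤ ⟨⟨fun a b => Subtype.ext (by
    show (a.1 * b.1 : W ⧸ T) = b.1 * a.1
    rw [← hinv (a.1 * b.1), mul_inv_rev, hinv, hinv])⟩⟩ (fun a _ => (pow_two a).trans (hexp a))
  rw [Subgroup.card_top] at h
  have hlag := Subgroup.card_eq_card_quotient_mul_card_subgroup T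
  have hT2 : Nat.card T ≤ 2 := by
    rw [hT, Nat.card_congr (Subgroup.subgroupOfEquivOfLe hTW).toEquiv, Nat.card_zpowers]
    exact Nat.le_of_dvd (by norm_num)
      (orderOf_dvd_of_pow_eq_one (by rw [pow_two]; exact L.exp _ (L.sq _ u.2)))
  rw [hcW] at hlag
  have := Nat.mul_le_mul h hT2
  omega

/-- An additive injective squaring map gives an elementary abelian section of order 32. -/
theorem false_of_additive (L : Layer P N E) (hr : SectionalPRankLE 2 4 G) (h16 : Nat.card N = 16)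
    {Q : Fin 16 → ↥N} (hQ : ∀ k : ↥P, ((Q (E k)) : G) = (k : G) * k)
    (hadd : ∀ a b, Q (xr a b) = Q a * Q b) (hinj : Function.Injective Q)
    {s : Bool} {y : G} (hy : y ∉ P) (hyy : y * y ∈ P)
    (hyconj : ∀ k : ↥P, ∃ h : y * k * y⁻¹ ∈ P, E ⟨y * k * y⁻¹, h⟩ = act s false (E k)) : False := by
  classical
  have hQbij : Function.Bijective Q := (Nat.bijective_iff_injective_and_card Q).2
    ⟨hinj, by rw [h16, Nat.card_fin]⟩
  -- `P` is abelian
  have hab : ∀ u ∈ P, ∀ v ∈ P, u * v = v * u := by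
    intro u hu v hv
    have h1 : (Q (E (⟨u, hu⟩ * ⟨v, hv⟩)) : G) = u * u * (v * v) := by
      rw [L.map_mul, hadd, Subgroup.coe_mul, hQ, hQ]
    rw [hQ, L.sq_mul] at h1
    have h2 : v * u * v⁻¹ * u⁻¹ = 1 := mul_eq_left.1 h1
    calc u * v = 1 * (u * v) := (one_mul _).symm
      _ = v * u := by rw [← h2]; group
  let σ : ↥P →* ↥P :=
    { toFun := fun k => ⟨y * k * y⁻¹, (hyconj k).1⟩
      map_one' := Subtype.ext (by simp)
      map_mul' := fun a b => Subtype.ext (by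
        show y * ((a : G) * b) * y⁻¹ = y * a * y⁻¹ * (y * b * y⁻¹)
        group) }
  have hσE : ∀ k, E (σ k) = act s false (E k) := fun k => (hyconj k).2
  have hσσ : ∀ k, σ (σ k) = k := fun k => Subtype.ext (by
    show y * (y * k * y⁻¹) * y⁻¹ = k
    rw [show y * (y * k * y⁻¹) * y⁻¹ = y * y * k * (y * y)⁻¹ by group, hab _ hyy _ k.2,
      mul_inv_cancel_right])
  -- the squares of fixed cosets
  let T : Subgroup G :=
    { carrier := {g | ∃ k : ↥P, act s false (E k) = E k ∧ g = (k : G) * k}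
      one_mem' := ⟨1, by rw [L.E_one]; cases s <;> rfl, by simp⟩
      mul_mem' := by
        rintro _ _ ⟨a, ha, rfl⟩ ⟨b, hb, rfl⟩
        refine ⟨a * b, ?_, ?_⟩
        · rw [← hσE, _root_.map_mul, L.map_mul, hσE, hσE, ha, hb, ← L.map_mul]
        · rw [Subgroup.coe_mul]
          exact Commute.mul_mul_mul_comm (hab _ a.2 _ b.2) (a : G) (b : G)
      inv_mem' := by
        rintro _ ⟨a, ha, rfl⟩
        exact ⟨a, ha, inv_eq_of_mul_eq_one_right (L.exp _ (L.sq _ a.2))⟩ }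
  have hTN : ∀ g ∈ T, g ∈ N := by rintro _ ⟨k, -, rfl⟩; exact L.sq _ k.2
  have hTQ : ∀ a, act s false a = a → (Q a : G) ∈ T := by
    intro a ha
    obtain ⟨k, rfl⟩ := L.surj a
    exact ⟨k, ha, hQ k⟩
  have hTfix : ∀ g ∈ T, y * g * y⁻¹ = g := by
    rintro _ ⟨k, hk, rfl⟩
    rw [show y * ((k : G) * k) * y⁻¹ = (σ k : G) * σ k by
      show _ = y * k * y⁻¹ * (y * k * y⁻¹)
      group]
    exact L.congr_sq ((hσE k).trans hk)
  have hNσ : ∀ n : ↥P, (n : G) ∈ N → ((σ n : ↥P) : G) * n ∈ T := by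
    intro n hn
    obtain ⟨b, hb⟩ := hQbij.2 ⟨(n : G), hn⟩
    obtain ⟨k, rfl⟩ := L.surj b
    have hnk : (n : G) = (k : G) * k := by rw [← hQ, hb]
    refine ⟨σ k * k, ?_, ?_⟩
    · rw [L.map_mul, hσE]
      have key : ∀ (s : Bool) (a : Fin 16),
          act s false (xr (act s false a) a) = xr (act s false a) a := by decide +kernel
      exact key s (E k)
    · show y * n * y⁻¹ * n = y * k * y⁻¹ * k * (y * k * y⁻¹ * k)
      rw [hnk, show y * ((k : G) * k) * y⁻¹ = y * k * y⁻¹ * (y * k * y⁻¹) by group]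
      exact Commute.mul_mul_mul_comm (hab _ (hyconj k).1 _ k.2) _ _
  -- fixed cosets
  let A : Subgroup G :=
    { carrier := {g | ∃ h : g ∈ P, act s false (E ⟨g, h⟩) = E ⟨g, h⟩}
      one_mem' := ⟨P.one_mem, by
        rw [show (⟨1, P.one_mem⟩ : ↥P) = 1 from rfl, L.E_one]; cases s <;> rfl⟩
      mul_mem' := by
        rintro a b ⟨ha, hEa⟩ ⟨hb, hEb⟩
        refine ⟨mul_mem ha hb, ?_⟩
        rw [show (⟨a * b, _⟩ : ↥P) = ⟨a, ha⟩ * ⟨b, hb⟩ from rfl, ← hσE, _root_.map_mul, L.map_mul, hσE,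
          hσE, hEa, hEb, ← L.map_mul]
      inv_mem' := by
        rintro a ⟨ha, hEa⟩
        refine ⟨inv_mem ha, ?_⟩
        have e := L.map_mul (⟨a, ha⟩ : ↥P)⁻¹ ⟨a, ha⟩
        rw [inv_mul_cancel, L.E_one] at e
        rw [show (⟨a⁻¹, _⟩ : ↥P) = (⟨a, ha⟩ : ↥P)⁻¹ from rfl, xr_facts.2.1 _ _ e.symm]
        exact hEa }
  have hAP : ∀ a ∈ A, a ∈ P := fun a ha => ha.1
  have hTA : T ≤ A := fun g hg => ⟨L.le (hTN g hg), by
    rw [(L.eq_zero _).2 (hTN g hg)]; cases s <;> rfl⟩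
  have hfixdec : ∀ k : ↥P, act s false (E k) = E k → ∃ ξ n : ↥P,
      (n : G) ∈ N ∧ k = ξ * σ ξ * n := by
    intro k hk
    obtain ⟨b, hb⟩ := (act_involution s (E k)).2.1 hk
    obtain ⟨ξ, rfl⟩ := L.surj b
    refine ⟨ξ, (ξ * σ ξ)⁻¹ * k, (L.eq_zero _).1 ?_, (mul_inv_cancel_left _ _).symm⟩
    have e := L.map_mul (ξ * σ ξ) ((ξ * σ ξ)⁻¹ * k)
    rw [mul_inv_cancel_left, L.map_mul, hσE, ← hb] at e
    have e2 := congrArg (xr (E k)) e
    rw [(xr_facts.1 _).1, ← xr_facts.2.2.2, (xr_facts.1 _).1, (xr_facts.1 _).2.1] at e2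
    exact e2.symm
  have hAσ : ∀ a : ↥P, act s false (E a) = E a → ((σ a : ↥P) : G) * a ∈ T := by
    intro a ha
    obtain ⟨ξ, n, hn, rfl⟩ := hfixdec a ha
    rw [_root_.map_mul, _root_.map_mul, hσσ]
    have e : ((σ ξ * ξ * σ n : ↥P) : G) * ((ξ * σ ξ * n : ↥P) : G) =
        ((ξ * σ ξ : ↥P) : G) * (ξ * σ ξ : ↥P) * ((σ n : G) * n) := by
      simp only [Subgroup.coe_mul]
      rw [hab _ (σ ξ).2 _ ξ.2]
      have hc := hab _ (σ n).2 _ (mul_mem ξ.2 (σ ξ).2)
      calc (ξ : G) * σ ξ * σ n * ((ξ : G) * σ ξ * n)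
          = (ξ : G) * σ ξ * ((σ n : G) * ((ξ : G) * σ ξ)) * n := by group
        _ = _ := by rw [hc]; group
    rw [e]
    refine mul_mem ⟨ξ * σ ξ, ?_, rfl⟩ (hNσ n hn)
    rw [L.map_mul, hσE]
    have key : ∀ (s : Bool) (a : Fin 16),
        act s false (xr a (act s false a)) = xr a (act s false a) := by decide +kernel
    exact key s (E ξ)
  -- a better lift of the involution
  have hwfix : act s false (E ⟨y * y, hyy⟩) = E ⟨y * y, hyy⟩ := by
    rw [← hσE]
    congr 1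
    apply Subtype.ext
    show y * (y * y) * y⁻¹ = y * y
    group
  obtain ⟨ξ, n, hn, hw⟩ := hfixdec _ hwfix
  have hnT : (n : G) ∈ T := by
    have hσw : σ ⟨y * y, hyy⟩ = ⟨y * y, hyy⟩ := Subtype.ext (by
      show y * (y * y) * y⁻¹ = y * y
      group)
    rw [hw, _root_.map_mul, _root_.map_mul, hσσ,
      show σ ξ * ξ = ξ * σ ξ from Subtype.ext (hab _ (σ ξ).2 _ ξ.2)] at hσw
    have hσn : σ n = n := mul_left_cancel hσw
    obtain ⟨b, hb⟩ := hQbij.2 ⟨(n : G), hn⟩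
    obtain ⟨k, rfl⟩ := L.surj b
    refine ⟨k, ?_, by rw [← hQ, hb]⟩
    apply hinj
    rw [hb, ← hσE]
    refine Subtype.ext ?_
    rw [hQ]
    show y * k * y⁻¹ * (y * k * y⁻¹) = (n : G)
    have e := congrArg Subtype.val hσn
    change y * n * y⁻¹ = (n : G) at e
    rw [show (n : G) = (k : G) * k from by rw [← hQ, hb]] at e ⊢
    rw [← e]
    group
  set y' := y * (ξ : G)⁻¹ with hy'
  have hy'P : y' ∉ P := fun h => hy (by
    have := mul_mem h ξ.2
    rwa [hy', inv_mul_cancel_right] at this)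
  have hy'conj : ∀ a ∈ P, y' * a * y'⁻¹ = y * a * y⁻¹ := by
    intro a ha
    rw [hy', show y * (ξ : G)⁻¹ * a * (y * (ξ : G)⁻¹)⁻¹ = y * ((ξ : G)⁻¹ * a) * ξ * y⁻¹ by group,
      hab _ (inv_mem ξ.2) _ ha]
    group
  have hy'2 : y' * y' ∈ T := by
    have e1 : y' * y' = (y * (ξ : G)⁻¹ * y⁻¹) * (y * y) * (ξ : G)⁻¹ := by rw [hy']; group
    have e2 : y * (ξ : G)⁻¹ * y⁻¹ = (σ ξ : G)⁻¹ := by
      show _ = (y * ξ * y⁻¹)⁻¹
      group
    rw [e1, e2, show y * y = ((ξ * σ ξ * n : ↥P) : G) from congrArg Subtype.val hw]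
    simp only [Subgroup.coe_mul]
    rw [show ((σ ξ : G))⁻¹ * ((ξ : G) * σ ξ * n) * (ξ : G)⁻¹ =
      (σ ξ : G)⁻¹ * ((ξ : G) * σ ξ) * ((n : G) * (ξ : G)⁻¹) by group,
      hab _ ξ.2 _ (σ ξ).2, hab _ (L.le hn) _ (inv_mem ξ.2)]
    rw [show ((σ ξ : G))⁻¹ * ((σ ξ : G) * ξ) * ((ξ : G)⁻¹ * n) = n by group]
    exact hnT
  have hAconj : ∀ a ∈ A, y' * a * y'⁻¹ ∈ A := by
    intro a ha
    obtain ⟨h, he⟩ := ha
    rw [hy'conj a h]
    refine ⟨(hyconj ⟨a, h⟩).1, ?_⟩
    rw [(hyconj ⟨a, h⟩).2, (act_involution s _).1]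
    exact he.symm
  -- the subgroup `A⟨y'⟩`
  let R : Subgroup G :=
    { carrier := {g | g ∈ A ∨ g * y' ∈ A}
      one_mem' := Or.inl A.one_mem
      mul_mem' := by
        rintro a b (ha | ha) (hb | hb)
        · exact Or.inl (mul_mem ha hb)
        · exact Or.inr (by rw [mul_assoc]; exact mul_mem ha hb)
        · refine Or.inr ?_
          have hb2 : y'⁻¹ * b * y' ∈ A := by
            have h3 := hAconj b hb
            have e : y'⁻¹ * b * y' = (y' * y')⁻¹ * (y' * b * y'⁻¹) * (y' * y') := by group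
            rw [e]
            exact mul_mem (mul_mem (inv_mem (hTA hy'2)) h3) (hTA hy'2)
          rw [show a * b * y' = a * y' * (y'⁻¹ * b * y') by group]
          exact mul_mem ha hb2
        · refine Or.inl ?_
          have hb2 : y'⁻¹ * (b * y') * y' ∈ A := by
            have h3 := hAconj _ hb
            have e : y'⁻¹ * (b * y') * y' = (y' * y')⁻¹ * (y' * (b * y') * y'⁻¹) * (y' * y') := by
              group
            rw [e]
            exact mul_mem (mul_mem (inv_mem (hTA hy'2)) h3) (hTA hy'2)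
          rw [show a * b = a * y' * (y'⁻¹ * (b * y') * y') * (y' * y')⁻¹ by group]
          exact mul_mem (mul_mem ha hb2) (inv_mem (hTA hy'2))
      inv_mem' := by
        rintro a (ha | ha)
        · exact Or.inl (inv_mem ha)
        · refine Or.inr ?_
          rw [show a⁻¹ * y' = y' * (a * y')⁻¹ * y'⁻¹ * (y' * y') by group]
          exact mul_mem (hAconj _ (inv_mem ha)) (hTA hy'2) }
  have hcA : Nat.card A = 64 := by
    choose g hg using L.surj
    rw [← Nat.card_congr (Equiv.ofBijective (fun p : ↥N × {a : Fin 16 // act s false a = a} =>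
      (⟨((⟨p.1.1, L.le p.1.2⟩ * g p.2 : ↥P) : G), (⟨p.1.1, L.le p.1.2⟩ * g p.2 : ↥P).2, by
        rw [Subtype.coe_eta, L.map_mul, (L.eq_zero ⟨p.1.1, L.le p.1.2⟩).2 p.1.2,
          (xr_facts.1 _).2.1, hg]
        exact p.2.2⟩ : A))
      ⟨?_, ?_⟩), Nat.card_prod, h16, Nat.card_eq_fintype_card, Fintype.card_subtype, card_fixed]
    · rintro ⟨n, a⟩ ⟨n', a'⟩ h
      have h0 : (⟨n.1, L.le n.2⟩ * g a : ↥P) = ⟨n'.1, L.le n'.2⟩ * g a' :=
        Subtype.ext (congrArg Subtype.val h :)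
      have h1 := congrArg E h0
      rw [L.map_mul, L.map_mul, (L.eq_zero ⟨n.1, L.le n.2⟩).2 n.2,
        (L.eq_zero ⟨n'.1, L.le n'.2⟩).2 n'.2, (xr_facts.1 _).2.1,
        (xr_facts.1 _).2.1, hg, hg] at h1
      rw [Subtype.ext h1] at h0
      exact Prod.ext (Subtype.ext (congrArg Subtype.val (mul_right_cancel h0) :)) (Subtype.ext h1)
    · rintro ⟨w, hw, hEw⟩
      have h0 : E (⟨w, hw⟩ * (g (E ⟨w, hw⟩))⁻¹) = 0 := by
        have h1 := L.map_mul (⟨w, hw⟩ * (g (E ⟨w, hw⟩))⁻¹) (g (E ⟨w, hw⟩))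
        rw [inv_mul_cancel_right, hg] at h1
        have h2 := congrArg (fun z => xr z (E ⟨w, hw⟩)) h1
        simp only [(xr_facts.1 _).1, xr_facts.2.2.2, (xr_facts.1 _).2.2] at h2
        exact h2.symm
      exact ⟨(⟨_, (L.eq_zero _).1 h0⟩, ⟨_, hEw⟩), Subtype.ext (inv_mul_cancel_right w _)⟩
  have hcR : Nat.card R = 128 := by
    rw [← Nat.card_congr (Equiv.ofBijective (fun p : ↥A × Bool =>
      (⟨if p.2 then p.1.1 * y'⁻¹ else p.1.1, by
        cases p.2
        · exact Or.inl p.1.2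
        · exact Or.inr (show p.1.1 * y'⁻¹ * y' ∈ A by rw [inv_mul_cancel_right]; exact p.1.2)⟩ : R))
      ⟨?_, ?_⟩), Nat.card_prod, hcA, Nat.card_eq_fintype_card, Fintype.card_bool]
    · rintro ⟨n, b⟩ ⟨n', b'⟩ h
      have h1 : (if b then n.1 * y'⁻¹ else n.1) = if b' then n'.1 * y'⁻¹ else n'.1 :=
        congrArg Subtype.val h
      cases b <;> cases b' <;> simp at h1
      · exact Prod.ext h1 rfl
      · exact absurd (by
          rw [show y' = n.1⁻¹ * n'.1 by rw [h1]; group]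
          exact mul_mem (inv_mem (hAP _ n.2)) (hAP _ n'.2)) hy'P
      · exact absurd (by
          rw [show y' = n'.1⁻¹ * n.1 by rw [← h1]; group]
          exact mul_mem (inv_mem (hAP _ n'.2)) (hAP _ n.2)) hy'P
      · exact Prod.ext h1 rfl
    · rintro ⟨g, hg | hg⟩
      · exact ⟨(⟨g, hg⟩, false), rfl⟩
      · exact ⟨(⟨_, hg⟩, true), Subtype.ext (by simp [mul_assoc])⟩
  have hsq : ∀ g ∈ R, g * g ∈ T := by
    rintro g (hg | hg)
    · exact ⟨⟨g, hg.1⟩, hg.2, rfl⟩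
    · set a := g * y' with ha
      obtain ⟨haP, haE⟩ := hg
      have hy'inv : y'⁻¹ * a * y' = y * a * y⁻¹ := by
        have e : y'⁻¹ * a * y' = (y' * y')⁻¹ * (y' * a * y'⁻¹) * (y' * y') := by group
        rw [e, hy'conj a haP, hab _ (inv_mem (L.le (hTN _ hy'2))) _ (hyconj ⟨a, haP⟩).1,
          inv_mul_cancel_right]
      have e : g * g = (a * (y'⁻¹ * a * y')) * (y' * y')⁻¹ := by rw [ha]; group
      rw [e, hy'inv, hab _ haP _ (hyconj ⟨a, haP⟩).1]
      exact mul_mem (hAσ ⟨a, haP⟩ haE) (inv_mem hy'2)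
  have hTR : T ≤ R := fun g hg => Or.inl (hTA hg)
  set T' := T.subgroupOf R with hT'
  have hTc : ∀ t ∈ T, ∀ g ∈ R, g * t * g⁻¹ = t := by
    intro t ht g hg
    rcases hg with hg | hg
    · rw [hab _ (hAP g hg) _ (L.le (hTN t ht)), mul_inv_cancel_right]
    · have e : g = g * y' * y'⁻¹ := (mul_inv_cancel_right g y').symm
      rw [e, show g * y' * y'⁻¹ * t * (g * y' * y'⁻¹)⁻¹ =
        g * y' * (y'⁻¹ * t * y') * (g * y')⁻¹ by group]
      have h2 : y'⁻¹ * t * y' = t := by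
        have h3 : y' * t * y'⁻¹ = t := by rw [hy'conj t (L.le (hTN t ht)), hTfix t ht]
        calc y'⁻¹ * t * y' = y'⁻¹ * (y' * t * y'⁻¹) * y' := by rw [h3]
          _ = t := by group
      rw [h2, hab _ (hAP _ hg) _ (L.le (hTN t ht)), mul_inv_cancel_right]
  haveI : T'.Normal := by
    refine ⟨fun t ht w => ?_⟩
    show (w : G) * (t : G) * (w : G)⁻¹ ∈ T
    exact (hTc _ ht _ w.2).symm ▸ ht
  have hexp : ∀ a : R ⧸ T', a * a = 1 := fun a => by
    induction a using QuotientGroup.induction_on with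
    | H w => rw [← QuotientGroup.mk_mul, QuotientGroup.eq_one_iff]; exact hsq w.1 w.2
  have hinv : ∀ z : R ⧸ T', z⁻¹ = z := fun z => inv_eq_of_mul_eq_one_right (hexp z)
  have h := hr R T' ⊤ ⟨⟨fun a b => Subtype.ext (by
    show (a.1 * b.1 : R ⧸ T') = b.1 * a.1
    rw [← hinv (a.1 * b.1), mul_inv_rev, hinv, hinv])⟩⟩ (fun a _ => (pow_two a).trans (hexp a))
  rw [Subgroup.card_top] at h
  have hlag := Subgroup.card_eq_card_quotient_mul_card_subgroup T'
  have hT4 : Nat.card T' ≤ 4 := by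
    rw [hT', Nat.card_congr (Subgroup.subgroupOfEquivOfLe hTR).toEquiv]
    have hsub : (T : Set G) ⊆ (fun a => (Q a : G)) '' {a | act s false a = a} := by
      rintro _ ⟨k, hk, rfl⟩
      exact ⟨E k, hk, hQ k⟩
    rw [← SetLike.coe_sort_coe, Nat.card_coe_set_eq]
    refine ((Set.ncard_le_ncard hsub).trans (Set.ncard_image_le (Set.toFinite _))).trans (le_of_eq ?_)
    rw [Set.ncard_eq_toFinset_card', Set.toFinset_setOf, card_fixed]
  rw [hcR] at hlag
  have := Nat.mul_le_mul h hT4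
  omega

end Layer

end CfsgLib.GLFourTwo
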