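import Cfsg.Agent.GLFourTwo.A5ModulesData

/-! Kernel checks on the modules of `A₅` (A5ModulesEval). -/

set_option autoImplicit false

namespace CfsgLib.GLFourTwo.A5Mod

open Equiv

set_option maxRecDepth 100000 in
theorem eval_faithful : ∀ (s t : Bool) (c1 c2 : Fin 16),
    (∀ g a, eval s (act t) c1 c2 (act s g a) = act t g (eval s (act t) c1 c2 a)) →
    BasisQuad (eval s (act t) c1 c2) →
      (∀ a b, eval s (act t) c1 c2 (xr a b) =
        xr (eval s (act t) c1 c2 a) (eval s (act t) c1 c2 b)) ∨
      HasPlane (eval s (act t) c1 c2) := by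
  decide +kernel

end CfsgLib.GLFourTwo.A5Mod
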