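import Cfsg.Agent.GLFourTwo.A5ModulesSearchF
import Cfsg.Agent.GLFourTwo.A5ModulesSearchT

/-! Kernel checks on the modules of `A₅` (search). -/

set_option autoImplicit false

namespace CfsgLib.GLFourTwo.A5Mod

open Equiv

/-- Every involution with product of order five with a standard generator is conjugate to the other. -/
theorem search (s : Bool) (a : Fin 8 → Fin 8) (ha : ∀ i, a (a i) = i) : Found s a := by
  have h : extAll (fun L => decide (Found s fun i : Fin 8 => Fin.ofNat 8 (oct L i.val))) 8 0
      (packed a 0) = true := by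
    cases s
    exacts [searchB_false, searchB_true]
  have h8 := extAll_spec _ a ha 8 0 rfl h
  rw [decide_eq_true_eq] at h8
  have e : (fun i : Fin 8 => Fin.ofNat 8 (oct (packed a 8) i.val)) = a := by
    funext i
    rw [oct_packed a 8 i.val i.isLt,
      show Fin.ofNat 8 i.val = i from Fin.ext (Nat.mod_eq_of_lt i.isLt)]
    exact Fin.ext (Nat.mod_eq_of_lt (a i).isLt)
  rwa [e] at h8

end CfsgLib.GLFourTwo.A5Mod
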