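import Cfsg.Agent.GLFourTwo.A5ModulesMat
import Cfsg.Agent.GLFourTwo.A5ModulesEval
import Cfsg.Agent.GLFourTwo.A5ModulesSearch

/-! Modules of `A₅` of dimension four over two elements, checked by the kernel. -/

set_option autoImplicit false

namespace CfsgLib.GLFourTwo.A5Mod

open Equiv

/-- Equivariant quadratic maps between the faithful modules. -/
theorem faithful_cases {s t : Bool} {q : Fin 16 → Fin 16} (h0 : q 0 = 0)
    (heq : ∀ g a, q (act s g a) = act t g (q a)) (hq : BasisQuad q) :
    (∀ a b, q (xr a b) = xr (q a) (q b)) ∨ HasPlane q := by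
  have h : q = eval s (act t) (q (rep s 1)) (q (rep s 2)) := funext fun a => by
    rw [eq_eval (act t) q heq a, eval]
    congr 1
    generalize (word s a).1 = r
    fin_cases r
    · show q (rep s 0) = 0
      cases s
      · rw [rep_false.2.1, h0]
      · rw [rep_false.2.2, h0]
    · rfl
    · rfl
  rw [h] at heq hq ⊢
  exact eval_faithful s t _ _ heq hq

/-- Invariant quadratic maps. -/
theorem trivial_cases {s : Bool} {q : Fin 16 → Fin 16} (h0 : q 0 = 0)
    (heq : ∀ g a, q (act s g a) = q a) (hq : BasisQuad q) :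
    ∃ c, ∀ a, q a = if supp s a then c else 0 := by
  have h : q = eval s (fun _ x => x) (q (rep s 1)) (q (rep s 2)) := funext fun a => by
    rw [eq_eval (fun _ x => x) q heq a, eval]
    congr 1
    generalize (word s a).1 = r
    fin_cases r
    · show q (rep s 0) = 0
      cases s
      · rw [rep_false.2.1, h0]
      · rw [rep_false.2.2, h0]
    · rfl
    · rfl
  rw [h] at hq
  refine ⟨q (rep s 2), fun a => ?_⟩
  conv_lhs => rw [h]
  refine eval_trivial s _ _ (fun hs => ?_) hq a
  rw [hs, rep_false.1]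

theorem exists_conj_genA (s : Bool) (π : Perm (Fin 8)) (h2 : π * π = 1)
    (h5 : (π * genB s) ^ 5 = 1) :
    ∃ c : Perm (Fin 8), Perm.sign c = 1 ∧ c * genB s = genB s * c ∧ π * c = c * genA s := by
  have hππ : ∀ i, π (π i) = i := fun i => by
    rw [← Perm.mul_apply, h2]; rfl
  have h := search s π hππ
  obtain ⟨c, hc, hcπ⟩ := h fun i => by
    have e := DFunLike.congr_fun h5 i
    rw [Perm.coe_pow] at e
    exact e
  exact ⟨_, (conjList_comm s c hc).2, Equiv.ext fun i => ((conjList_comm s c hc).1 i).symm,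
    Equiv.ext hcπ⟩

/-- An element of order three of `A₈` is conjugate in `A₈` to a standard one. -/
theorem exists_conj_genB {π : Perm (Fin 8)} (h3 : π ^ 3 = 1) (h1 : π ≠ 1) :
    ∃ (s : Bool) (c : Perm (Fin 8)), Perm.sign c = 1 ∧ π * c = c * genB s := by
  haveI : Fact (Nat.Prime 3) := ⟨Nat.prime_three⟩
  have hord : orderOf π = 3 := orderOf_eq_prime h3 h1
  obtain ⟨k, hk⟩ := Perm.cycleType_prime_order (σ := π) (by rw [hord]; exact Nat.prime_three)
  have hb : ∀ s : Bool, (genB s).cycleType = if s then {3, 3} else {3} := by decide +kernel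
  have hk2 : k + 1 ≤ 2 := by
    have h := π.sum_cycleType
    rw [hk, Multiset.sum_replicate, hord, smul_eq_mul] at h
    have h2 := Finset.card_le_univ π.support
    rw [Fintype.card_fin] at h2
    omega
  obtain ⟨s, hs⟩ : ∃ s : Bool, π.cycleType = (genB s).cycleType := by
    rw [hk, hord]
    rcases (by omega : k = 0 ∨ k = 1) with rfl | rfl
    · exact ⟨false, by rw [hb]; rfl⟩
    · exact ⟨true, by rw [hb]; rfl⟩
  obtain ⟨c, hc⟩ := isConj_iff.1 (Perm.isConj_iff_cycleType_eq.2 hs.symm)
  have hc' : π * c = c * genB s := by rw [← hc]; group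
  have hsw : ∀ s : Bool, swap 6 7 * genB s = genB s * swap 6 7 := by decide +kernel
  rcases Int.units_eq_one_or (Perm.sign c) with h | h
  · exact ⟨s, c, h, hc'⟩
  · refine ⟨s, c * swap 6 7, by rw [map_mul, h, Perm.sign_swap (by decide)]; rfl, ?_⟩
    rw [← mul_assoc, hc', mul_assoc, ← hsw, ← mul_assoc]

/-- Pairs of elements of orders 2 and 3 with product of order 5 are conjugate to a standard pair. -/
theorem exists_std_pair {a b : Perm (Fin 8)} (ha : a * a = 1) (hb : b ^ 3 = 1) (hb1 : b ≠ 1)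
    (hab : (a * b) ^ 5 = 1) :
    ∃ (s : Bool) (c : Perm (Fin 8)), Perm.sign c = 1 ∧
      a * c = c * genA s ∧ b * c = c * genB s := by
  obtain ⟨s, c, hc, hbc⟩ := exists_conj_genB hb hb1
  have hb' : b = c * genB s * c⁻¹ := by rw [← hbc]; group
  have h1 : c⁻¹ * a * c * genB s = c⁻¹ * (a * b) * c := by rw [hb']; group
  obtain ⟨d, hd, hdb, hda⟩ := exists_conj_genA s (c⁻¹ * a * c)
    (by rw [show c⁻¹ * a * c * (c⁻¹ * a * c) = c⁻¹ * (a * a) * c by group, ha]; group)
    (by
      rw [h1, show c⁻¹ * (a * b) * c = c⁻¹ * (a * b) * c⁻¹⁻¹ by rw [inv_inv], conj_pow, hab]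
      group)
  refine ⟨s, c * d, by rw [map_mul, hc, hd]; rfl, ?_, ?_⟩
  · rw [mul_assoc c d, ← hda]; group
  · rw [← mul_assoc, hbc, mul_assoc, ← hdb, ← mul_assoc]

end CfsgLib.GLFourTwo.A5Mod
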