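import Cfsg.Agent.GLFourTwo.Iso
import Mathlib

/-!
# The two four-dimensional modules of `A₅` over the field with two elements
-/

set_option autoImplicit false

namespace CfsgLib.GLFourTwo.A5Mod

open Equiv

/-- The standard generator of order 2. -/
def genA : Bool → Perm (Fin 8)
  | false => swap 1 3 * swap 2 4
  | true => swap 2 3 * swap 4 5

/-- The standard generator of order 3. -/
def genB : Bool → Perm (Fin 8)
  | false => swap 0 1 * swap 1 2
  | true => swap 0 1 * swap 1 2 * swap 3 4 * swap 4 5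

/-- Conjugating elements. -/
def conjList : Bool → List (List (Fin 8 × Fin 8))
  | false => [
      [],
      [(4, 5), (6, 7)],
      [(4, 6), (5, 6)],
      [(4, 7), (5, 7)],
      [(3, 4), (6, 7)],
      [(3, 4), (4, 5)],
      [(3, 4), (4, 6), (5, 6), (6, 7)],
      [(3, 4), (4, 7), (5, 7), (6, 7)],
      [(3, 5), (4, 5)],
      [(3, 5), (6, 7)],
      [(3, 5), (4, 6)],
      [(3, 5), (4, 7)],
      [(3, 6), (4, 6), (5, 6), (6, 7)],
      [(3, 6), (5, 6)],
      [(3, 6), (4, 5), (5, 6), (6, 7)],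
      [(3, 6), (4, 7), (5, 6), (6, 7)],
      [(3, 7), (4, 7), (5, 7), (6, 7)],
      [(3, 7), (5, 7)],
      [(3, 7), (4, 5), (5, 7), (6, 7)],
      [(3, 7), (4, 6), (5, 7), (6, 7)],
      [(0, 1), (1, 2), (3, 4), (6, 7)],
      [(0, 1), (1, 2), (3, 5), (4, 5)],
      [(0, 1), (1, 2), (3, 6), (4, 6), (5, 6), (6, 7)],
      [(0, 1), (1, 2), (3, 7), (4, 7), (5, 7), (6, 7)],
      [(0, 2), (1, 2)],
      [(0, 2), (1, 2), (4, 5), (6, 7)],
      [(0, 2), (1, 2), (4, 6), (5, 6)],
      [(0, 2), (1, 2), (4, 7), (5, 7)],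
      [(0, 1), (1, 2)],
      [(0, 1), (1, 2), (3, 5), (6, 7)],
      [(0, 1), (1, 2), (3, 6), (5, 6)],
      [(0, 1), (1, 2), (3, 7), (5, 7)],
      [(0, 2), (1, 2), (3, 4), (6, 7)],
      [(0, 2), (1, 2), (3, 4), (4, 5)],
      [(0, 2), (1, 2), (3, 4), (4, 6), (5, 6), (6, 7)],
      [(0, 2), (1, 2), (3, 4), (4, 7), (5, 7), (6, 7)],
      [(0, 1), (1, 2), (4, 5), (6, 7)],
      [(0, 1), (1, 2), (3, 4), (4, 5)],
      [(0, 1), (1, 2), (3, 6), (4, 5), (5, 6), (6, 7)],
      [(0, 1), (1, 2), (3, 7), (4, 5), (5, 7), (6, 7)],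
      [(0, 2), (1, 2), (3, 5), (4, 5)],
      [(0, 2), (1, 2), (3, 5), (6, 7)],
      [(0, 2), (1, 2), (3, 5), (4, 6)],
      [(0, 2), (1, 2), (3, 5), (4, 7)],
      [(0, 1), (1, 2), (4, 6), (5, 6)],
      [(0, 1), (1, 2), (3, 4), (4, 6), (5, 6), (6, 7)],
      [(0, 1), (1, 2), (3, 5), (4, 6)],
      [(0, 1), (1, 2), (3, 7), (4, 6), (5, 7), (6, 7)],
      [(0, 2), (1, 2), (3, 6), (4, 6), (5, 6), (6, 7)],
      [(0, 2), (1, 2), (3, 6), (5, 6)],
      [(0, 2), (1, 2), (3, 6), (4, 5), (5, 6), (6, 7)],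
      [(0, 2), (1, 2), (3, 6), (4, 7), (5, 6), (6, 7)],
      [(0, 1), (1, 2), (4, 7), (5, 7)],
      [(0, 1), (1, 2), (3, 4), (4, 7), (5, 7), (6, 7)],
      [(0, 1), (1, 2), (3, 5), (4, 7)],
      [(0, 1), (1, 2), (3, 6), (4, 7), (5, 6), (6, 7)],
      [(0, 2), (1, 2), (3, 7), (4, 7), (5, 7), (6, 7)],
      [(0, 2), (1, 2), (3, 7), (5, 7)],
      [(0, 2), (1, 2), (3, 7), (4, 5), (5, 7), (6, 7)],
      [(0, 2), (1, 2), (3, 7), (4, 6), (5, 7), (6, 7)]]
  | true => [
      [],
      [(3, 4), (4, 5)],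
      [(3, 5), (4, 5)],
      [(0, 2), (1, 2)],
      [(0, 2), (1, 2), (3, 4), (4, 5)],
      [(0, 2), (1, 2), (3, 5), (4, 5)],
      [(0, 4), (1, 5), (2, 3), (6, 7)],
      [(0, 5), (1, 3), (2, 4), (3, 4), (4, 5), (6, 7)],
      [(0, 3), (1, 4), (2, 5), (3, 5), (4, 5), (6, 7)],
      [(0, 4), (1, 5), (2, 3), (3, 5), (4, 5), (6, 7)],
      [(0, 5), (1, 3), (2, 4), (6, 7)],
      [(0, 3), (1, 4), (2, 5), (3, 4), (4, 5), (6, 7)],
      [(0, 1), (1, 2)],
      [(0, 4), (1, 5), (2, 3), (3, 4), (4, 5), (6, 7)],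
      [(0, 1), (1, 2), (3, 4), (4, 5)],
      [(0, 5), (1, 3), (2, 4), (3, 5), (4, 5), (6, 7)],
      [(0, 1), (1, 2), (3, 5), (4, 5)],
      [(0, 3), (1, 4), (2, 5), (6, 7)]]

/-- The matrix of `genA`. -/
def matGA : Bool → Matrix (Fin 4) (Fin 4) (ZMod 2)
  | false => !![0,0,1,1; 0,1,0,0; 0,1,1,0; 1,1,1,0]
  | true => !![1,1,1,1; 0,1,0,1; 0,0,1,1; 0,0,0,1]

/-- The matrix of `genB`. -/
def matGB : Bool → Matrix (Fin 4) (Fin 4) (ZMod 2)
  | false => !![1,1,0,0; 1,0,0,0; 0,0,0,1; 0,0,1,1]
  | true => !![0,1,0,0; 1,1,0,0; 0,1,1,0; 1,0,0,1]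

/-- The permutation of the sixteen codes induced by a generator. -/
def act : Bool → Bool → Fin 16 → Fin 16
  | false, false => ![0, 8, 14, 6, 13, 5, 3, 11, 1, 9, 15, 7, 12, 4, 2, 10]
  | false, true => ![0, 3, 1, 2, 8, 11, 9, 10, 12, 15, 13, 14, 4, 7, 5, 6]
  | true, false => ![0, 1, 3, 2, 5, 4, 6, 7, 15, 14, 12, 13, 10, 11, 9, 8]
  | true, true => ![0, 10, 7, 13, 4, 14, 3, 9, 8, 2, 15, 5, 12, 6, 11, 1]

/-- For every code an orbit representative and a word leading to it. -/
def word : Bool → Fin 16 → Fin 3 × List Bool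
  | false => ![(0, []),
      (1, []),
      (1, [true, true]),
      (1, [true]),
      (1, [true, true, false]),
      (1, [true, false, true, true]),
      (1, [false, true]),
      (1, [true, false, true, true, false]),
      (1, [false]),
      (1, [true, false, true]),
      (1, [false, true, true, false, true]),
      (1, [true, true, false, true, true]),
      (1, [true, false]),
      (1, [false, true, true, false]),
      (1, [false, true, true]),
      (1, [true, true, false, true])]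
  | true => ![(0, []),
      (1, []),
      (2, []),
      (2, [false]),
      (2, [false, true, false, true, false]),
      (2, [true, false, true, false]),
      (2, [true, true, false]),
      (2, [true]),
      (1, [false, true, true]),
      (2, [true, true]),
      (1, [true]),
      (2, [false, true, false]),
      (1, [false, true]),
      (2, [true, false]),
      (2, [false, true, true]),
      (1, [true, true])]

/-- The orbit representatives. -/
def rep : Bool → Fin 3 → Fin 16
  | false => ![0, 1, 1]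
  | true => ![0, 1, 2]

/-- Codes of vectors. -/
def enc (w : Fin 4 → ZMod 2) : Fin 16 :=
  Fin.ofNat 16 ((w 0).val + 2 * (w 1).val + 4 * (w 2).val + 8 * (w 3).val)

/-- Addition of codes. -/
def xr (a b : Fin 16) : Fin 16 := Fin.ofNat 16 (Nat.xor a.val b.val)

set_option maxRecDepth 100000 in
theorem enc_injective : ∀ u w : Fin 4 → ZMod 2, enc u = enc w → u = w := by decide +kernel

set_option maxRecDepth 100000 in
theorem enc_surjective : ∀ a : Fin 16, ∃ u : Fin 4 → ZMod 2, enc u = a := by decide +kernel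

set_option maxRecDepth 100000 in
theorem enc_add : ∀ u w : Fin 4 → ZMod 2, enc (u + w) = xr (enc u) (enc w) := by decide +kernel

theorem enc_zero : enc 0 = 0 := by decide +kernel

set_option maxRecDepth 100000 in
theorem enc_mulVec : ∀ (s : Bool) (w : Fin 4 → ZMod 2),
    enc ((matGA s).mulVec w) = act s false (enc w) ∧ enc ((matGB s).mulVec w) = act s true (enc w) := by
  decide +kernel

theorem act_fixed : ∀ (s : Bool) (a : Fin 16), act s false a = a → act s true a = a → a = 0 := by
  decide +kernel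

theorem act_involution : ∀ (s : Bool) (a : Fin 16),
    act s false (act s false a) = a ∧
      (act s false a = a ↔ ∃ b, a = xr b (act s false b)) := by
  decide +kernel

theorem card_fixed : ∀ s : Bool,
    ((Finset.univ : Finset (Fin 16)).filter fun a => act s false a = a).card = 4 := by
  decide +kernel

theorem word_spec : ∀ (s : Bool) (a : Fin 16),
    (word s a).2.foldr (fun g x => act s g x) (rep s (word s a).1) = a := by
  decide +kernel

theorem rep_false : rep false 2 = rep false 1 ∧ rep false 0 = 0 ∧ rep true 0 = 0 := by decide +kernel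

/-- An equivariant map is determined by its values at the representatives. -/
theorem eq_eval {s : Bool} {β : Type*} (α : Bool → β → β) (q : Fin 16 → β)
    (heq : ∀ g a, q (act s g a) = α g (q a)) (a : Fin 16) :
    q a = (word s a).2.foldr (fun g x => α g x) (q (rep s (word s a).1)) := by
  conv_lhs => rw [← word_spec s a]
  induction (word s a).2 with
  | nil => rfl
  | cons g l ih => rw [List.foldr_cons, List.foldr_cons, heq, ih]

/-- The polar map. -/
def polar (q : Fin 16 → Fin 16) (a b : Fin 16) : Fin 16 := xr (q (xr a b)) (xr (q a) (q b))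

/-- Equal values on a plane. -/
def HasPlane (q : Fin 16 → Fin 16) : Prop :=
  ∃ a b : Fin 16, a ≠ 0 ∧ b ≠ 0 ∧ a ≠ b ∧ q a = q b ∧ q (xr a b) = q a

instance (q : Fin 16 → Fin 16) : Decidable (HasPlane q) := by unfold HasPlane; infer_instance

/-- The evaluation of a map from its values at the representatives. -/
def eval (s : Bool) (α : Bool → Fin 16 → Fin 16) (c1 c2 : Fin 16) (a : Fin 16) : Fin 16 :=
  (word s a).2.foldr (fun g x => α g x) (![0, c1, c2] (word s a).1)

/-- The quadratic condition on basis vectors. -/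
def BasisQuad (q : Fin 16 → Fin 16) : Prop :=
  ∀ i j k : Fin 4, polar q (![1, 2, 4, 8] i) (xr (![1, 2, 4, 8] j) (![1, 2, 4, 8] k)) =
    xr (polar q (![1, 2, 4, 8] i) (![1, 2, 4, 8] j)) (polar q (![1, 2, 4, 8] i) (![1, 2, 4, 8] k))

instance (q : Fin 16 → Fin 16) : Decidable (BasisQuad q) := by unfold BasisQuad; infer_instance

/-- The support of the invariant form. -/
def supp (s : Bool) (a : Fin 16) : Prop := s = true ∧ (word s a).1 = 2

instance (s : Bool) (a : Fin 16) : Decidable (supp s a) := by unfold supp; infer_instance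

set_option maxRecDepth 100000 in
theorem eval_trivial : ∀ (s : Bool) (c1 c2 : Fin 16), (s = false → c2 = c1) →
    BasisQuad (eval s (fun _ x => x) c1 c2) →
      ∀ a, eval s (fun _ x => x) c1 c2 a = if supp s a then c2 else 0 := by
  decide +kernel

theorem supp_facts : supp true 2 ∧ supp true 4 ∧ supp true (xr 2 4) ∧ supp true 14 ∧ ¬ supp true 1 ∧
    ¬ supp true (xr 14 1) ∧ ¬ supp true (xr 2 14) ∧ supp true (xr 2 1) ∧ ¬ supp true (xr 4 14) ∧
    supp true (xr 4 1) := by
  decide +kernel

theorem supp_span : ∀ a : Fin 16, ∃ i j k l : Fin 16,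
    (i = 0 ∨ i = 2) ∧ (j = 0 ∨ j = 4) ∧ (k = 0 ∨ k = 14) ∧ (l = 0 ∨ l = 1) ∧
      a = xr (xr (xr i j) k) l := by
  decide +kernel

/-- An involution on eight points, given by its values, with product of order five with a generator. -/
def Found (s : Bool) (a : Fin 8 → Fin 8) : Prop :=
  (∀ i, (fun j => a (genB s j))^[5] i = i) →
    ∃ c ∈ conjList s, ∀ i, a ((c.map fun p => swap p.1 p.2).prod i) =
      (c.map fun p => swap p.1 p.2).prod (genA s i)

instance (s : Bool) (a : Fin 8 → Fin 8) : Decidable (Found s a) := by unfold Found; infer_instance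

theorem conjList_comm : ∀ s : Bool, ∀ c ∈ conjList s,
    (∀ i, genB s ((c.map fun p => swap p.1 p.2).prod i) =
      (c.map fun p => swap p.1 p.2).prod (genB s i)) ∧
    Perm.sign ((c.map fun p => swap p.1 p.2).prod) = 1 := by
  decide +kernel

/-- Consistency of the first values of an involution. -/
def Ok (k : ℕ) (a : Fin 8 → Fin 8) : Prop :=
  ∀ i : Fin 8, i.val < k → (a i).val < k → a (a i) = i

instance (k : ℕ) (a : Fin 8 → Fin 8) : Decidable (Ok k a) := by unfold Ok; infer_instance

end CfsgLib.GLFourTwo.A5Mod
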