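import Cfsg.Agent.GLFourTwo.A5ModulesData

/-! Kernel checks on the modules of `A₅` (prefix search). -/

set_option autoImplicit false

namespace CfsgLib.GLFourTwo.A5Mod

open Equiv

/-- Evaluate `m` to a numeral before passing it on. -/
noncomputable def forceNum {α : Type} (m : ℕ) (f : ℕ → α) : α :=
  Nat.rec (f Nat.zero) (fun p _ => f (Nat.succ p)) m

theorem forceNum_eq {α : Type} (m : ℕ) (f : ℕ → α) : forceNum m f = f m := by cases m <;> rfl

/-- The `i`-th value packed in `L`. -/
def oct (L i : ℕ) : ℕ := Nat.mod (Nat.div L (Nat.pow 8 i)) 8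

/-- The first `k` values agree with an involution where both are known. -/
def okB (k L : ℕ) : Bool :=
  (List.range k).all fun i => !Nat.blt (oct L i) k || Nat.beq (oct L (oct L i)) i

/-- Every consistent extension by `r` values passes the test. -/
noncomputable def extAll (f : ℕ → Bool) : ℕ → ℕ → ℕ → Bool
  | 0, _, L => f L
  | r + 1, k, L => (List.range 8).all fun x =>
      forceNum (Nat.add L (Nat.mul x (Nat.pow 8 k))) fun L' => !okB (k + 1) L' || extAll f r (k + 1) L'

/-- The first `k` values of a map, packed. -/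
def packed (a : Fin 8 → Fin 8) : ℕ → ℕ
  | 0 => 0
  | k + 1 => packed a k + (a (Fin.ofNat 8 k)).val * 8 ^ k

theorem packed_lt (a : Fin 8 → Fin 8) : ∀ k, packed a k < 8 ^ k
  | 0 => by simp [packed]
  | k + 1 => by
    have h1 := packed_lt a k
    have h2 := (a (Fin.ofNat 8 k)).isLt
    rw [packed, pow_succ]
    nlinarith

theorem oct_packed (a : Fin 8 → Fin 8) : ∀ k i, i < k → oct (packed a k) i = (a (Fin.ofNat 8 i)).val
  | k + 1, i, hi => by
    show (packed a k + (a (Fin.ofNat 8 k)).val * 8 ^ k) / 8 ^ i % 8 = _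
    rcases Nat.lt_succ_iff_lt_or_eq.1 hi with h | rfl
    · have hk : (8 : ℕ) ^ k = 8 ^ i * (8 * 8 ^ (k - i - 1)) := by
        rw [← pow_succ', ← pow_add]; congr 1; omega
      rw [hk, show (a (Fin.ofNat 8 k)).val * (8 ^ i * (8 * 8 ^ (k - i - 1))) =
          8 ^ i * (8 * ((a (Fin.ofNat 8 k)).val * 8 ^ (k - i - 1))) by ring,
        Nat.add_mul_div_left _ _ (by positivity), Nat.add_mul_mod_self_left]
      exact oct_packed a k i h
    · rw [Nat.add_mul_div_right _ _ (by positivity), Nat.div_eq_of_lt (packed_lt a i), zero_add,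
        Nat.mod_eq_of_lt (a _).isLt]

theorem extAll_spec (f : ℕ → Bool) (a : Fin 8 → Fin 8) (ha : ∀ i, a (a i) = i) :
    ∀ r k, k + r = 8 → extAll f r k (packed a k) = true → f (packed a 8) = true := by
  intro r
  induction r with
  | zero =>
    intro k hk h
    obtain rfl : k = 8 := by omega
    exact h
  | succ r ih =>
    intro k hk h
    simp only [extAll, forceNum_eq, List.all_eq_true, List.mem_range, Bool.or_eq_true,
      Bool.not_eq_true'] at h
    have hl : Nat.add (packed a k) (Nat.mul (a (Fin.ofNat 8 k)).val (Nat.pow 8 k)) = packed a (k + 1) := rfl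
    have hk' : k + 1 + r = 8 := by omega
    rcases h (a (Fin.ofNat 8 k)).val (a _).isLt with h | h
    · exfalso
      rw [hl] at h
      apply Bool.eq_false_iff.1 h
      simp only [okB, List.all_eq_true, List.mem_range, Bool.or_eq_true, Bool.not_eq_true']
      intro i hi
      rw [oct_packed a _ i hi]
      by_cases hlt : (a (Fin.ofNat 8 i)).val < k + 1
      · right
        rw [oct_packed a _ _ hlt, Nat.beq_eq]
        have e : Fin.ofNat 8 (a (Fin.ofNat 8 i)).val = a (Fin.ofNat 8 i) :=
          Fin.ext (Nat.mod_eq_of_lt (a _).isLt)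
        rw [e, ha]
        exact Nat.mod_eq_of_lt (by omega)
      · left
        rw [Bool.eq_false_iff]
        simpa [Nat.blt_eq] using hlt
    · rw [hl] at h
      exact ih (k + 1) hk' h

end CfsgLib.GLFourTwo.A5Mod
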