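import Cfsg.Agent.GLFourTwo.A5ModulesData

/-! Kernel checks on the modules of `A₅` (A5ModulesMat). -/

set_option autoImplicit false

namespace CfsgLib.GLFourTwo.A5Mod

open Equiv

set_option maxRecDepth 100000 in
theorem mat_spec : ∀ s : Bool, (matGA s).det = 1 ∧ (matGB s).det = 1 ∧
    (∀ p q : Fin 8, matGA s * (v p + v q) * (matGA s).transpose = v (genA s p) + v (genA s q)) ∧
    ∀ p q : Fin 8, matGB s * (v p + v q) * (matGB s).transpose = v (genB s p) + v (genB s q) := by
  decide +kernel

end CfsgLib.GLFourTwo.A5Mod
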