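import Cfsg.Agent.GLFourTwo.A5ModulesExt

/-! Kernel checks on the modules of `A₅` (search, false). -/

set_option autoImplicit false

namespace CfsgLib.GLFourTwo.A5Mod

open Equiv

set_option maxRecDepth 100000 in
theorem searchB_false : extAll
    (fun L => decide (Found false fun i : Fin 8 => Fin.ofNat 8 (oct L i.val))) 8 0 0 = true := by
  decide +kernel

end CfsgLib.GLFourTwo.A5Mod
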