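import Cfsg.Agent.GLFourTwo.A5Core

/-!
# The two possible radicals
-/

set_option autoImplicit false

namespace CfsgLib.GLFourTwo

open A5Mod Cfsg
open scoped commutatorElement

theorem supp_word : ∀ a : Fin 16,
    (∀ e ∈ [(2 : Fin 16), 4, 14, 1], (supp true a ↔ supp true (xr a e)) ↔ ¬ supp true e) → a = 0 := by
  decide +kernel

theorem code_ne : xr 14 14 = 0 ∧ (∀ e ∈ [(2 : Fin 16), 4, 14, 1], e ≠ 0) ∧ xr 1 14 ≠ 0 ∧
    supp true (xr 2 1) ∧ supp true (xr 1 2) := by
  decide +kernel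

/-- The dihedral group of order 8 from generators. -/
theorem exists_dihedralHom {T : Type*} [Group T] {g h : T} (hg : g ^ 4 = 1) (hh : h * h = 1)
    (hgh : h * g = g⁻¹ * h) :
    ∃ φ : DihedralGroup 4 →* T,
      (∀ i : ZMod 4, φ (.r i) = g ^ i.val ∧ φ (.sr i) = h * g ^ i.val) ∧
      ∀ q, φ q ∈ Subgroup.closure ({g, h} : Set T) := by
  let pw : ZMod 4 → T := fun i => g ^ i.val
  have hadd : ∀ i j, pw (i + j) = pw i * pw j := fun i j => by
    show g ^ (i + j).val = g ^ i.val * g ^ j.val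
    rw [ZMod.val_add, ← pow_add]
    exact (pow_eq_pow_mod _ hg).symm
  have hsub : ∀ i j, pw (j - i) = (pw i)⁻¹ * pw j := fun i j => by
    rw [eq_inv_mul_iff_mul_eq, ← hadd, add_sub_cancel]
  have hswap : ∀ i, pw i * h = h * (pw i)⁻¹ := fun i => by
    show g ^ i.val * h = h * (g ^ i.val)⁻¹
    rw [← inv_pow]
    refine (SemiconjBy.pow_right (show SemiconjBy h g⁻¹ g from ?_) i.val).symm
    unfold SemiconjBy
    rw [mul_inv_eq_iff_eq_mul, mul_assoc, hgh, mul_inv_cancel_left]
  let f : DihedralGroup 4 → T := fun q => match q with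
    | .r i => pw i
    | .sr i => h * pw i
  refine ⟨MonoidHom.mk' f ?_, fun i => ⟨rfl, rfl⟩, ?_⟩
  · rintro (i | i) (j | j)
    · exact hadd i j
    · show h * pw (j - i) = pw i * (h * pw j)
      rw [← mul_assoc, hswap, hsub, mul_assoc]
    · show h * pw (i + j) = h * pw i * pw j
      rw [hadd, mul_assoc]
    · show pw (j - i) = h * pw i * (h * pw j)
      rw [show h * pw i * (h * pw j) = h * (pw i * h) * pw j by group, hswap, ← mul_assoc, hh,
        one_mul, hsub]
  · have hg' : g ∈ Subgroup.closure ({g, h} : Set T) := Subgroup.subset_closure (Or.inl rfl)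
    have hh' : h ∈ Subgroup.closure ({g, h} : Set T) := Subgroup.subset_closure (Or.inr rfl)
    rintro (i | i)
    · exact pow_mem hg' _
    · exact mul_mem hh' (pow_mem hg' _)

variable {X : Type*} [Group X]

/-- A layer over a subgroup of order 2 with squares given by the support is `Q₈ * D₈`. -/
theorem extraspecial [Finite X] {P N : Subgroup X} {E : ↥P → Fin 16} (L : Layer P N E) {z : X}
    (hz : z ∈ N) (hz1 : z ≠ 1) (hN : N ≤ Subgroup.zpowers z)
    (hsq : ∀ k : ↥P, (k : X) * k = if supp true (E k) then z else 1) :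
    Nat.card ↥P = 32 ∧ ∃ A B : Subgroup ↥P,
      Nonempty (↥A ≃* QuaternionGroup 2) ∧ Nonempty (↥B ≃* DihedralGroup 4) ∧
        (∀ a ∈ A, ∀ b ∈ B, a * b = b * a) ∧ A ⊔ B = ⊤ ∧ A ⊓ B = Subgroup.center ↥P := by
  classical
  have hzz : z * z = 1 := L.exp z hz
  let zP : ↥P := ⟨z, L.le hz⟩
  have hN2 : ∀ n ∈ N, n = 1 ∨ n = z := by
    intro n hn
    obtain ⟨i, rfl⟩ := Subgroup.mem_zpowers_iff.1 (hN hn)
    rcases Int.even_or_odd i with ⟨j, rfl⟩ | ⟨j, rfl⟩
    · left
      rw [← two_mul, zpow_mul, zpow_ofNat, pow_two, hzz, one_zpow]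
    · right
      rw [zpow_add, zpow_mul, zpow_ofNat, pow_two, hzz, one_zpow, one_mul, zpow_one]
  have hcN : Nat.card N = 2 := by
    rw [Nat.card_eq_two_iff]
    refine ⟨1, ⟨z, hz⟩, fun h => hz1 (congrArg Subtype.val h).symm, Set.eq_univ_of_forall fun n => ?_⟩
    rcases hN2 n n.2 with h | h
    · exact Or.inl (Subtype.ext h)
    · exact Or.inr (Subtype.ext h)
  refine ⟨by rw [L.card_eq, hcN], ?_⟩
  have hkk : ∀ k : ↥P, k * k = if supp true (E k) then zP else 1 := fun k => Subtype.ext (by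
    rw [Subgroup.coe_mul, hsq]; split <;> rfl)
  have hzP2 : zP * zP = 1 := Subtype.ext hzz
  have hzP1 : zP ≠ 1 := fun h => hz1 (congrArg Subtype.val h)
  have hzc : ∀ k : ↥P, zP * k = k * zP := fun k => Subtype.ext (L.central z hz k k.2)
  have hc : ∀ u v : ↥P,
      ((supp true (E u) ↔ supp true (xr (E u) (E v))) ↔ ¬ supp true (E v)) ↔ u * v = v * u := by
    intro u v
    have h : (u * v) * (u * v) = u * u * (v * v) * (v * u * v⁻¹ * u⁻¹) := Subtype.ext (L.sq_mul u v)
    rw [hkk, hkk, hkk, L.map_mul] at h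
    have key : ((supp true (E u) ↔ supp true (xr (E u) (E v))) ↔ ¬ supp true (E v)) ↔
        v * u * v⁻¹ * u⁻¹ = 1 := by
      generalize v * u * v⁻¹ * u⁻¹ = c at h ⊢
      by_cases h1 : supp true (E u) <;> by_cases h2 : supp true (E v) <;>
        by_cases h3 : supp true (xr (E u) (E v)) <;>
        simp only [h1, h2, h3, ↓reduceIte, one_mul, mul_one, hzP2, iff_self, not_true_eq_false,
          not_false_iff, iff_false, false_iff, iff_true, true_iff] at h ⊢
      all_goals
        first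
        | exact h.symm
        | exact left_eq_mul.1 h
        | (rintro rfl; exact hzP1 h)
        | (rintro rfl; exact hzP1 h.symm)
        | (rintro rfl; rw [mul_one] at h; exact hzP1 h)
        | (rintro rfl; rw [mul_one] at h; exact hzP1 h.symm)
    rw [key]
    constructor
    · intro h1
      calc u * v = 1 * (u * v) := (one_mul _).symm
        _ = v * u := by rw [← h1]; group
    · intro huv
      rw [← huv]
      group
  have hcen : ∀ k : ↥P, (k : X) ∈ N → k ∈ Subgroup.center ↥P := fun k hk => by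
    rw [Subgroup.mem_center_iff]
    exact fun w => Subtype.ext (L.central _ hk _ w.2).symm
  obtain ⟨sf1, sf2, sf3, sf4, sf5, sf6, sf7, sf8, sf9, sf10⟩ := supp_facts
  obtain ⟨u1, hu1⟩ := L.surj 2
  obtain ⟨u2, hu2⟩ := L.surj 4
  obtain ⟨g, hg⟩ := L.surj 14
  obtain ⟨h, hh⟩ := L.surj 1
  have q1 : u1 * u1 = zP := by rw [hkk, hu1, if_pos sf1]
  have q2 : u2 * u2 = zP := by rw [hkk, hu2, if_pos sf2]
  have qg : g * g = zP := by rw [hkk, hg, if_pos sf4]
  have qh : h * h = 1 := by rw [hkk, hh, if_neg sf5]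
  have c1g : u1 * g = g * u1 := (hc u1 g).1 (by rw [hu1, hg]; simp only [sf1, sf4, sf7]; tauto)
  have c1h : u1 * h = h * u1 := (hc u1 h).1 (by rw [hu1, hh]; simp only [sf1, sf5, sf8]; tauto)
  have c2g : u2 * g = g * u2 := (hc u2 g).1 (by rw [hu2, hg]; simp only [sf2, sf4, sf9]; tauto)
  have c2h : u2 * h = h * u2 := (hc u2 h).1 (by rw [hu2, hh]; simp only [sf2, sf5, sf10]; tauto)
  have n12 : u1 * u2 ≠ u2 * u1 := fun e => by
    have := (hc u1 u2).2 e
    rw [hu1, hu2] at this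
    simp only [sf1, sf2, sf3] at this
    tauto
  have ngh : g * h ≠ h * g := fun e => by
    have := (hc g h).2 e
    rw [hg, hh] at this
    simp only [sf4, sf5, sf6] at this
    tauto
  have hswap : ∀ u v : ↥P, u * u = zP → u * v ≠ v * u → v * u = u⁻¹ * v := by
    intro u v hu hne
    have hm := L.commutator_mem v u
    rcases hN2 _ hm with h1 | h1
    · exact absurd (Subtype.ext (by
        rw [Subgroup.coe_mul, Subgroup.coe_mul]
        calc (u : X) * v = 1 * ((u : X) * v) := (one_mul _).symm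
          _ = (v : X) * u := by rw [← h1]; group) : u * v = v * u) hne
    · have h2 : v * u * v⁻¹ * u⁻¹ = zP := Subtype.ext h1
      have h3 : u⁻¹ = zP * u := by
        rw [inv_eq_iff_mul_eq_one, ← mul_assoc, ← hzc, mul_assoc, hu, hzP2]
      rw [h3, ← h2]
      group
  have hg4 : ∀ u : ↥P, u * u = zP → u ^ 4 = 1 := fun u hu => by
    rw [show (4 : ℕ) = 2 * 2 from rfl, pow_mul, pow_two, pow_two, hu, hzP2]
  obtain ⟨φ, hφ, hφ1, hφ2, hφc⟩ := Cfsg.Agent.S3157.exists_quaternionHom (hg4 u1 q1)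
    (q2.trans q1.symm) (hswap u1 u2 q1 n12) (by rw [q1]; exact hzP1) n12
  obtain ⟨ψ, hψv, hψc⟩ := exists_dihedralHom (hg4 g qg) qh (hswap g h qg ngh)
  have hψ : Function.Injective ψ := by
    rw [← MonoidHom.ker_eq_bot_iff, eq_bot_iff]
    intro q hq
    rw [MonoidHom.mem_ker] at hq
    have e0 : E (g ^ 2) = 0 := by rw [pow_two, qg]; exact (L.eq_zero _).2 hz
    have e14 : ∀ n, n = 1 ∨ n = 3 → E (g ^ n) = 14 := by
      rintro n (rfl | rfl)
      · rw [pow_one, hg]
      · rw [show g ^ 3 = g ^ 2 * g from pow_succ g 2, L.map_mul, e0, hg, (xr_facts.1 _).2.1]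
    have key : ∀ n < 4, (g ^ n = 1 → n = 0) ∧ h * g ^ n ≠ 1 := by
      intro n hn
      refine ⟨fun e => ?_, fun e => ?_⟩
      · interval_cases n
        · rfl
        · exact absurd ((e14 1 (Or.inl rfl)).symm.trans (e ▸ L.E_one)) (by decide)
        · exact absurd ((pow_two g).symm.trans e) (qg ▸ hzP1)
        · exact absurd ((e14 3 (Or.inr rfl)).symm.trans (e ▸ L.E_one)) (by decide)
      · have e1 := congrArg E e
        rw [L.map_mul, hh, L.E_one] at e1
        interval_cases n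
        · rw [pow_zero, L.E_one] at e1; exact absurd e1 (by decide +kernel)
        · rw [e14 1 (Or.inl rfl)] at e1; exact code_ne.2.2.1 e1
        · rw [e0] at e1; exact absurd e1 (by decide +kernel)
        · rw [e14 3 (Or.inr rfl)] at e1; exact code_ne.2.2.1 e1
    rcases q with i | i
    · rw [(hψv i).1] at hq
      have h0 := (key i.val (ZMod.val_lt i)).1 hq
      rw [Subgroup.mem_bot, (ZMod.val_eq_zero i).1 h0]
      rfl
    · rw [(hψv i).2] at hq
      exact absurd hq (key i.val (ZMod.val_lt i)).2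
  set A := Subgroup.closure ({u1, u2} : Set ↥P) with hA
  set B := Subgroup.closure ({g, h} : Set ↥P) with hB
  have hrA : φ.range = A := le_antisymm (by rintro _ ⟨q, rfl⟩; exact hφc q)
    ((Subgroup.closure_le _).2 (by rintro u (rfl | rfl); exacts [⟨_, hφ1⟩, ⟨_, hφ2⟩]))
  have hrB : ψ.range = B := le_antisymm (by rintro _ ⟨q, rfl⟩; exact hψc q)
    ((Subgroup.closure_le _).2 (by
      rintro u (rfl | rfl)
      · exact ⟨.r 1, by rw [(hψv 1).1]; exact pow_one _⟩
      · exact ⟨.sr 0, by rw [(hψv 0).2]; simp⟩))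
  have hAB : ∀ a ∈ A, ∀ b ∈ B, a * b = b * a := by
    have h1 : B ≤ Subgroup.centralizer (A : Set ↥P) := by
      rw [hA, Subgroup.centralizer_closure]
      refine (Subgroup.closure_le _).2 ?_
      rintro b (rfl | rfl) <;> rw [SetLike.mem_coe, Subgroup.mem_centralizer_iff] <;>
        rintro a (rfl | rfl)
      exacts [c1g, c2g, c1h, c2h]
    exact fun a ha b hb => Subgroup.mem_centralizer_iff.1 (h1 hb) a ha
  have hzA : zP ∈ A := q1 ▸ mul_mem (Subgroup.subset_closure (Or.inl rfl))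
    (Subgroup.subset_closure (Or.inl rfl))
  have hzB : zP ∈ B := qg ▸ mul_mem (Subgroup.subset_closure (Or.inl rfl))
    (Subgroup.subset_closure (Or.inl rfl))
  have hnN : ∀ k : ↥P, (k : X) ∈ N → k ∈ A ∧ k ∈ B := fun k hk => by
    rcases hN2 _ hk with h1 | h1
    · rw [show k = 1 from Subtype.ext h1]; exact ⟨one_mem _, one_mem _⟩
    · rw [show k = zP from Subtype.ext h1]; exact ⟨hzA, hzB⟩
  have htop : A ⊔ B = ⊤ := by
    rw [eq_top_iff]
    intro k _
    have hEmem : ∀ (i : Fin 16) (v : ↥P), E v = i → v ∈ A ⊔ B → ∀ a : Fin 16, a = 0 ∨ a = i →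
        ∃ w ∈ A ⊔ B, E w = a := by
      intro i v hv hvm a ha
      rcases ha with rfl | rfl
      · exact ⟨1, one_mem _, L.E_one⟩
      · exact ⟨v, hvm, hv⟩
    obtain ⟨i, j, l, m, hi, hj, hl, hm, e⟩ := supp_span (E k)
    obtain ⟨w1, m1, e1⟩ := hEmem 2 u1 hu1
      (Subgroup.mem_sup_left (Subgroup.subset_closure (Or.inl rfl))) i hi
    obtain ⟨w2, m2, e2⟩ := hEmem 4 u2 hu2
      (Subgroup.mem_sup_left (Subgroup.subset_closure (Or.inr rfl))) j hj
    obtain ⟨w3, m3, e3⟩ := hEmem 14 g hg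
      (Subgroup.mem_sup_right (Subgroup.subset_closure (Or.inl rfl))) l hl
    obtain ⟨w4, m4, e4⟩ := hEmem 1 h hh
      (Subgroup.mem_sup_right (Subgroup.subset_closure (Or.inr rfl))) m hm
    set w := w1 * w2 * w3 * w4
    have hw : E w = E k := by rw [e, L.map_mul, L.map_mul, L.map_mul, e1, e2, e3, e4]
    have h0 : E (w⁻¹ * k) = 0 := by
      have h1 := L.map_mul w (w⁻¹ * k)
      rw [mul_inv_cancel_left, hw] at h1
      have h2 := congrArg (xr (E k)) h1
      rw [(xr_facts.1 _).1, ← xr_facts.2.2.2, (xr_facts.1 _).1, (xr_facts.1 _).2.1] at h2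
      exact h2.symm
    have := mul_mem (mul_mem (mul_mem (mul_mem m1 m2) m3) m4)
      (Subgroup.mem_sup_left (hnN _ ((L.eq_zero _).1 h0)).1 : w⁻¹ * k ∈ A ⊔ B)
    rwa [mul_inv_cancel_left] at this
  refine ⟨A, B, ⟨(MulEquiv.subgroupCongr hrA.symm).trans (MonoidHom.ofInjective hφ).symm⟩,
    ⟨(MulEquiv.subgroupCongr hrB.symm).trans (MonoidHom.ofInjective hψ).symm⟩, hAB, htop,
    le_antisymm ?_ ?_⟩
  · rintro k ⟨hkA, hkB⟩
    have h1 : A ⊔ B ≤ Subgroup.centralizer {k} := by
      refine sup_le (fun a ha => ?_) (fun b hb => ?_) <;>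
        rw [Subgroup.mem_centralizer_iff] <;> rintro _ rfl
      · exact (hAB a ha _ hkB).symm
      · exact hAB _ hkA b hb
    rw [Subgroup.mem_center_iff]
    intro w
    exact (Subgroup.mem_centralizer_iff.1 (h1 (htop.symm ▸ Subgroup.mem_top w)) k rfl).symm
  · intro k hk
    rw [Subgroup.mem_center_iff] at hk
    refine hnN k ((L.eq_zero k).1 (supp_word _ ?_))
    intro e he
    obtain ⟨v, rfl⟩ := L.surj e
    exact (hc k v).2 (hk v).symm

end CfsgLib.GLFourTwo
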