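import Cfsg.Agent.GLFourTwo.Subgroups

/-!
# Non-solvable transitive groups of degree seven
-/

set_option autoImplicit false

namespace CfsgLib.GLFourTwo

open Equiv
open scoped Pointwise

/-- Negation on seven points. -/
def neg7 : Perm (ZMod 7) where
  toFun i := -i
  invFun i := -i
  left_inv i := neg_neg i
  right_inv i := neg_neg i

/-- A transvection in a labelling. -/
def tv7 : Bool → Perm (ZMod 7)
  | false => swap 1 3 * swap 4 5
  | true => swap 6 4 * swap 3 2

theorem tv7_lab : ∀ (s : Bool) (i : ZMod 7),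
    (matOf s (tv7 s)).mulVec (lab s i) = lab s (tv7 s i) := by decide +kernel

theorem tv7_sq : ∀ s : Bool, tv7 s ^ 2 = 1 := by decide +kernel

theorem neg_tv7 : ∀ s : Bool, ∃ i j k, lab s i + lab s j = lab s k ∧
    lab s ((neg7 * tv7 s * neg7⁻¹) i) + lab s ((neg7 * tv7 s * neg7⁻¹) j) ≠
      lab s ((neg7 * tv7 s * neg7⁻¹) k) := by
  decide +kernel

theorem neg_not_normalize (s : Bool) : ∃ π ∈ linSub s, neg7 * π * neg7⁻¹ ∉ linSub s := by
  refine ⟨tv7 s, mem_linSub (tv7_lab s) 1 (tv7_sq s), fun ⟨A, hA⟩ => ?_⟩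
  obtain ⟨i, j, k, h, hne⟩ := neg_tv7 s
  exact hne (by rw [← hA, ← hA, ← hA, ← Matrix.mulVec_add, h])

theorem mul_cases : ∀ m : ZMod 7, m = 0 ∨ (∃ j : Fin 3, ∀ i, (dbl7 ^ j.val) (m * i) = -i) ∨
    ∃ j : Fin 3, ∀ i, (dbl7 ^ j.val) i = m * i := by decide +kernel

theorem sign_dbl7 : Perm.sign dbl7 = 1 := by decide +kernel

/-- A group with an odd permutation cannot normalise a simple subgroup of order 168 on seven points. -/
theorem false_of_odd_normalizer (K : Subgroup (Perm (ZMod 7))) [IsSimpleGroup K]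
    (hK : Nat.card K = 168) (hc : cyc7 ∈ K) (hKA : K ≤ alternatingGroup (ZMod 7))
    (h : Perm (ZMod 7)) (hodd : Perm.sign h = -1) (hn : ∀ π, π ∈ K ↔ h * π * h⁻¹ ∈ K) : False := by
  classical
  haveI : Fact (Nat.Prime 7) := ⟨by norm_num⟩
  have hc7 : orderOf cyc7 = 7 := by
    refine orderOf_eq_prime ?_ (by decide)
    exact Equiv.ext fun i => by rw [cyc7_pow]; revert i; decide
  have hfac : (Nat.card K).factorization 7 = 1 := by
    rw [hK, show (168 : ℕ) = 7 ^ 1 * 24 from rfl, Nat.factorization_mul (by norm_num) (by norm_num),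
      Finsupp.add_apply, Nat.factorization_pow_self (by norm_num : Nat.Prime 7),
      Nat.factorization_eq_zero_of_not_dvd (by norm_num : ¬ 7 ∣ 24)]
  let x : K := ⟨cyc7, hc⟩
  let y : K := ⟨h * cyc7 * h⁻¹, (hn _).1 hc⟩
  have hyo : orderOf y = 7 := by
    refine (Subgroup.orderOf_coe y).symm.trans ?_
    exact (orderOf_injective (MulAut.conj h).toMonoidHom (MulAut.conj h).injective cyc7).trans hc7
  let P : Sylow 7 K := Sylow.ofCard (Subgroup.zpowers x) (by
    rw [hfac, Nat.card_zpowers, Subgroup.orderOf_mk, hc7]; rfl)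
  let Q : Sylow 7 K := Sylow.ofCard (Subgroup.zpowers y) (by
    rw [hfac, Nat.card_zpowers, hyo]; rfl)
  obtain ⟨k, hk⟩ := MulAction.exists_smul_eq K Q P
  have hmem : k * y * k⁻¹ ∈ Subgroup.zpowers x := by
    have h1 : k * y * k⁻¹ ∈ (k • Q : Sylow 7 K) := by
      show k * y * k⁻¹ ∈ MulAut.conj k • (Subgroup.zpowers y)
      exact Subgroup.smul_mem_pointwise_smul _ _ _ (Subgroup.mem_zpowers y)
    rw [hk] at h1
    exact h1
  obtain ⟨n, hn'⟩ := (Submonoid.mem_powers_iff _ _).1 (mem_powers_iff_mem_zpowers.2 hmem)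
  set g : Perm (ZMod 7) := (k : Perm (ZMod 7)) * h with hg
  have hgc : g * cyc7 * g⁻¹ = cyc7 ^ n := by
    have := congrArg Subtype.val hn'
    simp only [x, y, SubgroupClass.coe_pow, Subgroup.coe_mul, Subgroup.coe_inv] at this
    rw [this, hg]
    group
  have haff : ∀ i, g (i + 1) = g i + (n : ZMod 7) := fun i => by
    have h1 := DFunLike.congr_fun hgc (g i)
    rw [Perm.mul_apply, Perm.mul_apply, show g⁻¹ (g i) = i from g.symm_apply_apply i, cyc7_pow] at h1
    exact h1
  have haff' : ∀ i, g i = (n : ZMod 7) * i + g 0 := by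
    intro i
    have : ∀ m : ℕ, g (m : ZMod 7) = (n : ZMod 7) * m + g 0 := by
      intro m
      induction m with
      | zero => simp
      | succ m ih => rw [Nat.cast_succ, haff, ih]; ring
    simpa using this i.val
  -- remove the translation part
  set u : Perm (ZMod 7) := cyc7 ^ (-g 0).val * g with hu
  have huK : cyc7 ^ (-g 0).val ∈ K := K.pow_mem hc _
  have hun : ∀ π, π ∈ K → u * π * u⁻¹ ∈ K := fun π hπ => by
    have h1 : (k : Perm (ZMod 7)) * (h * π * h⁻¹) * (k : Perm (ZMod 7))⁻¹ ∈ K :=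
      K.mul_mem (K.mul_mem k.2 ((hn π).1 hπ)) (K.inv_mem k.2)
    convert K.mul_mem (K.mul_mem huK h1) (K.inv_mem huK) using 1
    rw [hu, hg]; group
  have hui : ∀ i, u i = (n : ZMod 7) * i := fun i => by
    rw [hu, Perm.mul_apply, cyc7_pow, haff', ZMod.natCast_zmod_val]
    ring
  have hus : Perm.sign u = -1 := by
    rw [hu, hg, map_mul, map_mul, Perm.mem_alternatingGroup.1 (hKA huK),
      Perm.mem_alternatingGroup.1 (hKA k.2), hodd]
    rfl
  obtain ⟨s, hs⟩ := exists_flag K hK hc
  have hdK : dbl7 ∈ K := by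
    rw [hs]
    exact mem_linSub (lab_dbl s) 2 (by decide +kernel)
  rcases mul_cases (n : ZMod 7) with h0 | ⟨j, hj⟩ | ⟨j, hj⟩
  · have h01 : (0 : ZMod 7) = 1 := u.injective ((hui 0).trans (by rw [h0, zero_mul, hui 1, h0, zero_mul]))
    exact zero_ne_one h01
  · obtain ⟨π, hπ, hπn⟩ := neg_not_normalize s
    refine hπn ?_
    have h1 : neg7 = dbl7 ^ j.val * u := Equiv.ext fun i => by
      rw [Perm.mul_apply, hui, hj]; rfl
    rw [← hs] at hπ ⊢
    rw [h1]
    convert K.mul_mem (K.mul_mem (K.pow_mem hdK j.val) (hun π hπ)) (K.inv_mem (K.pow_mem hdK j.val))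
      using 1
    group
  · have h1 : u = dbl7 ^ j.val := Equiv.ext fun i => by rw [hui, hj]
    rw [h1, map_pow, sign_dbl7, one_pow] at hus
    exact absurd hus (by decide)

/-- Non-solvable transitive groups of degree seven not containing the alternating group. -/
theorem degree_seven {α : Type*} [Fintype α] [DecidableEq α] (hα : Fintype.card α = 7)
    (G : Subgroup (Perm α)) [MulAction.IsPretransitive G α] (hG : ¬ Group.IsSolvable G)
    (hA : ¬ alternatingGroup α ≤ G) : Nat.card G = 168 ∧ IsSimpleGroup G := by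
  classical
  haveI : Fact (Nat.Prime 7) := ⟨by norm_num⟩
  haveI : Nonempty α := Fintype.card_pos_iff.1 (by omega)
  haveI : Nontrivial α := Fintype.one_lt_card_iff_nontrivial.1 (by omega)
  let f : G →* ℤˣ := Perm.sign.comp G.subtype
  have h7G : 7 ∣ Nat.card G := by
    rw [← hα, ← Nat.card_eq_fintype_card,
      ← MulAction.index_stabilizer_of_transitive G (Classical.arbitrary α)]
    exact Subgroup.index_dvd_card _
  set K := f.ker.map G.subtype with hKdef
  have hKA : K ≤ alternatingGroup α := by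
    rintro _ ⟨k, hk, rfl⟩
    exact Perm.mem_alternatingGroup.2 hk
  have hKG : K ≤ G := Subgroup.map_subtype_le _
  have hKc : Nat.card K = Nat.card f.ker := Subgroup.card_map_of_injective G.subtype_injective
  have hr : Nat.card f.range ∣ 2 := by
    refine (Subgroup.card_subgroup_dvd_card _).trans (dvd_of_eq ?_)
    rw [Nat.card_eq_fintype_card, Fintype.card_units_int]
  have hmul : Nat.card f.range * Nat.card f.ker = Nat.card G := by
    rw [← Nat.card_congr (QuotientGroup.quotientKerEquivRange f).toEquiv]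
    exact (Subgroup.card_eq_card_quotient_mul_card_subgroup _).symm
  have hns : ¬ Group.IsSolvable K := fun h => by
    refine hG (solvable_extension f.ker ?_ ?_)
    · exact Group.isSolvable_of_isSolvable_injective
        (f := (f.ker.equivMapOfInjective _ G.subtype_injective).toMonoidHom) (MulEquiv.injective _)
    · exact Group.isSolvable_of_isSolvable_injective
        (f := (QuotientGroup.quotientKerEquivRange f).toMonoidHom) (MulEquiv.injective _)
  have h7K : 7 ∣ Nat.card K := by
    rw [hKc]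
    rw [← hmul] at h7G
    rcases (Nat.Prime.dvd_mul (by norm_num)).1 h7G with h | h
    · exact absurd (h.trans hr) (by norm_num)
    · exact h
  have hK168 : Nat.card K = 168 := by
    rcases card_of_seven_dvd hα K hKA h7K with h | h | h | h
    · exact absurd (solvable_paqb 7 7 1 0 (by norm_num) (by norm_num) (by rw [h]; norm_num)) hns
    · exact absurd (solvable_paqb 3 7 1 1 Nat.prime_three (by norm_num) (by rw [h]; norm_num)) hns
    · exact h
    · have h2 := two_mul_nat_card_alternatingGroup (α := α)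
      rw [Nat.card_perm, Nat.card_eq_fintype_card (α := α), hα,
        show (7 : ℕ).factorial = 5040 from rfl] at h2
      exact absurd ((Subgroup.eq_of_le_of_card_ge hKA (by omega)) ▸ hKG) hA
  haveI hKsimp : IsSimpleGroup K := simple_of_small hns (Or.inl hK168)
  rcases (Nat.dvd_prime Nat.prime_two).1 hr with h | h
  · have heq : K = G := Subgroup.eq_of_le_of_card_ge hKG
      (by rw [← hmul, h, one_mul, ← hKc])
    exact ⟨heq ▸ hK168, heq ▸ hKsimp⟩
  · exfalso
    obtain ⟨g, hg⟩ : ∃ g : G, f g = -1 := by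
      by_contra hh
      push Not at hh
      have : f.range = ⊥ := (Subgroup.eq_bot_iff_forall _).2 fun u hu => by
        obtain ⟨x, rfl⟩ := hu
        exact (Int.units_eq_one_or _).resolve_right (hh x)
      rw [this, Subgroup.card_bot] at h
      omega
    obtain ⟨x, hx⟩ := exists_prime_orderOf_dvd_card' (G := K) 7 h7K
    have hx' : orderOf (x : Perm α) = 7 := by rw [Subgroup.orderOf_coe, hx]
    obtain ⟨e, he⟩ := CfsgLib.Perm.PrimeDegree.exists_coord (p := 7) hα (g := (x : Perm α))
      (fun h => by rw [h, orderOf_one] at hx'; omega) (orderOf_dvd_iff_pow_eq_one.1 (dvd_of_eq hx'))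
    let ψ := (e.symm : α ≃ ZMod 7).permCongrHom
    have hsign : ∀ π, Perm.sign (ψ π) = Perm.sign π := fun π => Equiv.Perm.sign_permCongr _ π
    haveI : IsSimpleGroup (K.map ψ.toMonoidHom) :=
      (K.equivMapOfInjective _ ψ.injective).symm.isSimpleGroup
    refine false_of_odd_normalizer (K.map ψ.toMonoidHom) ?_ ?_ ?_ (ψ g) ?_ ?_
    · rw [Subgroup.card_map_of_injective (f := ψ.toMonoidHom) ψ.injective, hK168]
    · exact ⟨x, x.2, Equiv.ext fun i => by
        show e.symm ((x : Perm α) (e i)) = i + 1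
        rw [he]
        exact e.symm_apply_apply _⟩
    · rintro _ ⟨π, hπ, rfl⟩
      rw [Perm.mem_alternatingGroup]
      exact (hsign π).trans (Perm.mem_alternatingGroup.1 (hKA hπ))
    · exact (hsign _).trans hg
    · have hstab : ∀ y : G, ∀ π, π ∈ K → (y : Perm α) * π * (y : Perm α)⁻¹ ∈ K := by
        rintro y _ ⟨k, hk, rfl⟩
        exact ⟨y * k * y⁻¹, (inferInstance : f.ker.Normal).conj_mem k hk y, rfl⟩
      intro π
      constructor
      · rintro ⟨π₀, hπ₀, rfl⟩
        exact ⟨_, hstab g π₀ hπ₀, by simp⟩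
      · rintro ⟨π₀, hπ₀, h₀⟩
        refine ⟨_, hstab g⁻¹ π₀ hπ₀, ?_⟩
        have h₁ : π = (ψ g)⁻¹ * ψ π₀ * ψ g := by
          rw [show ψ π₀ = ψ g * π * (ψ g)⁻¹ from h₀]; group
        rw [h₁]
        simp [mul_assoc]

end CfsgLib.GLFourTwo
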