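import Mathlib

/-!
# Restriction of permutation groups to invariant sets; orbits of elements of prime order
-/

set_option autoImplicit false

namespace CfsgLib.GLFourTwo

open Equiv MulAction

variable {α : Type*} {H : Subgroup (Perm α)}

/-- The action of `H` on an invariant set. -/
def restrictHom (H : Subgroup (Perm α)) (p : α → Prop) (hp : ∀ h : H, ∀ y, p ((h : Perm α) y) ↔ p y) :
    H →* Perm {y // p y} :=
  MonoidHom.mk' (fun h => (h : Perm α).subtypePerm (hp h)) fun _ _ => Equiv.ext fun _ => Subtype.ext rfl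

theorem restrictHom_ker {p : α → Prop} (hp : ∀ h : H, ∀ y, p ((h : Perm α) y) ↔ p y) {h : H}
    (hh : h ∈ (restrictHom H p hp).ker) (y : α) (hy : p y) : (h : Perm α) y = y :=
  congrArg Subtype.val (DFunLike.congr_fun (MonoidHom.mem_ker.1 hh) (⟨y, hy⟩ : {y // p y}))

theorem restrictHom_injective {p : α → Prop} (hp : ∀ h : H, ∀ y, p ((h : Perm α) y) ↔ p y)
    (hrest : ∀ h : H, ∀ y, ¬ p y → (h : Perm α) y = y) : Function.Injective (restrictHom H p hp) := by
  rw [← MonoidHom.ker_eq_bot_iff, eq_bot_iff]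
  intro h hh
  rw [Subgroup.mem_bot]
  refine Subtype.ext (Equiv.ext fun y => ?_)
  by_cases hy : p y
  · exact restrictHom_ker hp hh y hy
  · exact hrest h y hy

theorem restrictHom_range_le [Fintype α] [DecidableEq α] (hA : H ≤ alternatingGroup α)
    {p : α → Prop} [DecidablePred p] (hp : ∀ h : H, ∀ y, p ((h : Perm α) y) ↔ p y)
    (hrest : ∀ h : H, ∀ y, ¬ p y → (h : Perm α) y = y) :
    (restrictHom H p hp).range ≤ alternatingGroup {y // p y} := by
  rintro _ ⟨h, rfl⟩
  rw [Equiv.Perm.mem_alternatingGroup]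
  show Perm.sign ((h : Perm α).subtypePerm (hp h)) = 1
  rw [Equiv.Perm.sign_subtypePerm _ _ fun y hy => not_not.1 fun hny => hy (hrest h y hny)]
  exact Equiv.Perm.mem_alternatingGroup.1 (hA h.2)

/-- The kernel of a restriction embeds in the alternating group on the rest. -/
theorem card_restrictHom_ker_dvd [Fintype α] [DecidableEq α] (hA : H ≤ alternatingGroup α)
    (p : α → Prop) [DecidablePred p] (hp : ∀ h : H, ∀ y, p ((h : Perm α) y) ↔ p y) :
    Nat.card (restrictHom H p hp).ker ∣ Nat.card (alternatingGroup {y // ¬ p y}) := by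
  set K := (restrictHom H p hp).ker
  let f : K →* Perm {y // ¬ p y} :=
    (restrictHom H (fun y => ¬ p y) (fun h y => (hp h y).not)).comp K.subtype
  have hfA : ∀ k : K, f k ∈ alternatingGroup {y // ¬ p y} := fun k => by
    rw [Equiv.Perm.mem_alternatingGroup]
    show Perm.sign (((k : H) : Perm α).subtypePerm (fun y => (hp k y).not)) = 1
    refine Eq.trans ?_ (Equiv.Perm.mem_alternatingGroup.1 (hA (k : H).2))
    convert Equiv.Perm.sign_subtypePerm ((k : H) : Perm α) (p := fun y => ¬ p y)
      (fun y => (hp k y).not) (fun y hy hpy => hy (restrictHom_ker hp k.2 y hpy)) using 3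
  have hf : Function.Injective f := by
    intro k k' h
    refine Subtype.ext (Subtype.ext (Equiv.ext fun y => ?_))
    by_cases hy : p y
    · rw [restrictHom_ker hp k.2 y hy, restrictHom_ker hp k'.2 y hy]
    · exact congrArg Subtype.val (DFunLike.congr_fun h ⟨y, hy⟩)
  exact Subgroup.card_dvd_of_injective (f.codRestrict _ hfA)
    fun k k' h => hf (congrArg Subtype.val h)

/-- The orbit of a moved point under an element of prime order. -/
theorem ncard_orbit_of_prime [Finite α] {g : Perm α} {p : ℕ} (hp : p.Prime) (hg : orderOf g = p)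
    {a : α} (ha : g a ≠ a) : (orbit (Subgroup.zpowers g) a).ncard = p := by
  have h : (orbit (Subgroup.zpowers g) a).ncard ∣ p := by
    rw [← index_stabilizer, ← hg, ← Nat.card_zpowers]
    exact Subgroup.index_dvd_card _
  rcases (Nat.dvd_prime hp).1 h with h1 | h1
  · exfalso
    obtain ⟨b, hb⟩ := Set.ncard_eq_one.1 h1
    have ha1 : a ∈ orbit (Subgroup.zpowers g) a := mem_orbit_self a
    have ha2 : g a ∈ orbit (Subgroup.zpowers g) a := ⟨⟨g, Subgroup.mem_zpowers g⟩, rfl⟩
    rw [hb, Set.mem_singleton_iff] at ha1 ha2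
    exact ha (ha2.trans ha1.symm)
  · exact h1

/-- An element of prime order `p > |α| / 2` moves just one orbit. -/
theorem mem_orbit_iff_moved [Finite α] {g : Perm α} {p : ℕ} (hp : p.Prime) (hg : orderOf g = p)
    (hbig : Nat.card α < 2 * p) {a : α} (ha : g a ≠ a) (b : α) :
    b ∈ orbit (Subgroup.zpowers g) a ↔ g b ≠ b := by
  constructor
  · rintro ⟨⟨π, hπ⟩, rfl⟩ hfix
    obtain ⟨k, rfl⟩ := Subgroup.mem_zpowers_iff.1 hπ
    refine ha ((g ^ k).injective ?_)
    have h := DFunLike.congr_fun ((Commute.refl g).zpow_right k).eq a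
    rw [Perm.mul_apply, Perm.mul_apply] at h
    rw [← h]
    exact hfix
  · intro hb
    by_contra hmem
    have hdisj : Disjoint (orbit (Subgroup.zpowers g) a) (orbit (Subgroup.zpowers g) b) := by
      rw [Set.disjoint_left]
      intro c hc hc'
      refine hmem ?_
      rw [← orbit_eq_iff.2 hc, orbit_eq_iff.2 hc']
      exact mem_orbit_self b
    have h := Set.ncard_union_eq hdisj (Set.toFinite _) (Set.toFinite _)
    rw [ncard_orbit_of_prime hp hg ha, ncard_orbit_of_prime hp hg hb] at h
    have h2 := Set.ncard_le_card (orbit (Subgroup.zpowers g) a ∪ orbit (Subgroup.zpowers g) b)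
    omega

end CfsgLib.GLFourTwo
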