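import Cfsg.Agent.GLFourTwo.SubgroupsSeven
import Cfsg.Agent.GLFourTwo.Restrict
import Cfsg.Agent.PLocal.Cores
import Mathlib

/-!
# Transitive subgroups of order 1344 of `A₈` are affine
-/

set_option autoImplicit false

namespace CfsgLib.GLFourTwo

open Equiv MulAction Cfsg Matrix

/-- A subgroup of order 168 of `A₇` is simple. -/
theorem simple_of_card_168 (K : Subgroup (Perm (ZMod 7))) (hA : K ≤ alternatingGroup (ZMod 7))
    (hc : cyc7 ∈ K) (h168 : Nat.card K = 168) : IsSimpleGroup K := by
  classical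
  haveI : Fact (Nat.Prime 7) := ⟨by norm_num⟩
  haveI : Nontrivial K := Finite.one_lt_card_iff_nontrivial.1 (by omega)
  haveI : IsPretransitive K (ZMod 7) := ⟨fun i j => ⟨⟨cyc7 ^ (j - i).val, pow_mem hc _⟩, by
    show (cyc7 ^ (j - i).val) i = j
    rw [cyc7_pow, ZMod.natCast_zmod_val, add_sub_cancel]⟩⟩
  refine ⟨fun L hL => ?_⟩
  by_contra hcon
  push Not at hcon
  obtain ⟨hL1, hL2⟩ := hcon
  have h7 : 7 ∣ Nat.card L := by
    by_contra h7
    refine hL1 (normal_eq_bot_of_coprime K L ?_)
    rw [Nat.card_eq_fintype_card (α := ZMod 7), ZMod.card]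
    exact ((Nat.Prime.coprime_iff_not_dvd (by norm_num)).2 h7).symm
  set L' : Subgroup (Perm (ZMod 7)) := L.map K.subtype
  have hL' : Nat.card L' = Nat.card L := Subgroup.card_map_of_injective K.subtype_injective
  have hlt : Nat.card L < 168 := by
    rw [← h168]
    refine lt_of_le_of_ne (Nat.le_of_dvd Nat.card_pos L.card_subgroup_dvd_card) fun h => hL2 ?_
    exact Subgroup.eq_top_of_card_eq L h
  have hlist := card_of_seven_dvd (ZMod.card 7) L' ((Subgroup.map_subtype_le L).trans hA)
    (by rw [hL']; exact h7)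
  rw [hL'] at hlist
  obtain ⟨P⟩ : Nonempty (Sylow 7 L) := inferInstance
  have hone : Nat.card (Sylow 7 L) = 1 := by
    have h1 := (Sylow.card_dvd_index P).trans (Subgroup.index_dvd_card _)
    have h2 : Nat.card (Sylow 7 L) % 7 = 1 := card_sylow_modEq_one 7 L
    have hpos : 0 < Nat.card (Sylow 7 L) := Nat.card_pos
    have h3 := Nat.le_of_dvd (by omega) h1
    rcases hlist with h | h | h | h
    · omega
    · rw [h] at h1 h3
      interval_cases hh : Nat.card (Sylow 7 L) <;> omega
    · omega
    · omega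
  haveI : Subsingleton (Sylow 7 L) := (Nat.card_eq_one_iff_unique.1 hone).1
  haveI : (P : Subgroup L).Characteristic := P.characteristic_of_subsingleton
  haveI : L.Normal := hL
  set Q : Subgroup K := (P : Subgroup L).map L.subtype
  haveI : Q.Normal := ConjAct.normal_of_characteristic_of_normal
  have hQ : Nat.card Q = 7 := by
    rw [Subgroup.card_map_of_injective L.subtype_injective, P.card_eq_multiplicity]
    rcases hlist with h | h | h | h
    · rw [h, Nat.Prime.factorization_self (by norm_num : Nat.Prime 7), pow_one]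
    · rw [h, show (21 : ℕ) = 7 ^ 1 * 3 from rfl, Nat.factorization_mul (by norm_num) (by norm_num),
        Finsupp.add_apply, Nat.factorization_pow_self (by norm_num : Nat.Prime 7),
        Nat.factorization_eq_zero_of_not_dvd (by norm_num : ¬ 7 ∣ 3)]
      norm_num
    · omega
    · omega
  have hcQ : (⟨cyc7, hc⟩ : K) ∈ Q := by
    have h1 := orderOf_dvd_natCard (QuotientGroup.mk' Q ⟨cyc7, hc⟩)
    have h2 := orderOf_map_dvd (QuotientGroup.mk' Q) ⟨cyc7, hc⟩
    rw [← Subgroup.index_eq_card] at h1
    have hidx := Q.card_mul_index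
    rw [hQ, h168] at hidx
    rw [show Q.index = 24 by omega] at h1
    rw [Subgroup.orderOf_mk, show orderOf cyc7 = 7 from orderOf_eq_prime
      (Equiv.ext fun i => by rw [cyc7_pow]; revert i; decide) (by decide)] at h2
    exact (QuotientGroup.eq_one_iff _).1
      (orderOf_eq_one_iff.1 (Nat.eq_one_of_dvd_coprimes (by norm_num) h1 h2))
  -- the normaliser of the translation is too small
  have haff : ∀ y : K, ∃ m : ℕ, ∀ i : ZMod 7, (y : Perm (ZMod 7)) (i + 1) =
      (y : Perm (ZMod 7)) i + (m : ZMod 7) := by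
    intro y
    have hQeq : Q = Subgroup.zpowers (⟨cyc7, hc⟩ : K) :=
      (Subgroup.eq_of_le_of_card_ge (Subgroup.zpowers_le.2 hcQ) (by
        rw [hQ, Nat.card_zpowers, Subgroup.orderOf_mk, show orderOf cyc7 = 7 from orderOf_eq_prime
          (Equiv.ext fun i => by rw [cyc7_pow]; revert i; decide) (by decide)])).symm
    have h1 := (inferInstance : Q.Normal).conj_mem _ hcQ y
    rw [hQeq] at h1
    obtain ⟨n, hn⟩ := (Submonoid.mem_powers_iff _ _).1 (mem_powers_iff_mem_zpowers.2 h1)
    have hn' : cyc7 ^ n = (y : Perm (ZMod 7)) * cyc7 * (y : Perm (ZMod 7))⁻¹ := by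
      simpa using congrArg Subtype.val hn
    refine ⟨n, fun i => ?_⟩
    have h2 := DFunLike.congr_fun hn' ((y : Perm (ZMod 7)) i)
    rw [cyc7_pow, Perm.mul_apply, Perm.mul_apply,
      show (y : Perm (ZMod 7))⁻¹ ((y : Perm (ZMod 7)) i) = i from Equiv.symm_apply_apply _ i] at h2
    exact h2.symm
  let f : K → ZMod 7 × ZMod 7 := fun y =>
    ((y : Perm (ZMod 7)) 1 - (y : Perm (ZMod 7)) 0, (y : Perm (ZMod 7)) 0)
  have hf : Function.Injective f := by
    intro y y' h
    simp only [f, Prod.mk.injEq] at h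
    obtain ⟨m, hm⟩ := haff y
    obtain ⟨m', hm'⟩ := haff y'
    have e1 : (m : ZMod 7) = m' := by
      have a1 := hm 0; have a2 := hm' 0
      rw [zero_add] at a1 a2
      linear_combination h.1 - a1 + a2
    have hall : ∀ k : ℕ, (y : Perm (ZMod 7)) k = (y' : Perm (ZMod 7)) k := by
      intro k
      induction k with
      | zero => simpa using h.2
      | succ k ih => rw [Nat.cast_succ, hm, hm', ih, e1]
    refine Subtype.ext (Equiv.ext fun i => ?_)
    simpa using hall i.val
  have := Nat.card_le_card_of_injective f hf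
  rw [h168, Nat.card_prod, Nat.card_eq_fintype_card (α := ZMod 7), ZMod.card] at this
  omega

/-- Eight labels: `none` is the zero vector. -/
def lab8 (s : Bool) : Option (ZMod 7) → (Fin 3 → ZMod 2)
  | none => 0
  | some i => lab s i

theorem lab8_inj : ∀ (s : Bool) (p q : Option (ZMod 7)), lab8 s p = lab8 s q → p = q := by
  decide +kernel

theorem lab8_surj : ∀ (s : Bool) (v : Fin 3 → ZMod 2), ∃ p, lab8 s p = v := by decide +kernel

theorem lab8_basis (s : Bool) (k : Fin 3) :
    lab8 s (some (if s then ![0, 6, 5] k else ![0, 1, 2] k)) = Pi.single k 1 := lab_basis s k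

/-- The linear part of a map of eight labels. -/
def matOf8 (s : Bool) (f : Option (ZMod 7) → Option (ZMod 7)) : Matrix (Fin 3) (Fin 3) (ZMod 2) :=
  fun r k => lab8 s (f (some (if s then ![0, 6, 5] k else ![0, 1, 2] k))) r + lab8 s (f none) r

/-- Candidate permutations commuting with `dbl7`. -/
def sw (a b : ZMod 7) : Option (ZMod 7) → Option (ZMod 7)
  | none => some 0
  | some i => ![none, some a, some (2 * a), some b, some (4 * a), some (4 * b), some (2 * b)] i

/-- The involution of each flag inverting `dbl7`. -/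
def tau (s : Bool) : ZMod 7 → ZMod 7 := if s then cand 1 6 else cand 1 3

/-- Test words. -/
def word (s w : Bool) (k : ZMod 7) (f : Option (ZMod 7) → Option (ZMod 7)) :
    Option (ZMod 7) → Option (ZMod 7) :=
  fun p => f (Option.map (fun i => if w then tau s (i + k) else i + k) p)

set_option maxRecDepth 100000 in
theorem sw_cases : ∀ (s : Bool) (a b : ZMod 7),
    (∀ p q, sw a b p = sw a b q → p = q) →
    (∀ p, lab8 s (sw a b p) = (matOf8 s (sw a b)).mulVec (lab8 s p) + lab8 s (sw a b none)) ∨
    (∃ (w : Bool) (k : ZMod 7), (∀ p, (word s w k (sw a b))^[30] p = p) ∧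
      ∃ p, (word s w k (sw a b))^[6] p ≠ p) ∨
    (s = false ∧ a = 4 ∧ b = 6) ∨ (s = true ∧ a = 2 ∧ b = 5) := by
  decide +kernel

theorem tau_linear : ∀ s i, (matOf s (tau s)).mulVec (lab s i) = lab s (tau s i) := by decide +kernel

theorem tau_spec : ∀ s i, tau s (tau s i) = i ∧ tau s (2 * i) = 4 * tau s i ∧ tau s 0 = 0 := by
  decide +kernel

theorem fixed_dbl : ∀ p : Option (ZMod 7), Option.map dbl7 p = p → p = none ∨ p = some 0 := by
  decide +kernel

/-- Exceptional odd permutation. -/
def oddPerm (s : Bool) : Perm (Option (ZMod 7)) :=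
  if s then
    swap none (some 0) * (swap (some 1) (some 2) * swap (some 2) (some 4)) *
      (swap (some 3) (some 5) * swap (some 5) (some 6))
  else
    swap none (some 0) * (swap (some 1) (some 4) * swap (some 4) (some 2)) *
      (swap (some 3) (some 6) * swap (some 6) (some 5))

theorem oddPerm_spec : (∀ p, sw 4 6 p = oddPerm false p) ∧ (∀ p, sw 2 5 p = oddPerm true p) := by
  decide +kernel

theorem sign_oddPerm (s : Bool) : Perm.sign (oddPerm s) = -1 := by
  unfold oddPerm
  split <;> rw [map_mul, map_mul, map_mul, map_mul, Perm.sign_swap (by decide),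
    Perm.sign_swap (by decide), Perm.sign_swap (by decide), Perm.sign_swap (by decide),
    Perm.sign_swap (by decide)] <;> rfl

theorem sw_four : ∀ (a : ZMod 7), (4 : ZMod 7) * a = 2 * (2 * a) := by decide +kernel

/-- Permutations fixing `none`. -/
def optHom : Perm (ZMod 7) →* Perm (Option (ZMod 7)) :=
  MonoidHom.mk' Equiv.optionCongr fun π π' => Equiv.ext fun p => by cases p <;> rfl

theorem optHom_injective : Function.Injective optHom := Equiv.optionCongr_injective

/-- The affine group in a labelling. -/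
def affSub (s : Bool) : Subgroup (Perm (Option (ZMod 7))) where
  carrier := {π | ∃ (A : GL32) (w : Fin 3 → ZMod 2), ∀ p, lab8 s (π p) = A.1.mulVec (lab8 s p) + w}
  one_mem' := ⟨1, 0, fun p => by simp⟩
  mul_mem' := fun {π π'} ⟨A, w, hA⟩ ⟨B, v, hB⟩ => ⟨A * B, A.1.mulVec v + w, fun p => by
    rw [Perm.mul_apply, hA, hB, Matrix.mulVec_add, Matrix.mulVec_mulVec, Units.val_mul, add_assoc]⟩
  inv_mem' := fun {π} ⟨A, w, hA⟩ => ⟨A⁻¹, -((A⁻¹).1.mulVec w), fun p => by
    have h := hA (π⁻¹ p)
    rw [show π (π⁻¹ p) = p from π.apply_symm_apply p] at h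
    rw [h, Matrix.mulVec_add, Matrix.mulVec_mulVec, ← Units.val_mul, inv_mul_cancel, Units.val_one,
      Matrix.one_mulVec, add_neg_cancel_right]⟩

theorem mem_affSub {s : Bool} {π : Perm (Option (ZMod 7))} (A : Matrix (Fin 3) (Fin 3) (ZMod 2))
    (w : Fin 3 → ZMod 2) (h : ∀ p, lab8 s (π p) = A.mulVec (lab8 s p) + w) : π ∈ affSub s := by
  have hinj : Function.Injective A.mulVec := by
    intro u v huv
    obtain ⟨p, rfl⟩ := lab8_surj s u
    obtain ⟨q, rfl⟩ := lab8_surj s v
    have : lab8 s (π p) = lab8 s (π q) := by rw [h, h, huv]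
    rw [π.injective (lab8_inj s _ _ this)]
  exact ⟨(Matrix.mulVec_injective_iff_isUnit.1 hinj).unit, w, h⟩

/-- A subgroup of the affine group with no normal 2-subgroup has order at most 168. -/
theorem card_le_of_affine (s : Bool) (H : Subgroup (Perm (Option (ZMod 7)))) (hle : H ≤ affSub s)
    (h2 : Cfsg.pCore 2 H = ⊥) : Nat.card H ≤ 168 := by
  choose A w hA using fun h : H => hle h.2
  have huniq : ∀ (h : H) (B : GL32) (v : Fin 3 → ZMod 2),
      (∀ p, lab8 s ((h : Perm _) p) = B.1.mulVec (lab8 s p) + v) → B = A h := by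
    intro h B v hB
    have e0 : v = w h := by
      have a1 := hB none
      rw [hA h none] at a1
      simpa [lab8] using a1.symm
    refine Units.ext (Matrix.ext_of_mulVec_single fun k => ?_)
    have a1 := hB (some (if s then ![0, 6, 5] k else ![0, 1, 2] k))
    rw [hA h, e0, lab8_basis] at a1
    exact (add_right_cancel a1).symm
  let f : H →* GL32 := MonoidHom.mk' A fun h h' =>
    (huniq (h * h') (A h * A h') ((A h).1.mulVec (w h') + w h) fun p => by
      rw [Subgroup.coe_mul, Perm.mul_apply, hA, hA, Matrix.mulVec_add, Matrix.mulVec_mulVec,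
        Units.val_mul, add_assoc]).symm
  have hker : f.ker = ⊥ := by
    rw [eq_bot_iff, ← h2]
    refine CfsgLib.PLocal.le_pCore fun k => ⟨1, Subtype.ext (Subtype.ext (Equiv.ext fun p => ?_))⟩
    have hk : A k.1 = 1 := k.2
    have h1 : ∀ q, lab8 s ((k.1 : Perm _) q) = lab8 s q + w k.1 := fun q => by
      rw [hA, hk, Units.val_one, Matrix.one_mulVec]
    refine lab8_inj s _ _ ?_
    show lab8 s (((k.1 : H) ^ (2 ^ 1) : H).1 p) = lab8 s p
    rw [pow_one, pow_two, Subgroup.coe_mul, Perm.mul_apply, h1, h1, add_assoc]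
    ext r
    have h22 : ∀ x : ZMod 2, x + x = 0 := by decide
    rw [Pi.add_apply, Pi.add_apply, h22, add_zero]
  rw [← card_GL32]
  exact Nat.card_le_card_of_injective f ((MonoidHom.ker_eq_bot_iff f).1 hker)

/-- The case in coordinates. -/
theorem false_of_1344_coord (H : Subgroup (Perm (Option (ZMod 7))))
    (hA : H ≤ alternatingGroup (Option (ZMod 7))) (htr : ∀ p, ∃ h ∈ H, h none = p)
    (hc : optHom cyc7 ∈ H) (hG : Nat.card (H.comap optHom) = 168)
    (hH : Nat.card H = 1344) (h2 : Cfsg.pCore 2 H = ⊥) : False := by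
  classical
  haveI : Fact (Nat.Prime 3) := ⟨Nat.prime_three⟩
  set G := H.comap optHom with hGdef
  have hGA : G ≤ alternatingGroup (ZMod 7) := fun π hπ => by
    have h := Equiv.Perm.mem_alternatingGroup.1 (hA hπ)
    rw [Equiv.Perm.mem_alternatingGroup, ← Equiv.optionCongr_sign π]
    exact h
  haveI := simple_of_card_168 G hGA hc hG
  obtain ⟨s, hs⟩ := exists_flag G hG hc
  have hd : dbl7 ∈ G := by
    rw [hs]
    exact mem_linSub (lab_dbl s) 2 (by decide)
  have hd3 : orderOf dbl7 = 3 := orderOf_eq_prime (by decide) (by decide)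
  have hinvol : Function.Involutive (tau s) := fun i => (tau_spec s i).1
  set t : Perm (ZMod 7) := hinvol.toPerm with htdef
  have ht : t ∈ G := by
    rw [hs]
    refine mem_linSub (fun i => ?_) 1 (Equiv.ext fun i => by rw [pow_two]; exact hinvol i)
    exact tau_linear s i
  -- every element fixing `none` comes from `G`
  have hfix : ∀ h ∈ H, h none = none → ∃ π ∈ G, optHom π = h := by
    intro h hh hn
    refine ⟨Equiv.removeNone h, ?_, ?_⟩
    · show (Equiv.removeNone h).optionCongr ∈ H
      rw [map_equiv_removeNone, hn, Equiv.swap_self]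
      simpa [← Perm.one_def] using hh
    · show (Equiv.removeNone h).optionCongr = h
      rw [map_equiv_removeNone, hn, Equiv.swap_self]
      simp [← Perm.one_def]
  set Y := optHom dbl7 with hY
  have hY1 : Y ≠ 1 := fun h => by
    have := optHom_injective (h.trans (map_one optHom).symm)
    rw [this, orderOf_one] at hd3
    omega
  obtain ⟨s₁, hs₁H, hs₁0, hs₁Y⟩ : ∃ s₁ ∈ H, s₁ (some 0) = none ∧
      (s₁ * Y = Y * s₁ ∨ s₁ * Y = Y⁻¹ * s₁) := by
    obtain ⟨h0, hh0, hh0'⟩ := htr (some 0)
    set j := h0⁻¹ with hj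
    have hj0 : j (some 0) = none := by rw [hj, ← hh0']; exact h0.symm_apply_apply none
    have hjH : j ∈ H := inv_mem hh0
    have hYfix : Y (some 0) = some 0 := by decide
    obtain ⟨π, hπG, hπ⟩ := hfix (j * Y * j⁻¹) (mul_mem (mul_mem hjH hd) (inv_mem hjH)) (by
      rw [Perm.mul_apply, Perm.mul_apply]
      have : j⁻¹ none = some 0 := by rw [← hj0]; exact j.symm_apply_apply _
      rw [this, hYfix, hj0])
    have hπ3 : orderOf π = 3 := by
      have hjj : orderOf (j * Y * j⁻¹) = orderOf Y := orderOf_injective (MulAut.conj j).toMonoidHom (MulAut.conj j).injective Y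
      rw [← orderOf_injective optHom optHom_injective, hπ, hjj, hY,
        orderOf_injective optHom optHom_injective, hd3]
    have hsyl : ∀ (ρ : Perm (ZMod 7)) (hρ : ρ ∈ G), orderOf ρ = 3 →
        Nat.card (Subgroup.zpowers (⟨ρ, hρ⟩ : G)) = 3 ^ (Nat.card G).factorization 3 := by
      intro ρ hρ h
      rw [Nat.card_zpowers, Subgroup.orderOf_mk, h, hG, show (168 : ℕ) = 3 ^ 1 * 56 from rfl,
        Nat.factorization_mul (by norm_num) (by norm_num), Finsupp.add_apply,
        Nat.factorization_pow_self Nat.prime_three,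
        Nat.factorization_eq_zero_of_not_dvd (by norm_num : ¬ 3 ∣ 56)]
      norm_num
    obtain ⟨k, hk⟩ := MulAction.exists_smul_eq G (Sylow.ofCard _ (hsyl π hπG hπ3))
      (Sylow.ofCard _ (hsyl dbl7 hd hd3))
    have hmem : k * (⟨π, hπG⟩ : G) * k⁻¹ ∈ Subgroup.zpowers (⟨dbl7, hd⟩ : G) := by
      have h1 : MulAut.conj k (⟨π, hπG⟩ : G) ∈
          ((k • Sylow.ofCard _ (hsyl π hπG hπ3) : Sylow 3 G) : Subgroup G) :=
        Subgroup.smul_mem_pointwise_smul _ _ _ (Subgroup.mem_zpowers _)
      rw [hk] at h1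
      exact h1
    obtain ⟨n, hn⟩ := (Submonoid.mem_powers_iff _ _).1 (mem_powers_iff_mem_zpowers.2 hmem)
    have hn' : dbl7 ^ n = (k : Perm (ZMod 7)) * π * (k : Perm (ZMod 7))⁻¹ := by
      simpa using congrArg Subtype.val hn
    have hn'' : Y ^ n = optHom (k : Perm (ZMod 7)) * j * Y * (optHom (k : Perm (ZMod 7)) * j)⁻¹ := by
      rw [hY, ← map_pow, hn', map_mul, map_mul, map_inv, hπ, hY]
      group
    refine ⟨optHom (k : Perm (ZMod 7)) * j, mul_mem k.2 hjH, ?_, ?_⟩
    · rw [Perm.mul_apply, hj0]; rfl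
    have hY3 : Y ^ 3 = 1 := by rw [hY, ← map_pow, orderOf_dvd_iff_pow_eq_one.1 (dvd_of_eq hd3), map_one]
    rw [pow_eq_pow_mod n hY3] at hn''
    have hlt := Nat.mod_lt n (show 0 < 3 by norm_num)
    generalize n % 3 = r at hn'' hlt
    interval_cases r
    · exfalso
      rw [pow_zero, eq_mul_inv_iff_mul_eq, one_mul, eq_comm, mul_eq_left] at hn''
      exact hY1 hn''
    · left
      rw [pow_one, eq_mul_inv_iff_mul_eq] at hn''
      exact hn''.symm
    · right
      rw [eq_mul_inv_iff_mul_eq] at hn''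
      rw [← hn'']
      congr 1
      exact eq_inv_of_mul_eq_one_left (by rw [← pow_succ, hY3])
  obtain ⟨σ, hσH, hσ0, hσY⟩ : ∃ σ ∈ H, σ (some 0) = none ∧ σ * Y = Y * σ := by
    rcases hs₁Y with h | h
    · exact ⟨s₁, hs₁H, hs₁0, h⟩
    · refine ⟨optHom t * s₁, mul_mem ht hs₁H, by rw [Perm.mul_apply, hs₁0]; rfl, ?_⟩
      rw [mul_assoc, h, ← mul_assoc, ← mul_assoc]
      congr 1
      rw [hY, ← map_inv, ← map_mul, ← map_mul]
      congr 1
      refine Equiv.ext fun i => ?_
      show tau s (4 * i) = 2 * tau s i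
      have h4 : (4 : ZMod 7) * i = 2 * (2 * i) := sw_four i
      rw [h4, (tau_spec s _).2.1, (tau_spec s i).2.1]
      exact (four_four _)
  have hσn : σ none = some 0 := by
    have h := DFunLike.congr_fun hσY none
    rw [Perm.mul_apply, Perm.mul_apply, show Y none = none from rfl] at h
    rcases fixed_dbl (σ none) h.symm with h' | h'
    · exact absurd (σ.injective (h'.trans hσ0.symm)) (by decide)
    · exact h'
  have hne : ∀ i : ZMod 7, i ≠ 0 → ∃ c, σ (some i) = some c := by
    intro i hi
    rcases hc' : σ (some i) with _ | c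
    · exact absurd (Option.some_injective _ (σ.injective (hc'.trans hσ0.symm))) hi
    · exact ⟨c, rfl⟩
  obtain ⟨a, ha⟩ := hne 1 (by decide)
  obtain ⟨b, hb⟩ := hne 3 (by decide)
  have hσd : ∀ i : ZMod 7, σ (some (2 * i)) = Option.map dbl7 (σ (some i)) := fun i =>
    DFunLike.congr_fun hσY (some i)
  have hsw : ∀ p, σ p = sw a b p := by
    have e2 : σ (some 2) = some (2 * a) := by
      have h := hσd 1; rw [ha, show (2 : ZMod 7) * 1 = 2 by decide] at h; exact h
    have e4 : σ (some 4) = some (4 * a) := by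
      have h := hσd 2
      rw [e2, show (2 : ZMod 7) * 2 = 4 by decide] at h
      rw [h, sw_four a]; rfl
    have e6 : σ (some 6) = some (2 * b) := by
      have h := hσd 3; rw [hb, show (2 : ZMod 7) * 3 = 6 by decide] at h; exact h
    have e5 : σ (some 5) = some (4 * b) := by
      have h := hσd 6
      rw [e6, show (2 : ZMod 7) * 6 = 5 by decide] at h
      rw [h, sw_four b]; rfl
    intro p
    rcases p with _ | i
    · exact hσn
    · fin_cases i
      exacts [hσ0, ha, e2, hb, e4, e5, e6]
  rcases sw_cases s a b (fun p q h => σ.injective (by rw [hsw, hsw, h])) with h | ⟨w, k, h30, q, hq⟩ |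
      ⟨rfl, rfl, rfl⟩ | ⟨rfl, rfl, rfl⟩
  · -- affine
    have hσA : σ ∈ affSub s := mem_affSub (matOf8 s (sw a b)) (lab8 s (sw a b none)) fun p => by
      rw [hsw]; exact h p
    have hGA' : ∀ π ∈ G, optHom π ∈ affSub s := by
      intro π hπ
      rw [hs] at hπ
      obtain ⟨B, hB⟩ := hπ
      refine ⟨B, 0, fun p => ?_⟩
      rcases p with _ | i
      · simp [lab8, optHom]
      · rw [add_zero]; exact (hB i).symm
    have hcyc : ∀ c : ZMod 7, optHom (cyc7 ^ c.val) (some 0) = some c := fun c => by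
      show some ((cyc7 ^ c.val) 0) = some c
      rw [cyc7_pow, ZMod.natCast_zmod_val, zero_add]
    have hle : H ≤ affSub s := by
      intro h hh
      obtain ⟨k, hk, hkA, hkh⟩ : ∃ k ∈ H, k ∈ affSub s ∧ k none = h none := by
        rcases hhn : h none with _ | c
        · exact ⟨1, one_mem _, one_mem _, rfl⟩
        · refine ⟨optHom (cyc7 ^ c.val) * σ, mul_mem ?_ hσH,
            mul_mem (hGA' _ (pow_mem (show cyc7 ∈ G from hc) c.val)) hσA, ?_⟩
          · rw [map_pow]; exact pow_mem hc _
          · rw [Perm.mul_apply, hσn, hcyc]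
      obtain ⟨π, hπ, hπe⟩ := hfix (k⁻¹ * h) (mul_mem (inv_mem hk) hh) (by
        rw [Perm.mul_apply, ← hkh]; exact k.symm_apply_apply none)
      have := mul_mem hkA (hGA' π hπ)
      rwa [hπe, mul_inv_cancel_left] at this
    have := card_le_of_affine s H hle h2
    omega
  · -- an element of order divisible by 5
    obtain ⟨g, hgH, hg⟩ : ∃ g ∈ H, (g : Option (ZMod 7) → Option (ZMod 7)) = word s w k (sw a b) := by
      have hck : optHom (cyc7 ^ k.val) ∈ H := by rw [map_pow]; exact pow_mem hc _
      cases w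
      · refine ⟨σ * optHom (cyc7 ^ k.val), mul_mem hσH hck, funext fun p => ?_⟩
        rw [Perm.mul_apply, hsw]
        refine congrArg (sw a b) ?_
        rcases p with _ | i
        · rfl
        · show some ((cyc7 ^ k.val) i) = _
          rw [cyc7_pow, ZMod.natCast_zmod_val]; rfl
      · refine ⟨σ * optHom t * optHom (cyc7 ^ k.val), mul_mem (mul_mem hσH ht) hck, funext fun p => ?_⟩
        rw [Perm.mul_apply, Perm.mul_apply, hsw]
        refine congrArg (sw a b) ?_
        rcases p with _ | i
        · rfl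
        · show some (tau s ((cyc7 ^ k.val) i)) = _
          rw [cyc7_pow, ZMod.natCast_zmod_val]; rfl
    have hd30 : orderOf g ∣ 30 := orderOf_dvd_of_pow_eq_one (Equiv.ext fun p => by
      rw [Perm.coe_pow, hg]; exact h30 p)
    have hd6 : ¬ orderOf g ∣ 6 := fun h => hq (by
      rw [← hg, ← Perm.coe_pow, orderOf_dvd_iff_pow_eq_one.1 h]; rfl)
    have hd1344 : orderOf g ∣ 1344 := hH ▸ H.orderOf_dvd_natCard hgH
    exact hd6 ((Nat.dvd_gcd hd30 hd1344).trans (by norm_num))
  · have h := Equiv.Perm.mem_alternatingGroup.1 (hA hσH)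
    rw [show σ = oddPerm false from Equiv.ext fun p => by rw [hsw, oddPerm_spec.1], sign_oddPerm] at h
    exact absurd h (by decide)
  · have h := Equiv.Perm.mem_alternatingGroup.1 (hA hσH)
    rw [show σ = oddPerm true from Equiv.ext fun p => by rw [hsw, oddPerm_spec.2], sign_oddPerm] at h
    exact absurd h (by decide)

end CfsgLib.GLFourTwo
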