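import Cfsg.Agent.GLFourTwo.SubgroupsSmall
import Mathlib

/-!
# Subgroups of order divisible by 7 in the alternating group of degree 7
-/

set_option autoImplicit false

namespace CfsgLib.GLFourTwo

open Equiv MulAction Cfsg

/-- `i ↦ b - i`. -/
def refl7 (b : ZMod 7) : Perm (ZMod 7) where
  toFun i := b - i
  invFun i := b - i
  left_inv i := sub_sub_cancel b i
  right_inv i := sub_sub_cancel b i

theorem sign_refl7 : ∀ b, Perm.sign (refl7 b) = -1 := by decide +kernel

theorem affine_order_two : ∀ m b : ZMod 7, (∀ i, m * (m * i + b) + b = i) →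
    (∀ i, m * i + b = i) ∨ m = -1 := by decide +kernel

theorem affine_order_five : ∀ m b : ZMod 7, (∀ i, (fun j => m * j + b)^[5] i = i) →
    ∀ i, m * i + b = i := by decide +kernel

/-- There is no permutation of seven points of order 15. -/
theorem orderOf_ne_fifteen {α : Type*} [Fintype α] [DecidableEq α] (hα : Fintype.card α ≤ 7)
    (g : Perm α) : orderOf g ≠ 15 := by
  intro h
  have hl : g.cycleType.lcm = 15 := (Equiv.Perm.lcm_cycleType g).trans h
  have hparts : ∀ n ∈ g.cycleType, n = 3 ∨ n = 5 := by
    intro n hn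
    have h1 := Equiv.Perm.two_le_of_mem_cycleType hn
    have h2 : n ∣ 15 := hl ▸ Multiset.dvd_lcm hn
    have h3 : n ≤ 7 := ((Multiset.le_sum_of_mem hn).trans
      (le_of_eq (Equiv.Perm.sum_cycleType g))).trans ((Finset.card_le_univ _).trans hα)
    interval_cases n <;> omega
  have h5 : 5 ∈ g.cycleType := by
    by_contra h5
    have hd : g.cycleType.lcm ∣ 3 := Multiset.lcm_dvd.2 fun n hn => by
      rcases hparts n hn with rfl | rfl
      exacts [dvd_rfl, absurd hn h5]
    rw [hl] at hd
    omega
  have h3 : 3 ∈ g.cycleType := by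
    by_contra h3
    have hd : g.cycleType.lcm ∣ 5 := Multiset.lcm_dvd.2 fun n hn => by
      rcases hparts n hn with rfl | rfl
      exacts [absurd hn h3, dvd_rfl]
    rw [hl] at hd
    omega
  obtain ⟨r, hr⟩ := Multiset.exists_cons_of_mem h5
  rw [hr, Multiset.mem_cons] at h3
  obtain ⟨r', hr'⟩ := Multiset.exists_cons_of_mem (h3.resolve_left (by norm_num))
  have hs := congrArg Multiset.sum hr
  rw [hr', Multiset.sum_cons, Multiset.sum_cons, Equiv.Perm.sum_cycleType] at hs
  have := (Finset.card_le_univ g.support).trans hα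
  omega

/-- In a transitive group of prime degree a normal subgroup of coprime order is trivial. -/
theorem normal_eq_bot_of_coprime {α : Type*} [Finite α] (K : Subgroup (Perm α))
    [IsPretransitive K α] (L : Subgroup K) [L.Normal]
    (hL : (Nat.card L).Coprime (Nat.card α)) : L = ⊥ := by
  rw [eq_bot_iff]
  intro l hl
  rw [Subgroup.mem_bot]
  refine Subtype.ext (Equiv.ext fun a => ?_)
  have hblock : IsBlock K (orbit L a) := IsBlock.orbit_of_normal a
  have h1 : (orbit L a).ncard ∣ Nat.card α :=
    IsBlock.ncard_dvd_card hblock ⟨a, mem_orbit_self a⟩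
  have h2 : (orbit L a).ncard ∣ Nat.card L := by
    rw [← index_stabilizer]
    exact Subgroup.index_dvd_card _
  have hone : (orbit L a).ncard = 1 := Nat.eq_one_of_dvd_coprimes hL h2 h1
  obtain ⟨b, hb⟩ := Set.ncard_eq_one.1 hone
  have ha : a ∈ orbit L a := mem_orbit_self a
  have hla : (l : Perm α) a ∈ orbit L a := ⟨⟨l, hl⟩, rfl⟩
  rw [hb, Set.mem_singleton_iff] at ha hla
  show (l : Perm α) a = a
  rw [hla, ← ha]

/-- Orders of subgroups of `A₇` containing a 7-cycle, in coordinates. -/
theorem card_of_cyc7_mem (K : Subgroup (Perm (ZMod 7))) (hA : K ≤ alternatingGroup (ZMod 7))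
    (hc : cyc7 ∈ K) :
    Nat.card K = 7 ∨ Nat.card K = 21 ∨ Nat.card K = 168 ∨ Nat.card K = 2520 := by
  classical
  haveI : Fact (Nat.Prime 7) := ⟨by norm_num⟩
  haveI : Fact (Nat.Prime 5) := ⟨by norm_num⟩
  haveI : Fact (Nat.Prime 3) := ⟨Nat.prime_three⟩
  haveI : IsPretransitive K (ZMod 7) := ⟨fun i j => ⟨⟨cyc7 ^ (j - i).val, pow_mem hc _⟩, by
    show (cyc7 ^ (j - i).val) i = j
    rw [cyc7_pow, ZMod.natCast_zmod_val, add_sub_cancel]⟩⟩
  have halt : Nat.card (alternatingGroup (ZMod 7)) = 2520 := by
    have h := two_mul_nat_card_alternatingGroup (α := ZMod 7)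
    rw [Nat.card_perm, Nat.card_eq_fintype_card (α := ZMod 7), ZMod.card,
      show (7 : ℕ).factorial = 5040 from rfl] at h
    omega
  have hd : Nat.card K ∣ 2520 := halt ▸ Subgroup.card_dvd_of_le hA
  have hc7 : orderOf cyc7 = 7 := by
    refine orderOf_eq_prime ?_ (by decide)
    exact Equiv.ext fun i => by rw [cyc7_pow]; revert i; decide
  obtain ⟨P, hcP⟩ := (IsPGroup.of_card (n := 1)
    (by rw [Nat.card_zpowers, Subgroup.orderOf_mk, hc7, pow_one]) :
      IsPGroup 7 ↥(Subgroup.zpowers (⟨cyc7, hc⟩ : K))).exists_le_sylow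
  have hP : Nat.card (P : Subgroup K) = 7 := by
    obtain ⟨n, hn⟩ := IsPGroup.iff_card.1 P.2
    have h1 := Subgroup.card_dvd_of_le hcP
    rw [Nat.card_zpowers, Subgroup.orderOf_mk, hc7, hn] at h1
    have h2 := ((P : Subgroup K).card_subgroup_dvd_card).trans hd
    rw [hn] at h2
    rw [hn]
    rcases n with _ | _ | n
    · omega
    · rfl
    · exfalso
      have h49 : 7 ^ 2 ∣ 2520 := (pow_dvd_pow 7 (by omega)).trans h2
      norm_num at h49
  have hPeq : (P : Subgroup K) = Subgroup.zpowers (⟨cyc7, hc⟩ : K) :=
    (Subgroup.eq_of_le_of_card_ge hcP (by rw [hP, Nat.card_zpowers, Subgroup.orderOf_mk, hc7])).symm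
  set N := Subgroup.normalizer ((P : Subgroup K) : Set K) with hN
  -- elements of the normaliser are affine
  have haff : ∀ y : K, y ∈ N → ∀ i : ZMod 7, (y : Perm (ZMod 7)) i =
      ((y : Perm (ZMod 7)) 1 - (y : Perm (ZMod 7)) 0) * i + (y : Perm (ZMod 7)) 0 := by
    intro y hy
    have h1 := (Subgroup.mem_normalizer_iff.1 hy (⟨cyc7, hc⟩ : K)).1 (hcP (Subgroup.mem_zpowers _))
    rw [hPeq] at h1
    obtain ⟨n, hn⟩ := (Submonoid.mem_powers_iff _ _).1 (mem_powers_iff_mem_zpowers.2 h1)
    have hn' : cyc7 ^ n = (y : Perm (ZMod 7)) * cyc7 * (y : Perm (ZMod 7))⁻¹ := by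
      simpa using congrArg Subtype.val hn
    set π := (y : Perm (ZMod 7))
    have hstep : ∀ i, π (i + 1) = π i + (n : ZMod 7) := fun i => by
      have h2 := DFunLike.congr_fun hn' (π i)
      rw [cyc7_pow, Perm.mul_apply, Perm.mul_apply, show π⁻¹ (π i) = i from π.symm_apply_apply i] at h2
      exact h2.symm
    have hall : ∀ k : ℕ, π (k : ZMod 7) = (n : ZMod 7) * k + π 0 := by
      intro k
      induction k with
      | zero => simp
      | succ k ih => rw [Nat.cast_succ, hstep, ih]; ring
    intro i
    have hi := hall i.val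
    rw [ZMod.natCast_zmod_val] at hi
    have h1' := hall 1
    rw [Nat.cast_one, mul_one] at h1'
    rw [hi, h1']; ring
  have hN42 : Nat.card N ≤ 42 := by
    let f : N → {m : ZMod 7 // m ≠ 0} × ZMod 7 := fun y =>
      (⟨((y : K) : Perm (ZMod 7)) 1 - ((y : K) : Perm (ZMod 7)) 0,
        sub_ne_zero.2 fun h => one_ne_zero (((y : K) : Perm (ZMod 7)).injective h)⟩,
        ((y : K) : Perm (ZMod 7)) 0)
    have hf : Function.Injective f := by
      intro y y' h
      simp only [f, Prod.mk.injEq, Subtype.mk.injEq] at h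
      refine Subtype.ext (Subtype.ext (Equiv.ext fun i => ?_))
      rw [haff _ y.2 i, haff _ y'.2 i, h.1, h.2]
    refine (Nat.card_le_card_of_injective f hf).trans (le_of_eq ?_)
    rw [Nat.card_eq_fintype_card, Fintype.card_prod, Fintype.card_subtype_compl,
      Fintype.card_subtype_eq, ZMod.card]
  have hodd : ¬ 2 ∣ Nat.card N := by
    intro h2
    haveI : Fact (Nat.Prime 2) := ⟨Nat.prime_two⟩
    obtain ⟨y, hy⟩ := exists_prime_orderOf_dvd_card' (G := N) 2 h2
    set π := ((y : K) : Perm (ZMod 7)) with hπ
    have ho : orderOf π = 2 := by rw [hπ, Subgroup.orderOf_coe, Subgroup.orderOf_coe, hy]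
    have hππ : π ^ 2 = 1 := orderOf_dvd_iff_pow_eq_one.1 (dvd_of_eq ho)
    rcases affine_order_two (π 1 - π 0) (π 0) (fun i => by
      rw [← haff _ y.2 i, ← haff _ y.2]
      simpa [pow_two] using DFunLike.congr_fun hππ i) with h | h
    · rw [show π = 1 from Equiv.ext fun i => (haff _ y.2 i).trans (h i), orderOf_one] at ho
      omega
    · have hr : π = refl7 (π 0) := Equiv.ext fun i => by
        rw [haff _ y.2 i, h]
        show -1 * i + π 0 = π 0 - i
        ring
      have hs : Perm.sign π = 1 := Equiv.Perm.mem_alternatingGroup.1 (hA (y : K).2)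
      rw [hr, sign_refl7] at hs
      exact absurd hs (by decide)
  have hfive : ¬ 5 ∣ Nat.card N := by
    intro h5
    obtain ⟨y, hy⟩ := exists_prime_orderOf_dvd_card' (G := N) 5 h5
    set π := ((y : K) : Perm (ZMod 7)) with hπ
    have ho : orderOf π = 5 := by rw [hπ, Subgroup.orderOf_coe, Subgroup.orderOf_coe, hy]
    have h55 : π ^ 5 = 1 := orderOf_dvd_iff_pow_eq_one.1 (dvd_of_eq ho)
    have h := affine_order_five (π 1 - π 0) (π 0) (fun i => by
      rw [show (fun j => (π 1 - π 0) * j + π 0) = (π : ZMod 7 → ZMod 7) from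
        funext fun j => (haff _ y.2 j).symm, ← Perm.coe_pow, h55]
      rfl)
    rw [show π = 1 from Equiv.ext fun i => (haff _ y.2 i).trans (h i), orderOf_one] at ho
    omega
  have h7N : 7 ∣ Nat.card N := by
    have h1 := Subgroup.card_dvd_of_le (show (P : Subgroup K) ≤ N from Subgroup.le_normalizer)
    rwa [hP] at h1
  have hNd : Nat.card N ∣ 2520 := (Subgroup.card_subgroup_dvd_card N).trans hd
  have hNcases : Nat.card N = 7 ∨ Nat.card N = 21 := by
    obtain ⟨k, hk⟩ := h7N
    have : k ≤ 6 := by omega
    rw [hk] at hodd hfive hNd ⊢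
    interval_cases k <;> omega
  set n := Nat.card (Sylow 7 K) with hn
  have hindex : n = N.index := P.card_eq_index_normalizer
  have hmul : Nat.card K = n * Nat.card N := by rw [hindex, mul_comm, N.card_mul_index]
  have hmod : n % 7 = 1 := card_sylow_modEq_one 7 K
  rcases hNcases with hN7 | hN21
  · -- Burnside
    left
    have hPN : (P : Subgroup K) = N := Subgroup.eq_of_le_of_card_ge Subgroup.le_normalizer (by omega)
    have hab : IsMulCommutative ↥(P : Subgroup K) :=
      (isCyclic_of_prime_card hP).isMulCommutative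
    have hle : N ≤ Subgroup.centralizer ((P : Subgroup K) : Set K) := by
      rw [← hPN]
      exact fun a ha => Subgroup.mem_centralizer_iff.2 fun b hb =>
        congrArg Subtype.val (hab.is_comm.comm ⟨b, hb⟩ ⟨a, ha⟩)
    have hcompl := MonoidHom.ker_transferSylow_isComplement' P hle
    set L := (MonoidHom.transferSylow P hle).ker
    have hLP := hcompl.card_mul
    rw [hP] at hLP
    have hidx : Nat.card L = (P : Subgroup K).index := by
      have := (P : Subgroup K).card_mul_index
      rw [hP] at this
      omega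
    have hLbot : L = ⊥ := normal_eq_bot_of_coprime K L (by
      rw [hidx, Nat.card_eq_fintype_card, ZMod.card]
      exact (Nat.Prime.coprime_iff_not_dvd (by norm_num)).2 P.not_dvd_index |>.symm)
    rw [hLbot, Subgroup.card_bot] at hLP
    omega
  · rw [hN21] at hmul
    by_cases hKA : K = alternatingGroup (ZMod 7)
    · rw [hKA]; exact Or.inr (Or.inr (Or.inr halt))
    have hK7 : 7 ≤ K.index := by
      let e : ZMod 7 ≃ Fin 7 := Fintype.equivFinOfCardEq (ZMod.card 7)
      have h := Cfsg.Agent.S5944.result 7 (by norm_num) (K.map e.permCongrHom.toMonoidHom) ?_ ?_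
      · rw [MulEquiv.toMonoidHom_eq_coe, Subgroup.index_map_equiv] at h
        exact h
      · intro h
        have h1 : Nat.card (K.map e.permCongrHom.toMonoidHom) = Nat.card K :=
          Subgroup.card_map_of_injective e.permCongrHom.injective
        rw [h, Subgroup.card_top, Nat.card_perm, Nat.card_fin,
          show (7 : ℕ).factorial = 5040 from rfl] at h1
        have := Nat.le_of_dvd (by norm_num) hd
        omega
      · intro h
        refine hKA (Subgroup.eq_of_le_of_card_ge hA ?_)
        have h1 : Nat.card (K.map e.permCongrHom.toMonoidHom) = Nat.card K :=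
          Subgroup.card_map_of_injective e.permCongrHom.injective
        rw [h] at h1
        have := card_alt 7 (by norm_num)
        rw [show (7 : ℕ).factorial = 5040 from rfl] at this
        omega
    have htot := K.card_mul_index
    rw [Nat.card_perm, Nat.card_eq_fintype_card (α := ZMod 7), ZMod.card,
      show (7 : ℕ).factorial = 5040 from rfl] at htot
    have hK720 : Nat.card K ≤ 720 := by nlinarith
    have hn120 : n ∣ 120 := by
      rw [hmul, mul_comm, show (2520 : ℕ) = 21 * 120 from rfl] at hd
      exact Nat.dvd_of_mul_dvd_mul_left (by norm_num) hd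
    have hn34 : n ≤ 34 := by omega
    have hn0 : 0 < n := Nat.card_pos
    interval_cases hnn : n <;> try omega
    · -- order 315
      exfalso
      have hK315 : Nat.card K = 315 := by omega
      obtain ⟨Q⟩ : Nonempty (Sylow 5 K) := inferInstance
      have hQ : Nat.card (Q : Subgroup K) = 5 := by
        rw [Q.card_eq_multiplicity, hK315, show (315 : ℕ) = 5 ^ 1 * 63 from rfl,
          Nat.factorization_mul (by norm_num) (by norm_num), Finsupp.add_apply,
          Nat.factorization_pow_self (by norm_num : Nat.Prime 5),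
          Nat.factorization_eq_zero_of_not_dvd (by norm_num : ¬ 5 ∣ 63)]
        norm_num
      have hQi : (Q : Subgroup K).index = 63 := by
        have := (Q : Subgroup K).card_mul_index
        rw [hQ, hK315] at this
        omega
      have h5a : Nat.card (Sylow 5 K) ∣ 63 := hQi ▸ Sylow.card_dvd_index Q
      have h5b : Nat.card (Sylow 5 K) % 5 = 1 := card_sylow_modEq_one 5 K
      have h5c : Nat.card (Sylow 5 K) = 1 ∨ Nat.card (Sylow 5 K) = 21 := by
        have hmem : Nat.card (Sylow 5 K) ∈ Nat.divisors 63 := Nat.mem_divisors.2 ⟨h5a, by norm_num⟩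
        have key : ∀ d ∈ Nat.divisors 63, d % 5 = 1 → d = 1 ∨ d = 21 := by decide +kernel
        exact key _ hmem h5b
      rcases h5c with h1 | h21
      · haveI : Subsingleton (Sylow 5 K) := (Nat.card_eq_one_iff_unique.1 h1).1
        haveI : (Q : Subgroup K).Normal := Q.normal_of_subsingleton
        have := normal_eq_bot_of_coprime K (Q : Subgroup K)
          (by rw [hQ, Nat.card_eq_fintype_card, ZMod.card]; norm_num)
        rw [this, Subgroup.card_bot] at hQ
        omega
      · set M := Subgroup.normalizer ((Q : Subgroup K) : Set K)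
        have hM : Nat.card M = 15 := by
          have := Q.card_eq_index_normalizer
          rw [h21] at this
          have h2 := M.card_mul_index
          rw [show M.index = 21 from this.symm, hK315] at h2
          omega
        obtain ⟨a, ha⟩ := exists_prime_orderOf_dvd_card' (G := M) 3 (by rw [hM]; norm_num)
        obtain ⟨b, hb⟩ := exists_prime_orderOf_dvd_card' (G := M) 5 (by rw [hM]; norm_num)
        set B := Subgroup.zpowers b
        have hB : B = (Q : Subgroup K).subgroupOf M := by
          haveI : ((Q : Subgroup K).subgroupOf M).Normal := Subgroup.normal_in_normalizer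
          have hq : Nat.card ((Q : Subgroup K).subgroupOf M) = 5 := by
            rw [Nat.card_congr (Subgroup.subgroupOfEquivOfLe Subgroup.le_normalizer).toEquiv, hQ]
          refine Subgroup.eq_of_le_of_card_ge ?_ (by rw [hq, Nat.card_zpowers, hb])
          rw [Subgroup.zpowers_le, ← QuotientGroup.eq_one_iff]
          have hqc : Nat.card (M ⧸ (Q : Subgroup K).subgroupOf M) = 3 := by
            rw [← Subgroup.index_eq_card]
            have := ((Q : Subgroup K).subgroupOf M).card_mul_index
            rw [hq, hM] at this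
            omega
          have h1 := orderOf_dvd_natCard (QuotientGroup.mk' ((Q : Subgroup K).subgroupOf M) b)
          have h2 := orderOf_map_dvd (QuotientGroup.mk' ((Q : Subgroup K).subgroupOf M)) b
          rw [hqc] at h1
          rw [hb] at h2
          exact orderOf_eq_one_iff.1 (Nat.eq_one_of_dvd_coprimes (by norm_num) h1 h2)
        have hmemB : a * b * a⁻¹ ∈ B := by
          rw [hB]
          exact (Subgroup.normal_in_normalizer (H := (Q : Subgroup K))).conj_mem b
            (hB ▸ Subgroup.mem_zpowers b) a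
        obtain ⟨k, hk⟩ := (Submonoid.mem_powers_iff _ _).1 (mem_powers_iff_mem_zpowers.2 hmemB)
        have hab : a * b = b * a := by
          rw [← pow_mod_orderOf, hb] at hk
          have hlt := Nat.mod_lt k (show 0 < 5 by norm_num)
          generalize k % 5 = r at hk hlt
          have hconj : ∀ j : ℕ, a * b ^ j * a⁻¹ = b ^ (r * j) := fun j => by
            rw [← conj_pow, ← hk, ← pow_mul]
          have ha3 : a ^ 3 = 1 := orderOf_dvd_iff_pow_eq_one.1 (dvd_of_eq ha)
          have h3 : b = b ^ (r * (r * r)) := by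
            calc b = a ^ 3 * b * (a ^ 3)⁻¹ := by rw [ha3]; group
              _ = a * (a * (a * b ^ 1 * a⁻¹) * a⁻¹) * a⁻¹ := by
                simp only [pow_succ, pow_zero, one_mul, mul_inv_rev, mul_assoc]
              _ = _ := by rw [hconj, mul_one, hconj, hconj]
          have hmodr : (r * (r * r)) % 5 = 1 := by
            have h' : b ^ 1 = b ^ (r * (r * r)) := by rw [pow_one]; exact h3
            rw [pow_eq_pow_iff_modEq, hb] at h'
            exact h'.symm
          have hr1 : r = 1 := by interval_cases r <;> omega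
          rw [hr1, pow_one, eq_mul_inv_iff_mul_eq] at hk
          exact hk.symm
        have h15 : orderOf ((((a * b : M) : K)) : Perm (ZMod 7)) = 15 := by
          rw [Subgroup.orderOf_coe, Subgroup.orderOf_coe,
            (show Commute a b from hab).orderOf_mul_eq_mul_orderOf_of_coprime
              (by rw [ha, hb]; norm_num), ha, hb]
        exact orderOf_ne_fifteen (by rw [ZMod.card]) _ h15

/-- Orders of subgroups of `A₇` of order divisible by 7. -/
theorem card_of_seven_dvd {α : Type*} [Fintype α] [DecidableEq α] (hα : Fintype.card α = 7)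
    (K : Subgroup (Perm α)) (hA : K ≤ alternatingGroup α) (h7 : 7 ∣ Nat.card K) :
    Nat.card K = 7 ∨ Nat.card K = 21 ∨ Nat.card K = 168 ∨ Nat.card K = 2520 := by
  haveI : Fact (Nat.Prime 7) := ⟨by norm_num⟩
  obtain ⟨x, hx⟩ := exists_prime_orderOf_dvd_card' (G := K) 7 h7
  have hx' : orderOf (x : Perm α) = 7 := by rw [Subgroup.orderOf_coe, hx]
  obtain ⟨e, he⟩ := CfsgLib.Perm.PrimeDegree.exists_coord (p := 7) hα (g := (x : Perm α))
    (fun h => by rw [h, orderOf_one] at hx'; omega) (orderOf_dvd_iff_pow_eq_one.1 (dvd_of_eq hx'))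
  let ψ := (e.symm : α ≃ ZMod 7).permCongrHom
  have hc := card_of_cyc7_mem (K.map ψ.toMonoidHom) ?_ ?_
  · rwa [Subgroup.card_map_of_injective ψ.injective] at hc
  · rintro _ ⟨π, hπ, rfl⟩
    have h1 := Equiv.Perm.mem_alternatingGroup.1 (hA hπ)
    rw [Equiv.Perm.mem_alternatingGroup]
    show Perm.sign ((e.symm : α ≃ ZMod 7).permCongr π) = 1
    rw [Equiv.Perm.sign_permCongr, h1]
  · exact ⟨x, x.2, Equiv.ext fun i => by
      show e.symm ((x : Perm α) (e i)) = i + 1
      rw [he]
      exact e.symm_apply_apply _⟩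

end CfsgLib.GLFourTwo
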